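import Cfsg.Agent.InvChar68.Pronormal.Block
import Cfsg.Agent.InvChar68.SL2Order4

/-!
# Sylow 2-subgroups of `GL(2, q)` and their normalisers
-/

set_option autoImplicit false

namespace Cfsg.Agent.InvChar68.Pronormal

open Matrix

variable {F : Type*} [Field F]

/-- `diag(a, b)`. -/
def mon (a b : F) : Matrix (Fin 2) (Fin 2) F := !![a, 0; 0, b]
/-- `antidiag(a, b)`. -/
def ant (a b : F) : Matrix (Fin 2) (Fin 2) F := !![0, a; b, 0]
/-- `a + b J`. -/
def dd (a b : F) : Matrix (Fin 2) (Fin 2) F := !![a, -b; b, a]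

theorem mon_mul_mon (a b c d : F) : mon a b * mon c d = mon (a * c) (b * d) := by
  simp [mon, Matrix.mul_fin_two]
theorem mon_mul_ant (a b c d : F) : mon a b * ant c d = ant (a * c) (b * d) := by
  simp [mon, ant, Matrix.mul_fin_two]
theorem ant_mul_mon (a b c d : F) : ant a b * mon c d = ant (a * d) (b * c) := by
  simp [mon, ant, Matrix.mul_fin_two]
theorem ant_mul_ant (a b c d : F) : ant a b * ant c d = mon (a * d) (b * c) := by
  simp [mon, ant, Matrix.mul_fin_two]
theorem mon_one : mon (1 : F) 1 = 1 := by simp [mon, Matrix.one_fin_two]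
theorem mon_pow (a b : F) : ∀ k : ℕ, mon a b ^ k = mon (a ^ k) (b ^ k)
  | 0 => by simp [mon_one]
  | k + 1 => by rw [pow_succ, mon_pow a b k, mon_mul_mon, pow_succ, pow_succ]
theorem dd_mul_dd (a b c d : F) : dd a b * dd c d = dd (a * c - b * d) (a * d + b * c) := by
  ext i j; fin_cases i <;> fin_cases j <;>
    simp [dd, Matrix.mul_apply, Fin.sum_univ_two] <;> ring
theorem dd_comm (a b c d : F) : Commute (dd a b) (dd c d) := by
  show _ * _ = _ * _
  rw [dd_mul_dd, dd_mul_dd]; congr 1 <;> ring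
theorem dd_zero (a : F) : dd a 0 = a • 1 := by
  ext i j; fin_cases i <;> fin_cases j <;> simp [dd]
theorem conj_dd (a b : F) : mon 1 (-1) * dd a b = dd a (-b) * mon 1 (-1) := by
  ext i j; fin_cases i <;> fin_cases j <;> simp [dd, mon, Matrix.mul_apply, Fin.sum_univ_two]
theorem det_mon (a b : F) : (mon a b).det = a * b := by simp [mon, det_fin_two]
theorem det_ant (a b : F) : (ant a b).det = -(a * b) := by simp [ant, det_fin_two]
theorem det_dd (a b : F) : (dd a b).det = a * a + b * b := by simp [dd, det_fin_two]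
theorem dd_inj {a b c d : F} (h : dd a b = dd c d) : a = c ∧ b = d := by
  refine ⟨?_, ?_⟩
  · simpa [dd] using congrFun (congrFun h 0) 0
  · simpa [dd] using congrFun (congrFun h 1) 0

variable [Fintype F]

/-- A submonoid of a finite group as a subgroup. -/
def ofFinite {G : Type*} [Group G] [Finite G] (M : Submonoid G) : Subgroup G where
  toSubmonoid := M
  inv_mem' {x} hx := by
    rw [inv_eq_of_mul_eq_one_left (a := x ^ (orderOf x - 1))
      (by rw [← pow_succ, Nat.sub_add_cancel (orderOf_pos x), pow_orderOf_eq_one])]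
    exact M.pow_mem hx _

theorem mem_ofFinite {G : Type*} [Group G] [Finite G] {M : Submonoid G} {x : G} :
    x ∈ ofFinite M ↔ x ∈ M := Iff.rfl

/-- Two-elements of a monoid. -/
def Two {M : Type*} [Monoid M] (a : M) : Prop := ∃ k : ℕ, a ^ 2 ^ k = 1

theorem Two.mul {M : Type*} [Monoid M] {a b : M} (hc : Commute a b) (ha : Two a) (hb : Two b) :
    Two (a * b) := by
  obtain ⟨k, hk⟩ := ha
  obtain ⟨l, hl⟩ := hb
  refine ⟨k + l, ?_⟩
  rw [hc.mul_pow, pow_add]
  nth_rewrite 1 [pow_mul]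
  rw [hk, one_pow, one_mul, mul_comm, pow_mul, hl, one_pow]

theorem Two.one {M : Type*} [Monoid M] : Two (1 : M) := ⟨0, one_pow _⟩

theorem two_of_pow_eq {M : Type*} [Monoid M] {a : M} (k : ℕ) (h : Two (a ^ 2 ^ k)) : Two a := by
  obtain ⟨l, hl⟩ := h
  exact ⟨k + l, by rw [pow_add, pow_mul, hl]⟩

theorem Two.inv₀ {a : F} (ha : Two a) : Two a⁻¹ := by
  obtain ⟨k, hk⟩ := ha
  exact ⟨k, by rw [inv_pow, hk, inv_one]⟩

theorem two_units {a : Fˣ} : Two (a : F) ↔ ∃ k : ℕ, a ^ 2 ^ k = 1 := by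
  refine exists_congr fun k => ?_
  rw [← Units.val_pow_eq_pow_val, Units.val_eq_one]

theorem two_neg_one : Two (-1 : F) := ⟨1, by norm_num⟩

/-! ### The split case -/

/-- Monomial matrices with 2-power entries. -/
def splitSyl (F : Type*) [Field F] [Fintype F] : Subgroup (GL (Fin 2) F) := ofFinite
  { carrier := {g | ∃ a b : F, Two a ∧ Two b ∧
      ((g : Matrix (Fin 2) (Fin 2) F) = mon a b ∨ (g : Matrix (Fin 2) (Fin 2) F) = ant a b)}
    one_mem' := ⟨1, 1, Two.one, Two.one, Or.inl (by rw [Units.val_one, mon_one])⟩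
    mul_mem' := by
      rintro g h ⟨a, b, ha, hb, eg | eg⟩ ⟨c, d, hc, hd, eh | eh⟩
      · exact ⟨_, _, ha.mul (Commute.all _ _) hc, hb.mul (Commute.all _ _) hd,
          Or.inl (by rw [Units.val_mul, eg, eh, mon_mul_mon])⟩
      · exact ⟨_, _, ha.mul (Commute.all _ _) hc, hb.mul (Commute.all _ _) hd,
          Or.inr (by rw [Units.val_mul, eg, eh, mon_mul_ant])⟩
      · exact ⟨_, _, ha.mul (Commute.all _ _) hd, hb.mul (Commute.all _ _) hc,
          Or.inr (by rw [Units.val_mul, eg, eh, ant_mul_mon])⟩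
      · exact ⟨_, _, ha.mul (Commute.all _ _) hd, hb.mul (Commute.all _ _) hc,
          Or.inl (by rw [Units.val_mul, eg, eh, ant_mul_ant])⟩ }

theorem mem_splitSyl {g : GL (Fin 2) F} : g ∈ splitSyl F ↔ ∃ a b : F, Two a ∧ Two b ∧
      ((g : Matrix (Fin 2) (Fin 2) F) = mon a b ∨ (g : Matrix (Fin 2) (Fin 2) F) = ant a b) :=
  Iff.rfl

theorem isPGroup_splitSyl : IsPGroup 2 (splitSyl F) := by
  rintro ⟨g, hg⟩
  obtain ⟨a, b, ha, hb, eg | eg⟩ := mem_splitSyl.mp hg
  · obtain ⟨k, hk⟩ := ha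
    obtain ⟨l, hl⟩ := hb
    refine ⟨k + l, Subtype.ext (Units.ext ?_)⟩
    show ((g ^ 2 ^ (k + l) : GL (Fin 2) F) : Matrix (Fin 2) (Fin 2) F) = 1
    rw [Units.val_pow_eq_pow_val, eg, mon_pow, pow_add, pow_mul, hk, one_pow, mul_comm (2 ^ k),
      pow_mul, hl, one_pow, mon_one]
  · obtain ⟨k, hk⟩ := ha.mul (Commute.all _ _) hb
    refine ⟨1 + k, Subtype.ext (Units.ext ?_)⟩
    show ((g ^ 2 ^ (1 + k) : GL (Fin 2) F) : Matrix (Fin 2) (Fin 2) F) = 1
    rw [Units.val_pow_eq_pow_val, eg, pow_add, pow_mul, pow_one, sq, ant_mul_ant, mon_pow,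
      mul_comm b a, hk, mon_one]

/-- A matrix conjugating a suitable diagonal element into `splitSyl` is monomial. -/
theorem monomial_of_conj {n x : GL (Fin 2) F} {α β : F}
    (hx : (x : Matrix (Fin 2) (Fin 2) F) = mon α β) (hαβ : α * α ≠ β * β)
    (h : n * x * n⁻¹ ∈ splitSyl F) :
    ∃ a b : F, a ≠ 0 ∧ b ≠ 0 ∧
      ((n : Matrix (Fin 2) (Fin 2) F) = mon a b ∨ (n : Matrix (Fin 2) (Fin 2) F) = ant a b) := by
  obtain ⟨γ, δ, hsq⟩ : ∃ γ δ : F, (((n * x * n⁻¹) * (n * x * n⁻¹) : GL (Fin 2) F) :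
      Matrix (Fin 2) (Fin 2) F) = mon γ δ := by
    obtain ⟨a, b, -, -, e | e⟩ := mem_splitSyl.mp h
    · exact ⟨_, _, by rw [Units.val_mul, e, mon_mul_mon]⟩
    · exact ⟨_, _, by rw [Units.val_mul, e, ant_mul_ant]⟩
  have heq : (n : Matrix (Fin 2) (Fin 2) F) * mon (α * α) (β * β) = mon γ δ * n := by
    have : n * (x * x) = ((n * x * n⁻¹) * (n * x * n⁻¹)) * n := by group
    have := congrArg Units.val this
    rwa [Units.val_mul, Units.val_mul, Units.val_mul, hsq, hx, mon_mul_mon] at this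
  set N := (n : Matrix (Fin 2) (Fin 2) F) with hN
  have h00 := congrFun (congrFun heq 0) 0
  have h01 := congrFun (congrFun heq 0) 1
  have h10 := congrFun (congrFun heq 1) 0
  have h11 := congrFun (congrFun heq 1) 1
  simp [mon, Matrix.mul_apply, Fin.sum_univ_two] at h00 h01 h10 h11
  have r0 : N 0 0 = 0 ∨ N 0 1 = 0 := by
    by_contra hc
    push Not at hc
    exact hαβ ((mul_left_cancel₀ hc.1 (h00.trans (mul_comm _ _))).trans
      (mul_left_cancel₀ hc.2 (h01.trans (mul_comm _ _))).symm)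
  have r1 : N 1 0 = 0 ∨ N 1 1 = 0 := by
    by_contra hc
    push Not at hc
    exact hαβ ((mul_left_cancel₀ hc.1 (h10.trans (mul_comm _ _))).trans
      (mul_left_cancel₀ hc.2 (h11.trans (mul_comm _ _))).symm)
  have hdet : N.det ≠ 0 := (GeneralLinearGroup.det n).ne_zero
  rw [det_fin_two] at hdet
  rcases r0 with r0 | r0 <;> rcases r1 with r1 | r1
  · simp [r0, r1] at hdet
  · refine ⟨N 0 1, N 1 0, by rintro h; simp [r0, h] at hdet, by rintro h; simp [r0, h] at hdet,
      Or.inr ?_⟩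
    ext i j; fin_cases i <;> fin_cases j <;> simp [ant, r0, r1]
  · refine ⟨N 0 0, N 1 1, by rintro h; simp [r0, h] at hdet, by rintro h; simp [r0, h] at hdet,
      Or.inl ?_⟩
    ext i j; fin_cases i <;> fin_cases j <;> simp [mon, r0, r1]
  · simp [r0, r1] at hdet

/-- For a monomial `n` moving an antidiagonal element into `splitSyl`, the entries agree up to
2-elements. -/
theorem two_ratio {n y : GL (Fin 2) F} {a b c d : F} (ha : a ≠ 0) (hb : b ≠ 0)
    (hc : Two c) (hd : Two d) (hy : (y : Matrix (Fin 2) (Fin 2) F) = ant c d)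
    (hn : (n : Matrix (Fin 2) (Fin 2) F) = mon a b ∨ (n : Matrix (Fin 2) (Fin 2) F) = ant a b)
    (h : n * y * n⁻¹ ∈ splitSyl F) : Two (a / b) := by
  have hc0 : c ≠ 0 := fun e => by obtain ⟨k, hk⟩ := hc; simp [e] at hk
  have hd0 : d ≠ 0 := fun e => by obtain ⟨k, hk⟩ := hd; simp [e] at hk
  obtain ⟨p, q, hp, hq, e⟩ := mem_splitSyl.mp h
  have key : (((n * y * n⁻¹) * n : GL (Fin 2) F) : Matrix (Fin 2) (Fin 2) F) =
      (n : Matrix (Fin 2) (Fin 2) F) * ant c d := by
    rw [show n * y * n⁻¹ * n = n * y by group, Units.val_mul, hy]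
  rw [Units.val_mul] at key
  rcases hn with hn | hn <;> rw [hn] at key <;> rcases e with e | e <;> rw [e] at key
  · rw [mon_mul_mon, mon_mul_ant] at key
    have := congrFun (congrFun key 0) 1
    simp [mon, ant, ha, hc0] at this
  · rw [ant_mul_mon, mon_mul_ant] at key
    have := congrFun (congrFun key 0) 1
    simp [ant] at this
    rw [show a / b = p * c⁻¹ by field_simp; linear_combination -this]
    exact hp.mul (Commute.all _ _) hc.inv₀
  · rw [mon_mul_ant, ant_mul_ant] at key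
    have := congrFun (congrFun key 0) 0
    simp [mon, ant, ha, hd0] at this
  · rw [ant_mul_ant, ant_mul_ant] at key
    have := congrFun (congrFun key 0) 0
    simp [mon] at this
    rw [show a / b = p * d⁻¹ by field_simp; linear_combination -this]
    exact hp.mul (Commute.all _ _) hd.inv₀

theorem good_splitSyl (h2 : (2 : F) ≠ 0) {i : F} (hi : i * i = -1) : Good (splitSyl F) := by
  have hi2 : Two i := ⟨2, by rw [show i ^ 2 ^ 2 = (i * i) * (i * i) by ring, hi]; ring⟩
  have hi0 : i ≠ 0 := by rintro rfl; simp at hi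
  let x : GL (Fin 2) F := GeneralLinearGroup.mkOfDetNeZero (mon i 1) (by rw [det_mon]; simpa using hi0)
  let y : GL (Fin 2) F := GeneralLinearGroup.mkOfDetNeZero (ant 1 1) (by simp [det_ant])
  refine ⟨isPGroup_splitSyl, ?_, ?_, ?_, ?_, ?_⟩
  · intro a ha
    refine mem_splitSyl.mpr ⟨a, a, two_units.mpr ha, two_units.mpr ha, Or.inl ?_⟩
    rw [sc_val, smul_one_eq_diagonal]
    ext i j; fin_cases i <;> fin_cases j <;> simp [mon]
  · intro a ha
    refine ⟨GeneralLinearGroup.mkOfDetNeZero (mon a 1) (by simp [det_mon]),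
      mem_splitSyl.mpr ⟨a, 1, two_units.mpr ha, Two.one, Or.inl rfl⟩, Units.ext ?_⟩
    rw [GeneralLinearGroup.val_det_apply]
    exact (det_mon _ _).trans (mul_one _)
  · intro n hn
    obtain ⟨a, b, ha, hb, hab⟩ := monomial_of_conj (x := x) rfl (by
        rw [hi, one_mul]; intro h; exact h2 (by linear_combination -h))
      ((hn x).mp (mem_splitSyl.mpr ⟨i, 1, hi2, Two.one, Or.inl rfl⟩))
    have hr := two_ratio (y := y) ha hb Two.one Two.one rfl hab
      ((hn y).mp (mem_splitSyl.mpr ⟨1, 1, Two.one, Two.one, Or.inr rfl⟩))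
    refine ⟨(Units.mk0 b hb)⁻¹, mem_splitSyl.mpr ⟨a / b, 1, hr, Two.one, ?_⟩⟩
    rw [Units.val_mul, sc_val, Matrix.smul_mul, one_mul, Units.val_inv_eq_inv_val, Units.val_mk0]
    rcases hab with h | h
    · left; rw [h]; ext i j; fin_cases i <;> fin_cases j <;> simp [mon, hb, div_eq_inv_mul]
    · right; rw [h]; ext i j; fin_cases i <;> fin_cases j <;> simp [ant, hb, div_eq_inv_mul]
  · intro e he hc
    have hd1 : (mon i (-i)).det = 1 := by rw [det_mon]; linear_combination -hi
    have hd2 : (ant (1 : F) (-1)).det = 1 := by rw [det_ant]; ring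
    have c1 := hc (GeneralLinearGroup.mkOfDetNeZero (mon i (-i)) (by rw [hd1]; exact one_ne_zero))
      (mem_splitSyl.mpr ⟨i, -i, hi2, neg_one_mul i ▸ two_neg_one.mul (Commute.all _ _) hi2, Or.inl rfl⟩)
      (Units.ext hd1)
    have c2 := hc (GeneralLinearGroup.mkOfDetNeZero (ant 1 (-1)) (by rw [hd2]; exact one_ne_zero))
      (mem_splitSyl.mpr ⟨1, -1, Two.one, two_neg_one, Or.inr rfl⟩) (Units.ext hd2)
    have c1' : mon i (-i) * e = e * mon i (-i) := c1
    have c2' : ant 1 (-1) * e = e * ant (1 : F) (-1) := c2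
    have h01 := congrFun (congrFun c1' 0) 1
    have h10 := congrFun (congrFun c1' 1) 0
    have h11 := congrFun (congrFun c2' 0) 1
    simp [mon, ant, Matrix.mul_apply, Fin.sum_univ_two] at h01 h10 h11
    have e01 : e 0 1 = 0 := by
      have : e 0 1 * (2 * i) = 0 := by linear_combination h01
      exact (mul_eq_zero.mp this).resolve_right (mul_ne_zero h2 hi0)
    have e10 : e 1 0 = 0 := by
      have : e 1 0 * (2 * i) = 0 := by linear_combination -h10
      exact (mul_eq_zero.mp this).resolve_right (mul_ne_zero h2 hi0)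
    have he' := congrFun (congrFun he 0) 0
    simp [Matrix.mul_apply, Fin.sum_univ_two, e01] at he'
    have he'' : e 0 0 = 1 ∨ e 0 0 = 0 := by
      by_cases h : e 0 0 = 0
      · exact Or.inr h
      · exact Or.inl (mul_left_cancel₀ h (he'.trans (mul_one _).symm))
    rcases he'' with h | h
    · right; ext a b; fin_cases a <;> fin_cases b <;> simp [e01, e10, h, ← h11]
      all_goals simp [h11, h]
    · left; ext a b; fin_cases a <;> fin_cases b <;> simp [e01, e10, h, h11]
  · have hd1 : (mon i (-i)).det = 1 := by rw [det_mon]; linear_combination -hi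
    refine ⟨GeneralLinearGroup.mkOfDetNeZero (mon i (-i)) (by rw [hd1]; exact one_ne_zero),
      mem_splitSyl.mpr ⟨i, -i, hi2, neg_one_mul i ▸ two_neg_one.mul (Commute.all _ _) hi2, Or.inl rfl⟩,
      Units.ext hd1, ?_⟩
    show mon i (-i) * mon i (-i) = -1
    rw [mon_mul_mon]
    ext a b; fin_cases a <;> fin_cases b <;> simp [mon, hi]

/-! ### The non-split case -/

theorem eq_one_or_neg_of_two (hns : ∀ u : F, u * u ≠ -1) {a : F} (ha : Two a) : a = 1 ∨ a = -1 := by
  obtain ⟨k, hk⟩ := ha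
  induction k generalizing a with
  | zero => left; simpa using hk
  | succ k ih =>
    rw [pow_succ', pow_mul] at hk
    rcases ih hk with h | h
    · exact sq_eq_one_iff.mp h
    · exact absurd (by rw [← sq, h]) (hns a)

theorem two_dd_conj {a b : F} (h : Two (dd a b)) : Two (dd a (-b)) := by
  obtain ⟨k, hk⟩ := h
  refine ⟨k, ?_⟩
  have h : ∀ m : ℕ, mon 1 (-1) * dd a b ^ m = dd a (-b) ^ m * mon 1 (-1) := by
    intro m
    induction m with
    | zero => simp
    | succ m ih => rw [pow_succ, ← mul_assoc, ih, mul_assoc, conj_dd, ← mul_assoc, pow_succ]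
  have h' := h (2 ^ k)
  rw [hk, mul_one] at h'
  have := congrArg (· * mon (1 : F) (-1)) h'
  simp only [mul_assoc, mon_mul_mon, neg_mul_neg, one_mul] at this
  rwa [mon_one, mul_one, eq_comm] at this

/-- The semidihedral group in the normaliser of a non-split torus. -/
def nonsplitSyl (F : Type*) [Field F] [Fintype F] : Subgroup (GL (Fin 2) F) := ofFinite
  { carrier := {g | ∃ a b : F, Two (dd a b) ∧ ((g : Matrix (Fin 2) (Fin 2) F) = dd a b ∨
      (g : Matrix (Fin 2) (Fin 2) F) = dd a b * mon 1 (-1))}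
    one_mem' := ⟨1, 0, by rw [dd_zero, one_smul]; exact Two.one,
      Or.inl (by rw [Units.val_one, dd_zero, one_smul])⟩
    mul_mem' := by
      rintro g h ⟨a, b, hab, eg⟩ ⟨c, d, hcd, eh⟩
      rcases eg with eg | eg
      · refine ⟨a * c - b * d, a * d + b * c, by
          rw [← dd_mul_dd]; exact hab.mul (dd_comm ..) hcd, ?_⟩
        rcases eh with eh | eh
        · left; rw [Units.val_mul, eg, eh, dd_mul_dd]
        · right; rw [Units.val_mul, eg, eh, ← mul_assoc, dd_mul_dd]
      · refine ⟨a * c - b * -d, a * -d + b * c, by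
          rw [← dd_mul_dd]; exact hab.mul (dd_comm ..) (two_dd_conj hcd), ?_⟩
        rcases eh with eh | eh
        · right; rw [Units.val_mul, eg, eh, mul_assoc, conj_dd, ← mul_assoc, dd_mul_dd]
        · left
          rw [Units.val_mul, eg, eh, mul_assoc, ← mul_assoc (mon 1 (-1)), conj_dd, mul_assoc,
            mon_mul_mon, neg_mul_neg, one_mul, mon_one, mul_one, dd_mul_dd] }

theorem mem_nonsplitSyl {g : GL (Fin 2) F} : g ∈ nonsplitSyl F ↔ ∃ a b : F, Two (dd a b) ∧
    ((g : Matrix (Fin 2) (Fin 2) F) = dd a b ∨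
      (g : Matrix (Fin 2) (Fin 2) F) = dd a b * mon 1 (-1)) :=
  Iff.rfl

theorem ddphi_sq (a b : F) :
    dd a b * mon 1 (-1) * (dd a b * mon 1 (-1)) = (a * a + b * b) • 1 := by
  rw [mul_assoc, ← mul_assoc (mon 1 (-1)), conj_dd, mul_assoc, mon_mul_mon, neg_mul_neg, one_mul,
    mon_one, mul_one, dd_mul_dd, ← dd_zero]
  congr 1 <;> ring

theorem isPGroup_nonsplitSyl : IsPGroup 2 (nonsplitSyl F) := by
  rintro ⟨g, hg⟩
  obtain ⟨a, b, hab, eg | eg⟩ := mem_nonsplitSyl.mp hg
  · obtain ⟨k, hk⟩ := hab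
    exact ⟨k, Subtype.ext (Units.ext (by
      show ((g ^ 2 ^ k : GL (Fin 2) F) : Matrix (Fin 2) (Fin 2) F) = 1
      rw [Units.val_pow_eq_pow_val, eg, hk]))⟩
  · obtain ⟨k, hk⟩ := hab.mul (dd_comm ..) (two_dd_conj hab)
    refine ⟨1 + k, Subtype.ext (Units.ext ?_)⟩
    show ((g ^ 2 ^ (1 + k) : GL (Fin 2) F) : Matrix (Fin 2) (Fin 2) F) = 1
    rw [Units.val_pow_eq_pow_val, eg, pow_add, pow_mul, pow_one, sq, ddphi_sq, ← dd_zero,
      show dd (a * a + b * b) 0 = dd a b * dd a (-b) by rw [dd_mul_dd]; congr 1 <;> ring, hk]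

theorem dd_ne_zero (hns : ∀ u : F, u * u ≠ -1) {a b : F} (h : a ≠ 0 ∨ b ≠ 0) :
    a * a + b * b ≠ 0 := by
  intro e
  by_cases ha : a = 0
  · rw [ha, mul_zero, zero_add, mul_self_eq_zero] at e
    exact h.elim (fun h => h ha) (fun h => h e)
  · exact hns (b / a) (by field_simp; linear_combination e)

/-- An element commuting with `J` up to sign is `dd p r` or `dd p r * φ`. -/
theorem mem_torus_normalizer {N : Matrix (Fin 2) (Fin 2) F} {s : F} (hs : s = 1 ∨ s = -1)
    (h : N * dd 0 1 = s • (dd 0 1 * N)) :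
    ∃ p r : F, N = dd p r ∨ N = dd p r * mon 1 (-1) := by
  refine ⟨N 0 0, N 1 0, ?_⟩
  have h00 := congrFun (congrFun h 0) 0
  have h01 := congrFun (congrFun h 0) 1
  simp [dd, Matrix.mul_apply, Fin.sum_univ_two, Matrix.vecMul, dotProduct] at h00 h01
  rcases hs with rfl | rfl
  · left; ext i j; fin_cases i <;> fin_cases j <;> simp [dd]
    · linear_combination h00
    · linear_combination -h01
  · right; ext i j; fin_cases i <;> fin_cases j <;>
      simp [dd, mon, Matrix.mul_apply, Fin.sum_univ_two]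
    · linear_combination h00
    · linear_combination h01

/-- An element conjugating a square root of `±J` into `nonsplitSyl` normalises the torus. -/
theorem torus_of_conj (h2 : (2 : F) ≠ 0) (hns : ∀ u : F, u * u ≠ -1) {n x : GL (Fin 2) F}
    {c ε : F} (hε : ε = 1 ∨ ε = -1)
    (hxx : (x : Matrix (Fin 2) (Fin 2) F) * x = dd 0 c) (hcε : c = ε)
    (h : n * x * n⁻¹ ∈ nonsplitSyl F) :
    ∃ p r : F, (p ≠ 0 ∨ r ≠ 0) ∧ ((n : Matrix (Fin 2) (Fin 2) F) = dd p r ∨
      (n : Matrix (Fin 2) (Fin 2) F) = dd p r * mon 1 (-1)) := by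
  subst hcε
  set N := (n : Matrix (Fin 2) (Fin 2) F) with hN
  set z := n * x * n⁻¹ with hz
  have key : (z : Matrix (Fin 2) (Fin 2) F) * z * N = N * dd 0 c := by
    rw [← hxx, ← Units.val_mul, ← Units.val_mul, ← Units.val_mul, ← Units.val_mul]
    congr 1
    rw [hz]; group
  obtain ⟨a, b, -, e | e⟩ := mem_nonsplitSyl.mp h
  · rw [e, dd_mul_dd] at key
    obtain ⟨u, v, huv⟩ : ∃ u v : F, dd u v * N = N * dd 0 c := ⟨_, _, key⟩
    have h4 : dd u v * dd u v * N = (-(c * c)) • N := by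
      rw [mul_assoc, huv, ← mul_assoc, huv, mul_assoc, dd_mul_dd,
        show dd (0 * 0 - c * c) (0 * c + c * 0) = (-(c * c)) • (1 : Matrix (Fin 2) (Fin 2) F) by
          rw [← dd_zero]; congr 1 <;> ring, Matrix.mul_smul, mul_one]
    have hcc : c * c = 1 := by rcases hε with h | h <;> rw [h] <;> ring
    have h5 : dd u v * dd u v = (-1 : F) • 1 := by
      have := congrArg (· * ((n⁻¹ : GL (Fin 2) F) : Matrix (Fin 2) (Fin 2) F)) h4
      simp only [hcc, Matrix.smul_mul, mul_assoc, hN, ← Units.val_mul, mul_inv_cancel, Units.val_one,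
        mul_one] at this
      exact this
    rw [dd_mul_dd, ← dd_zero] at h5
    obtain ⟨h6, h7⟩ := dd_inj h5
    have hu : u = 0 := by
      have : u * v = 0 := by
        have : 2 * (u * v) = 0 := by linear_combination h7
        exact (mul_eq_zero.mp this).resolve_left h2
      rcases mul_eq_zero.mp this with h | h
      · exact h
      · exact absurd (by rw [h] at h6; linear_combination h6) (hns u)
    subst hu
    have hv : v = 1 ∨ v = -1 := by
      rw [← sq_eq_one_iff, sq]; linear_combination -h6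
    have hscal : ∀ t : F, dd 0 t = t • dd (0 : F) 1 := fun t => by
      ext i j; fin_cases i <;> fin_cases j <;> simp [dd]
    rw [hscal v, hscal c, Matrix.smul_mul, Matrix.mul_smul] at huv
    obtain ⟨p, r, hpr⟩ := mem_torus_normalizer (s := v / c) (N := N) (by
        rcases hv with h | h <;> rcases hε with h' | h' <;> simp [h, h']) (by
      have hc : c ≠ 0 := by rintro rfl; simp at hcc
      have := congrArg (fun M => c⁻¹ • M) huv
      simp only [smul_smul, inv_mul_cancel₀ hc, one_smul] at this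
      rw [← this, div_eq_inv_mul])
    refine ⟨p, r, ?_, hpr⟩
    by_contra h0
    push Not at h0
    have hd : N.det ≠ 0 := (GeneralLinearGroup.det n).ne_zero
    rcases hpr with h | h <;> simp [h, h0.1, h0.2, det_dd] at hd
  · exfalso
    rw [e, ddphi_sq, Matrix.smul_mul, one_mul] at key
    have := congrArg (((n⁻¹ : GL (Fin 2) F) : Matrix (Fin 2) (Fin 2) F) * ·) key
    simp only [Matrix.mul_smul, ← mul_assoc, hN, ← Units.val_mul, inv_mul_cancel, Units.val_one,
      one_mul, ← dd_zero] at this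
    have hc0 := (dd_inj this).2
    rcases hε with h | h <;> rw [h] at hc0 <;> simp at hc0

/-- In the torus, an element whose ratio to its conjugate is a 2-element is a scalar multiple of a
2-element. -/
theorem exists_smul_two (h2 : (2 : F) ≠ 0) {p r : F} (hpr : p * p + r * r ≠ 0) {a b c d : F}
    (hab : Two (dd a b)) (hcd : Two (dd c d))
    (h : dd p r * dd a b = dd c d * dd p (-r)) : ∃ t : F, t ≠ 0 ∧ Two (dd (t * p) (t * r)) := by
  obtain ⟨k₁, hk₁⟩ := hab
  obtain ⟨k₂, hk₂⟩ := hcd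
  set k := k₁ + k₂ with hk
  set N := 2 ^ k with hN
  have hpow : ∀ (p r : F) (m : ℕ), ∃ u v : F, dd p r ^ m = dd u v ∧ dd p (-r) ^ m = dd u (-v) := by
    intro p r m
    induction m with
    | zero => exact ⟨1, 0, by simp [dd_zero], by simp [dd_zero]⟩
    | succ m ih =>
      obtain ⟨u, v, h1, h2⟩ := ih
      refine ⟨u * p - v * r, u * r + v * p, by rw [pow_succ, h1, dd_mul_dd], ?_⟩
      rw [pow_succ, h2, dd_mul_dd]; congr 1 <;> ring
  obtain ⟨u, v, h1, h2'⟩ := hpow p r N
  have hA : dd a b ^ N = 1 := by rw [hN, hk, pow_add, pow_mul, hk₁, one_pow]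
  have hC : dd c d ^ N = 1 := by rw [hN, hk, pow_add, mul_comm, pow_mul, hk₂, one_pow]
  have h3 : dd p r ^ N = dd p (-r) ^ N := by
    have := congrArg (· ^ N) h
    rwa [(dd_comm p r a b).mul_pow, (dd_comm c d p (-r)).mul_pow, hA, hC, mul_one, one_mul] at this
  rw [h1, h2'] at h3
  have hsc : dd p r ^ N = u • 1 := by
    have : 2 * v = 0 := by linear_combination (dd_inj h3).2
    rw [h1, ← dd_zero, (mul_eq_zero.mp this).resolve_left h2]
  have hu : u ≠ 0 := by
    intro h0
    have := congrArg Matrix.det hsc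
    rw [det_pow, det_dd, h0, zero_smul, det_zero] at this
    exact hpr ((pow_eq_zero_iff (by positivity)).mp this)
  let w : Fˣ := Units.mk0 u hu
  have hord : orderOf w ≠ 0 := (orderOf_pos w).ne'
  obtain ⟨j, m, hm, hjm⟩ := Nat.exists_eq_pow_mul_and_not_dvd hord 2 (by norm_num)
  have hco : N.Coprime m := Nat.Coprime.pow_left k
    ((Nat.prime_two.coprime_iff_not_dvd).mpr hm)
  obtain ⟨x, y, hxy⟩ := Int.isCoprime_iff_nat_coprime.mpr (show (N : ℤ).natAbs.Coprime (m : ℤ).natAbs
    by simpa using hco)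
  refine ⟨((w ^ (-x) : Fˣ) : F), Units.ne_zero _, two_of_pow_eq k ?_⟩
  set t : F := ((w ^ (-x) : Fˣ) : F) with ht
  rw [show dd (t * p) (t * r) = t • dd p r by
    ext i j; fin_cases i <;> fin_cases j <;> simp [dd], smul_pow, ← hN, hsc, smul_smul]
  refine ⟨j, ?_⟩
  rw [smul_pow, one_pow]
  have h5 : (((w ^ (-x)) ^ N * w) ^ 2 ^ j : Fˣ) = 1 := by
    rw [show ((w ^ (-x)) ^ N * w : Fˣ) = w ^ (y * m) by
      rw [show y * m = -x * N + 1 by linear_combination hxy, _root_.zpow_add, zpow_one, _root_.zpow_mul,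
        zpow_natCast],
      ← zpow_natCast, ← _root_.zpow_mul, show (y * m * ((2 ^ j : ℕ) : ℤ)) =
        ((2 ^ j * m : ℕ) : ℤ) * y by push_cast; ring, ← hjm, _root_.zpow_mul, zpow_natCast,
      pow_orderOf_eq_one, _root_.one_zpow]
  rw [show (t ^ N * u) ^ 2 ^ j = ((((w ^ (-x)) ^ N * w) ^ 2 ^ j : Fˣ) : F) by
    simp [ht, w], h5, Units.val_one, one_smul]

theorem dd_eq_ddphi (h2 : (2 : F) ≠ 0) {x y u v : F} (h : dd x y = dd u v * mon 1 (-1)) :
    x = 0 ∧ y = 0 := by
  have h00 := congrFun (congrFun h 0) 0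
  have h01 := congrFun (congrFun h 0) 1
  have h10 := congrFun (congrFun h 1) 0
  have h11 := congrFun (congrFun h 1) 1
  simp [dd, mon, Matrix.mul_apply, Fin.sum_univ_two] at h00 h01 h10 h11
  exact ⟨(mul_eq_zero.mp (show 2 * x = 0 by linear_combination h00 + h11)).resolve_left h2,
    (mul_eq_zero.mp (show 2 * y = 0 by linear_combination h10 - h01)).resolve_left h2⟩

/-- The torus part of an element normalising the torus and moving a reflection into
`nonsplitSyl`. -/
theorem exists_smul_two_of_conj (h2 : (2 : F) ≠ 0) (hns : ∀ u : F, u * u ≠ -1) {n y : GL (Fin 2) F} {p r a b : F}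
    (hpr : p ≠ 0 ∨ r ≠ 0) (hab : Two (dd a b))
    (hy : (y : Matrix (Fin 2) (Fin 2) F) = dd a b * mon 1 (-1))
    (hn : (n : Matrix (Fin 2) (Fin 2) F) = dd p r ∨
      (n : Matrix (Fin 2) (Fin 2) F) = dd p r * mon 1 (-1))
    (h : n * y * n⁻¹ ∈ nonsplitSyl F) : ∃ t : F, t ≠ 0 ∧ Two (dd (t * p) (t * r)) := by
  set z := n * y * n⁻¹ with hz
  have key : (z : Matrix (Fin 2) (Fin 2) F) * n = (n : Matrix (Fin 2) (Fin 2) F) * y := by
    rw [← Units.val_mul, ← Units.val_mul, hz]; congr 1; group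
  have hphi : ∀ M M' : Matrix (Fin 2) (Fin 2) F, M * mon 1 (-1) = M' * mon 1 (-1) → M = M' := by
    intro M M' e
    have := congrArg (· * mon (1 : F) (-1)) e
    simpa [mul_assoc, mon_mul_mon, mon_one] using this
  have hnz : p * p + r * r ≠ 0 := dd_ne_zero hns hpr
  obtain ⟨c, d, hcd, e⟩ := mem_nonsplitSyl.mp h
  obtain ⟨b', hb', hkey⟩ : ∃ b', Two (dd a b') ∧
      (z : Matrix (Fin 2) (Fin 2) F) * dd p r = dd p r * dd a b' * mon 1 (-1) := by
    rcases hn with hn | hn
    · exact ⟨b, hab, by rw [hn, hy] at key; rw [key, mul_assoc]⟩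
    · refine ⟨-b, two_dd_conj hab, hphi _ _ ?_⟩
      rw [hn, hy] at key
      rw [mul_assoc, key, mul_assoc, ← mul_assoc (mon 1 (-1)), conj_dd]
      simp only [mul_assoc]
  rcases e with e | e
  · exfalso
    rw [e, dd_mul_dd, dd_mul_dd] at hkey
    obtain ⟨hx, hy0⟩ := dd_eq_ddphi h2 hkey
    have hd : (dd c d * dd p r).det = 0 := by rw [dd_mul_dd, hx, hy0, det_dd]; ring
    rw [det_mul, det_dd, det_dd] at hd
    obtain ⟨l, hl⟩ := hcd
    have := congrArg Matrix.det hl
    rw [det_pow, det_dd, (mul_eq_zero.mp hd).resolve_right hnz, det_one, zero_pow (by positivity)]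
      at this
    exact zero_ne_one this
  · rw [e, mul_assoc, conj_dd, ← mul_assoc] at hkey
    exact exists_smul_two h2 hnz hb' hcd (hphi _ _ hkey).symm

theorem good_nonsplitSyl (h2 : (2 : F) ≠ 0) (hns : ∀ u : F, u * u ≠ -1) :
    Good (nonsplitSyl F) := by
  classical
  have hJ : Two (dd (0 : F) 1) := ⟨2, by
    rw [show (2 : ℕ) ^ 2 = 2 * 2 by norm_num, pow_mul, sq, sq, dd_mul_dd, dd_mul_dd,
      ← one_smul F (1 : Matrix (Fin 2) (Fin 2) F), ← dd_zero]
    congr 1 <;> ring⟩
  have h10 : Two (dd (1 : F) 0) := by rw [dd_zero, one_smul]; exact Two.one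
  have hJdet : (dd (0 : F) 1).det = 1 := by rw [det_dd]; ring
  refine ⟨isPGroup_nonsplitSyl, ?_, ?_, ?_, ?_, ?_⟩
  · intro a ha
    obtain ⟨k, hk⟩ := two_units.mpr ha
    exact mem_nonsplitSyl.mpr ⟨a, 0, ⟨k, by rw [dd_zero, smul_pow, one_pow, hk, one_smul]⟩,
      Or.inl (by rw [sc_val, dd_zero])⟩
  · intro a ha
    rcases eq_one_or_neg_of_two hns (two_units.mpr ha) with h | h
    · exact ⟨1, one_mem _, by rw [map_one]; exact (Units.ext h).symm⟩
    · refine ⟨GeneralLinearGroup.mkOfDetNeZero (mon 1 (-1)) (by simp [det_mon]),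
        mem_nonsplitSyl.mpr ⟨1, 0, h10, Or.inr (show mon 1 (-1) = dd (1 : F) 0 * mon 1 (-1) by rw [dd_zero, one_smul, one_mul])⟩,
        Units.ext ?_⟩
      rw [GeneralLinearGroup.val_det_apply, h]
      show (mon (1 : F) (-1)).det = -1
      rw [det_mon, one_mul]
  · intro n hn
    obtain ⟨c, hc⟩ : ∃ c : F, 2 * (c * c) = 1 ∨ 2 * (c * c) = -1 := by
      have hx : IsSquare (2⁻¹ : F) ∨ IsSquare (-2⁻¹ : F) := by
        by_contra hno
        push Not at hno
        have hF : ringChar F ≠ 2 := fun e => h2 (by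
          have : CharP F 2 := e ▸ ringChar.charP F
          exact CharTwo.two_eq_zero)
        have e1 := (quadraticChar_neg_one_iff_not_isSquare).mpr hno.1
        have e2 := (quadraticChar_neg_one_iff_not_isSquare).mpr hno.2
        have e3 := (quadraticChar_neg_one_iff_not_isSquare).mpr
          (show ¬ IsSquare (-1 : F) from fun ⟨u, hu⟩ => hns u hu.symm)
        rw [neg_eq_neg_one_mul, map_mul, e1, e3] at e2
        norm_num at e2
      rcases hx with ⟨c, hc⟩ | ⟨c, hc⟩
      · exact ⟨c, Or.inl (by rw [← hc]; field_simp)⟩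
      · exact ⟨c, Or.inr (by rw [← hc]; field_simp)⟩
    set ε := 2 * (c * c) with hεdef
    have hεε : ε * ε = 1 := by rcases hc with h | h <;> rw [h] <;> ring
    have hxd : (dd c c).det ≠ 0 := by
      rw [det_dd, show c * c + c * c = ε by rw [hεdef]; ring]
      rintro h; rw [h] at hεε; simp at hεε
    let x : GL (Fin 2) F := GeneralLinearGroup.mkOfDetNeZero (dd c c) hxd
    have hxx : dd c c * dd c c = dd 0 ε := by rw [dd_mul_dd, hεdef]; congr 1 <;> ring
    have hxTwo : Two (dd c c) := two_of_pow_eq 1 (by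
      rw [pow_one, sq, hxx]
      exact two_of_pow_eq 1 (by
        rw [pow_one, sq, dd_mul_dd]
        refine ⟨1, ?_⟩
        rw [pow_one, sq, dd_mul_dd, ← one_smul F (1 : Matrix (Fin 2) (Fin 2) F), ← dd_zero]
        congr 1
        · linear_combination (ε * ε + 1) * hεε
        · ring))
    obtain ⟨p, r, hpr, hn'⟩ := torus_of_conj (x := x) h2 hns hc hxx rfl
      ((hn x).mp (mem_nonsplitSyl.mpr ⟨c, c, hxTwo, Or.inl rfl⟩))
    let y : GL (Fin 2) F := GeneralLinearGroup.mkOfDetNeZero (mon 1 (-1)) (by simp [det_mon])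
    have hyv : (y : Matrix (Fin 2) (Fin 2) F) = dd 1 0 * mon 1 (-1) := by
      rw [dd_zero, one_smul, one_mul]; rfl
    obtain ⟨t, ht, htwo⟩ := exists_smul_two_of_conj h2 hns hpr h10 hyv hn'
      ((hn y).mp (mem_nonsplitSyl.mpr ⟨1, 0, h10, Or.inr hyv⟩))
    refine ⟨Units.mk0 t ht, mem_nonsplitSyl.mpr ⟨t * p, t * r, htwo, ?_⟩⟩
    have hsm : t • dd p r = dd (t * p) (t * r) := by
      ext i j; fin_cases i <;> fin_cases j <;> simp [dd]
    rw [Units.val_mul, sc_val, Units.val_mk0, Matrix.smul_mul, one_mul]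
    rcases hn' with h | h
    · left; rw [h, hsm]
    · right; rw [h, ← Matrix.smul_mul, hsm]
  · intro e he hc
    have c1 := hc (GeneralLinearGroup.mkOfDetNeZero (dd 0 1) (by rw [hJdet]; exact one_ne_zero))
      (mem_nonsplitSyl.mpr ⟨0, 1, hJ, Or.inl rfl⟩) (Units.ext hJdet)
    have c1' : dd (0 : F) 1 * e = e * dd 0 1 := c1
    have h00 := congrFun (congrFun c1' 0) 0
    have h01 := congrFun (congrFun c1' 0) 1
    simp [dd, Matrix.mul_apply, Fin.sum_univ_two] at h00 h01
    have e00 := congrFun (congrFun he 0) 0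
    have e10 := congrFun (congrFun he 1) 0
    simp [Matrix.mul_apply, Fin.sum_univ_two] at e00 e10
    have e01 : e 0 1 = -(e 1 0) := by linear_combination -h00
    have e11 : e 1 1 = e 0 0 := h01
    rw [e01] at e00
    rw [e11] at e10
    have hr : e 1 0 = 0 := by
      by_contra hne
      have hp : 2 * e 0 0 = 1 := by
        have : e 1 0 * (2 * e 0 0 - 1) = 0 := by linear_combination e10
        exact sub_eq_zero.mp ((mul_eq_zero.mp this).resolve_left hne)
      exact hns (2 * e 1 0) (by linear_combination (-4) * e00 + (2 * e 0 0 - 1) * hp)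
    rw [hr] at e00
    have hp : e 0 0 = 0 ∨ e 0 0 = 1 := by
      have : e 0 0 * (e 0 0 - 1) = 0 := by linear_combination e00
      exact (mul_eq_zero.mp this).imp id sub_eq_zero.mp
    rcases hp with hp | hp
    · left; ext i j; fin_cases i <;> fin_cases j <;> simp [e01, e11, hr, hp]
    · right; ext i j; fin_cases i <;> fin_cases j <;> simp [e01, e11, hr, hp]
  · refine ⟨GeneralLinearGroup.mkOfDetNeZero (dd 0 1) (by rw [hJdet]; exact one_ne_zero),
      mem_nonsplitSyl.mpr ⟨0, 1, hJ, Or.inl rfl⟩, Units.ext hJdet, ?_⟩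
    show dd (0 : F) 1 * dd 0 1 = -1
    rw [dd_mul_dd]
    ext i j; fin_cases i <;> fin_cases j <;> simp [dd]

theorem odd_card_of_two_ne_zero (h2 : (2 : F) ≠ 0) : Odd (Fintype.card F) := by
  refine Nat.odd_iff.mpr (FiniteField.odd_card_of_char_ne_two fun e => h2 ?_)
  have : CharP F 2 := e ▸ ringChar.charP F
  exact CharTwo.two_eq_zero

theorem exists_good_two (h2 : (2 : F) ≠ 0) : ∃ S : Subgroup (GL (Fin 2) F), Good S := by
  by_cases h : ∃ i : F, i * i = -1
  · obtain ⟨i, hi⟩ := h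
    exact ⟨_, good_splitSyl h2 hi⟩
  · push Not at h
    exact ⟨_, good_nonsplitSyl h2 h⟩

/-- For `q ≡ ±1 (mod 8)` the Sylow 2-subgroups of `SL(2, q)` are self-normalising. -/
theorem exists_sl_two (h2 : (2 : F) ≠ 0) {ρ : F} (hρ : ρ * ρ = 2) :
    ∃ Q : Subgroup (SpecialLinearGroup (Fin 2) F), IsPGroup 2 Q ∧
      Subgroup.normalizer (Q : Set (SpecialLinearGroup (Fin 2) F)) ≤ Q := by
  have hρ0 : ρ ≠ 0 := by rintro rfl; exact h2 (by rw [← hρ, mul_zero])
  by_cases h : ∃ i : F, i * i = -1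
  · obtain ⟨i, hi⟩ := h
    refine ⟨slPart (splitSyl F), isPGroup_slPart isPGroup_splitSyl, fun g hg => ?_⟩
    set ζ := (1 + i) / ρ with hζ
    have hζ2 : ζ * ζ = i := by rw [hζ]; field_simp; linear_combination hi - i * hρ
    have hi2 : Two i := ⟨2, by rw [show i ^ 2 ^ 2 = (i * i) * (i * i) by ring, hi]; ring⟩
    have hζT : Two ζ := two_of_pow_eq 1 (by rw [pow_one, sq, hζ2]; exact hi2)
    have hζ0 : ζ ≠ 0 := by rintro h; rw [h, mul_zero] at hζ2; rw [← hζ2] at hi; simp at hi
    let x : SpecialLinearGroup (Fin 2) F :=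
      ⟨mon ζ ζ⁻¹, by rw [det_mon, mul_inv_cancel₀ hζ0]⟩
    let y : SpecialLinearGroup (Fin 2) F := ⟨ant 1 (-1), by rw [det_ant]; ring⟩
    have hmem : ∀ z : SpecialLinearGroup (Fin 2) F, z ∈ slPart (splitSyl F) →
        SpecialLinearGroup.toGL g * SpecialLinearGroup.toGL z * (SpecialLinearGroup.toGL g)⁻¹ ∈
          splitSyl F := fun z hz => by
      rw [← map_inv, ← map_mul, ← map_mul]; exact (Subgroup.mem_normalizer_iff.mp hg z).mp hz
    obtain ⟨a, b, ha, hb, hab⟩ := monomial_of_conj (x := SpecialLinearGroup.toGL x) rfl (by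
      rw [hζ2, ← mul_inv, hζ2]
      intro e
      have h' : i * i = 1 := by nth_rewrite 2 [e]; exact mul_inv_cancel₀ (by rintro rfl; simp at hi)
      exact h2 (by linear_combination hi - h'))
      (hmem x (mem_splitSyl.mpr ⟨ζ, ζ⁻¹, hζT, hζT.inv₀, Or.inl rfl⟩))
    have hr := two_ratio (y := SpecialLinearGroup.toGL y) ha hb Two.one two_neg_one rfl hab
      (hmem y (mem_splitSyl.mpr ⟨1, -1, Two.one, two_neg_one, Or.inr rfl⟩))
    have hdet : a * b = 1 ∨ -(a * b) = 1 := by
      have hd := g.2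
      rcases hab with h | h
      · left; rw [← det_mon]; rw [← h]; exact hd
      · right; rw [← det_ant]; rw [← h]; exact hd
    have hab1 : Two (a * b) := by
      rcases hdet with h | h
      · rw [h]; exact Two.one
      · rw [show a * b = -1 by linear_combination -h]; exact two_neg_one
    have haT : Two a := two_of_pow_eq 1 (by
      rw [pow_one, show a ^ 2 = a / b * (a * b) by field_simp]
      exact hr.mul (Commute.all _ _) hab1)
    have hbT : Two b := by
      rw [show b = a * b * a⁻¹ by field_simp]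
      exact hab1.mul (Commute.all _ _) haT.inv₀
    exact mem_splitSyl.mpr ⟨a, b, haT, hbT, hab⟩
  · push Not at h
    refine ⟨slPart (nonsplitSyl F), isPGroup_slPart isPGroup_nonsplitSyl, fun g hg => ?_⟩
    set c := ρ⁻¹ with hc
    have hcc : 2 * (c * c) = 1 := by rw [hc, ← mul_inv, hρ]; field_simp
    let x : SpecialLinearGroup (Fin 2) F := ⟨dd c c, by rw [det_dd]; linear_combination hcc⟩
    have hxx : dd c c * dd c c = dd 0 1 := by
      rw [dd_mul_dd]; congr 1
      · ring
      · linear_combination hcc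
    have hJ : Two (dd (0 : F) 1) := ⟨2, by
      rw [show (2 : ℕ) ^ 2 = 2 * 2 by norm_num, pow_mul, sq, sq, dd_mul_dd, dd_mul_dd,
        ← one_smul F (1 : Matrix (Fin 2) (Fin 2) F), ← dd_zero]
      congr 1 <;> ring⟩
    have hxT : Two (dd c c) := two_of_pow_eq 1 (by rw [pow_one, sq, hxx]; exact hJ)
    have hmem : ∀ z : SpecialLinearGroup (Fin 2) F, z ∈ slPart (nonsplitSyl F) →
        SpecialLinearGroup.toGL g * SpecialLinearGroup.toGL z * (SpecialLinearGroup.toGL g)⁻¹ ∈
          nonsplitSyl F := fun z hz => by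
      rw [← map_inv, ← map_mul, ← map_mul]; exact (Subgroup.mem_normalizer_iff.mp hg z).mp hz
    obtain ⟨p, r, hpr, hn'⟩ := torus_of_conj (x := SpecialLinearGroup.toGL x) h2 h (Or.inl rfl) hxx rfl
      (hmem x (mem_nonsplitSyl.mpr ⟨c, c, hxT, Or.inl rfl⟩))
    -- a 2-element of norm `-1`
    obtain ⟨a, b, habT, hab⟩ : ∃ a b : F, Two (dd a b) ∧ a * a + b * b = -1 := by
      obtain ⟨u, v, huv⟩ := SL2.exists_sum_sq (odd_card_of_two_ne_zero h2) (-1 : F)
      have hd : (dd u v).det ≠ 0 := by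
        rw [det_dd, ← sq, ← sq, huv]; exact neg_ne_zero.mpr one_ne_zero
      let d : GL (Fin 2) F := GeneralLinearGroup.mkOfDetNeZero (dd u v) hd
      obtain ⟨j, m, hm, hjm⟩ := Nat.exists_eq_pow_mul_and_not_dvd (orderOf_pos d).ne' 2 (by norm_num)
      have hpow : ∀ k : ℕ, ∃ a b : F, dd u v ^ k = dd a b := by
        intro k
        induction k with
        | zero => exact ⟨1, 0, by simp [dd_zero]⟩
        | succ k ih =>
          obtain ⟨a, b, e⟩ := ih
          exact ⟨_, _, by rw [pow_succ, e, dd_mul_dd]⟩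
      obtain ⟨a, b, e⟩ := hpow m
      refine ⟨a, b, ⟨j, ?_⟩, ?_⟩
      · rw [← e, ← pow_mul, mul_comm, ← hjm]
        exact congrArg Units.val (pow_orderOf_eq_one d)
      · rw [← det_dd, ← e, det_pow, det_dd, ← sq, ← sq, huv, Odd.neg_one_pow]
        exact Nat.odd_iff.mpr (by omega)
    let y : SpecialLinearGroup (Fin 2) F :=
      ⟨dd a b * mon 1 (-1), by rw [det_mul, det_dd, det_mon, hab]; ring⟩
    obtain ⟨t, ht, htwo⟩ := exists_smul_two_of_conj h2 h hpr habT (y := SpecialLinearGroup.toGL y) rfl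
      hn' (hmem y (mem_nonsplitSyl.mpr ⟨a, b, habT, Or.inr rfl⟩))
    have hdet : p * p + r * r = 1 ∨ p * p + r * r = -1 := by
      have hd := g.2
      rcases hn' with h' | h'
      · left; rw [← det_dd, ← h']; exact hd
      · right
        have hd' : (dd p r * mon 1 (-1)).det = 1 := by rw [← h']; exact hd
        rw [det_mul, det_dd, det_mon] at hd'
        linear_combination -hd'
    have hdT : Two ((t * p) * (t * p) + (t * r) * (t * r)) := by
      obtain ⟨k, hk⟩ := htwo
      exact ⟨k, by rw [← det_dd, ← det_pow, hk, det_one]⟩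
    have htT : Two t := two_of_pow_eq 1 (by
      rw [pow_one, show t ^ 2 = ((t * p) * (t * p) + (t * r) * (t * r)) * (p * p + r * r) by
        rcases hdet with e | e
        · linear_combination -(t ^ 2) * (p * p + r * r + 1) * e
        · linear_combination -(t ^ 2) * (p * p + r * r - 1) * e]
      exact hdT.mul (Commute.all _ _) (by
        rcases hdet with e | e <;> rw [e]
        · exact Two.one
        · exact two_neg_one))
    have hT : Two (dd p r) := by
      rw [show dd p r = dd t⁻¹ 0 * dd (t * p) (t * r) by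
        rw [dd_mul_dd]; congr 1 <;> field_simp <;> ring]
      refine Two.mul (dd_comm ..) ?_ htwo
      obtain ⟨k, hk⟩ := htT.inv₀
      exact ⟨k, by rw [dd_zero, smul_pow, one_pow, hk, one_smul]⟩
    exact mem_nonsplitSyl.mpr ⟨p, r, hT, hn'⟩

end Cfsg.Agent.InvChar68.Pronormal
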