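import Cfsg.Agent.FGS80.Pronormal
import Mathlib

/-!
# Pronormality of overgroups of Sylow 2-subgroups: generalities
-/

set_option autoImplicit false

namespace Cfsg.Agent.InvChar68.Pronormal

open Subgroup Cfsg.Agent.FGS80.Pronormal

variable {G : Type*} [Group G]

/-- A `p`-subgroup none of whose outside normalising elements is a `p`-element is a Sylow
subgroup. -/
theorem exists_sylow_eq [Finite G] {p : ℕ} [Fact p.Prime] (Q : Subgroup G) (hQ : IsPGroup p Q)
    (h : ∀ g ∈ normalizer (Q : Set G), (∃ k : ℕ, g ^ p ^ k = 1) → g ∈ Q) :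
    ∃ P : Sylow p G, (P : Subgroup G) = Q := by
  obtain ⟨P, hP⟩ := hQ.exists_le_sylow
  refine ⟨P, ?_⟩
  by_contra hne
  haveI : Group.IsNilpotent P := P.isPGroup'.isNilpotent
  have hlt : Q.subgroupOf (P : Subgroup G) < ⊤ :=
    lt_top_iff_ne_top.mpr fun htop => hne (le_antisymm (subgroupOf_eq_top.mp htop) hP)
  obtain ⟨x, hx, hx'⟩ := SetLike.exists_of_lt (normalizerCondition_of_isNilpotent _ hlt)
  refine hx' (mem_subgroupOf.mpr (h _ ?_ ?_))
  · rw [mem_normalizer_iff]
    intro y
    constructor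
    · intro hy
      exact (mem_normalizer_iff.mp hx ⟨y, hP hy⟩).mp hy
    · intro hy
      have hyP : y ∈ (P : Subgroup G) := by
        have := mul_mem (mul_mem (inv_mem x.2) (hP hy)) x.2
        simpa [mul_assoc] using this
      exact (mem_normalizer_iff.mp hx ⟨y, hyP⟩).mpr hy
  · obtain ⟨k, hk⟩ := P.isPGroup' x
    exact ⟨k, by rw [← coe_pow, hk, coe_one]⟩

/-- A subgroup of index prime to `p` contains a conjugate of every Sylow subgroup. -/
theorem exists_cj_le [Finite G] {p : ℕ} [hp : Fact p.Prime] (P : Sylow p G) (H : Subgroup G)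
    (hH : ¬ p ∣ H.index) : ∃ g : G, cj g (P : Subgroup G) ≤ H := by
  obtain ⟨R⟩ : Nonempty (Sylow p ↥H) := inferInstance
  obtain ⟨S, hS⟩ := (R.isPGroup'.map H.subtype).exists_le_sylow
  have hle : (S : Subgroup G) ≤ H := by
    have hRc : Nat.card ↥((R : Subgroup ↥H).map H.subtype) = Nat.card ↥(R : Subgroup ↥H) :=
      card_map_of_injective H.subtype_injective
    have hcard : Nat.card ↥(S : Subgroup G) ≤ Nat.card ↥((R : Subgroup ↥H).map H.subtype) := by
      rw [hRc, Sylow.card_eq_multiplicity, Sylow.card_eq_multiplicity,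
        ← H.card_mul_index, Nat.factorization_mul Nat.card_pos.ne' FiniteIndex.index_ne_zero]
      simp [Nat.factorization_eq_zero_of_not_dvd hH]
    rw [← eq_of_le_of_card_ge hS hcard]
    exact map_subtype_le _
  obtain ⟨g, hg⟩ := MulAction.exists_smul_eq G P S
  exact ⟨g, by rw [← hg] at hle; exact hle⟩

/-- Pronormality reduced to elements normalising a Sylow subgroup. -/
theorem isPronormal_of_normalizer [Finite G] {p : ℕ} [Fact p.Prime] (P : Sylow p G) (H : Subgroup G)
    (hP : (P : Subgroup G) ≤ H)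
    (h : ∀ g ∈ normalizer ((P : Subgroup G) : Set G), ∃ x ∈ H ⊔ cj g H, cj g H = cj x H) :
    Cfsg.IsPronormal H := by
  intro g
  show ∃ x ∈ H ⊔ cj g H, cj g H = cj x H
  have h1 : (P : Subgroup G) ≤ H ⊔ cj g H := hP.trans le_sup_left
  have h2 : ((g • P : Sylow p G) : Subgroup G) ≤ H ⊔ cj g H := (cj_mono hP).trans le_sup_right
  obtain ⟨k, hk⟩ := MulAction.exists_smul_eq ↥(H ⊔ cj g H) (P.subtype h1) ((g • P).subtype h2)
  rw [Sylow.smul_subtype] at hk
  have h3 := Sylow.subtype_injective hk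
  have h4 : ((k : G)⁻¹ * g) • P = P := by
    rw [mul_smul, ← h3]
    exact inv_smul_smul (k : G) P
  exact reduce k.2 (h _ (Sylow.smul_eq_iff_mem_normalizer.1 h4))

/-- The main criterion: it is enough that the normaliser of a Sylow subgroup normalises every
overgroup. -/
theorem isPronormal_of_normalizes [Finite G] {p : ℕ} [Fact p.Prime] (P : Sylow p G)
    (h : ∀ H : Subgroup G, (P : Subgroup G) ≤ H →
      ∀ g ∈ normalizer ((P : Subgroup G) : Set G), cj g H = H)
    (H : Subgroup G) (hH : ¬ p ∣ H.index) : Cfsg.IsPronormal H := by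
  obtain ⟨g, hg⟩ := exists_cj_le P H hH
  have hle : (P : Subgroup G) ≤ cj g⁻¹ H := by
    have := cj_mono (g := g⁻¹) hg
    rwa [← cj_mul, inv_mul_cancel, cj_one] at this
  have := isPronormal_cj g (isPronormal_of_normalizer P _ hle fun n hn =>
    ⟨1, one_mem _, by rw [h _ hle n hn, cj_one]⟩)
  rwa [← cj_mul, mul_inv_cancel, cj_one] at this

theorem isPronormal_of_selfNormalizing [Finite G] {p : ℕ} [Fact p.Prime] (Q : Subgroup G)
    (hQ : IsPGroup p Q) (hN : normalizer (Q : Set G) ≤ Q)
    (H : Subgroup G) (hH : ¬ p ∣ H.index) : Cfsg.IsPronormal H := by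
  obtain ⟨P, rfl⟩ := exists_sylow_eq Q hQ fun g hg _ => hN hg
  exact isPronormal_of_normalizes P (fun K hK g hg => cj_self (hK (hN hg))) H hH

/-- Transport along a surjective homomorphism. -/
theorem isPronormal_of_surjective {L : Type*} [Group L] (f : L →* G) (hf : Function.Surjective f)
    {p : ℕ} (h : ∀ K : Subgroup L, ¬ p ∣ K.index → Cfsg.IsPronormal K)
    (H : Subgroup G) (hH : ¬ p ∣ H.index) : Cfsg.IsPronormal H := by
  rw [← map_comap_eq_self_of_surjective hf H]
  exact isPronormal_map f hf _ (h _ (by rwa [index_comap_of_surjective H hf]))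

end Cfsg.Agent.InvChar68.Pronormal
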