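import Mathlib

/-!
# A self-normalising 2-subgroup of `GL(2m)` built from one of `GL(m)`
-/

set_option autoImplicit false

namespace Cfsg.Agent.InvChar68.Pronormal

open Matrix

variable {ι F : Type*} [Fintype ι] [DecidableEq ι] [Field F]

/-- Scalar units. -/
def sc : Fˣ →* GL ι F := Units.map (Matrix.scalar ι).toMonoidHom

theorem sc_val (a : Fˣ) : ((sc a : GL ι F) : Matrix ι ι F) = (a : F) • 1 := by
  rw [smul_one_eq_diagonal]; rfl

theorem sc_comm (a : Fˣ) (g : GL ι F) : sc a * g = g * sc a :=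
  Units.ext (by rw [Units.val_mul, Units.val_mul, sc_val]; simp)

theorem det_sc (a : Fˣ) : GeneralLinearGroup.det (sc a : GL ι F) = a ^ Fintype.card ι :=
  Units.ext (by rw [GeneralLinearGroup.val_det_apply, sc_val, det_smul, det_one, mul_one,
    Units.val_pow_eq_pow_val])

/-- The two-part hypotheses propagated by the induction. -/
structure Good (S : Subgroup (GL ι F)) : Prop where
  pgroup : IsPGroup 2 S
  scalar : ∀ a : Fˣ, (∃ k : ℕ, a ^ 2 ^ k = 1) → sc a ∈ S
  detSurj : ∀ a : Fˣ, (∃ k : ℕ, a ^ 2 ^ k = 1) → ∃ s ∈ S, GeneralLinearGroup.det s = a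
  normal : ∀ n : GL ι F, (∀ s, s ∈ S ↔ n * s * n⁻¹ ∈ S) → ∃ a : Fˣ, sc a * n ∈ S
  idem : ∀ e : Matrix ι ι F, e * e = e →
    (∀ s ∈ S, GeneralLinearGroup.det s = 1 → (s : Matrix ι ι F) * e = e * s) → e = 0 ∨ e = 1
  sqrtNeg : ∃ x ∈ S, GeneralLinearGroup.det x = 1 ∧ (x : Matrix ι ι F) * x = -1

theorem Good.det_two {S : Subgroup (GL ι F)} (hS : Good S) {s : GL ι F} (hs : s ∈ S) :
    ∃ k : ℕ, GeneralLinearGroup.det s ^ 2 ^ k = 1 := by
  obtain ⟨k, hk⟩ := hS.pgroup ⟨s, hs⟩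
  refine ⟨k, ?_⟩
  rw [← map_pow, show s ^ 2 ^ k = 1 from congrArg Subtype.val hk, map_one]

/-- Block diagonal pairs. -/
def dia : GL ι F × GL ι F →* GL (ι ⊕ ι) F where
  toFun p := ⟨fromBlocks (p.1 : Matrix ι ι F) 0 0 p.2,
    fromBlocks ((p.1⁻¹ : GL ι F) : Matrix ι ι F) 0 0 ((p.2⁻¹ : GL ι F) : Matrix ι ι F),
    by simp [fromBlocks_multiply, ← Units.val_mul, fromBlocks_one],
    by simp [fromBlocks_multiply, ← Units.val_mul, fromBlocks_one]⟩
  map_one' := Units.ext (by simp [fromBlocks_one])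
  map_mul' p q := Units.ext (by simp [fromBlocks_multiply])

@[simp] theorem dia_val (a b : GL ι F) :
    ((dia (a, b) : GL (ι ⊕ ι) F) : Matrix (ι ⊕ ι) (ι ⊕ ι) F) =
      fromBlocks (a : Matrix ι ι F) 0 0 b := rfl

/-- The interchange of the two blocks. -/
def swp : GL (ι ⊕ ι) F :=
  ⟨fromBlocks 0 1 1 0, fromBlocks 0 1 1 0,
    by simp [fromBlocks_multiply, fromBlocks_one], by simp [fromBlocks_multiply, fromBlocks_one]⟩

@[simp] theorem swp_val :
    ((swp : GL (ι ⊕ ι) F) : Matrix (ι ⊕ ι) (ι ⊕ ι) F) = fromBlocks 0 1 1 0 := rfl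

theorem swp_mul_swp : (swp * swp : GL (ι ⊕ ι) F) = 1 :=
  Units.ext (by simp [fromBlocks_multiply, fromBlocks_one])

theorem swp_dia (a b : GL ι F) : swp * dia (a, b) = dia (b, a) * swp :=
  Units.ext (by simp [fromBlocks_multiply])

theorem det_dia (a b : GL ι F) :
    GeneralLinearGroup.det (dia (a, b)) = GeneralLinearGroup.det a * GeneralLinearGroup.det b :=
  Units.ext (by simp [GeneralLinearGroup.val_det_apply, det_fromBlocks_zero₁₂])

theorem det_swp (hι : Even (Fintype.card ι)) :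
    GeneralLinearGroup.det (swp : GL (ι ⊕ ι) F) = 1 := by
  refine Units.ext ?_
  rw [GeneralLinearGroup.val_det_apply, swp_val,
    show (fromBlocks 0 1 1 0 : Matrix (ι ⊕ ι) (ι ⊕ ι) F) =
      fromBlocks 1 1 0 1 * fromBlocks 1 0 (-1) 1 * fromBlocks 1 1 0 1 * fromBlocks (-1) 0 0 1 by
      simp [fromBlocks_multiply]]
  simp [det_fromBlocks_zero₁₂, det_fromBlocks_zero₂₁, det_neg, hι.neg_one_pow]

theorem sc_sum (a : Fˣ) : (sc a : GL (ι ⊕ ι) F) = dia (sc a, sc a) := by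
  refine Units.ext ?_
  rw [dia_val, sc_val, sc_val, ← fromBlocks_one, fromBlocks_smul, smul_zero]

theorem dia_inj {a b c d : GL ι F} (h : dia (a, b) = dia (c, d)) : a = c ∧ b = d := by
  have h' : fromBlocks (a : Matrix ι ι F) 0 0 (b : Matrix ι ι F) =
      fromBlocks (c : Matrix ι ι F) 0 0 (d : Matrix ι ι F) := congrArg Units.val h
  rw [fromBlocks_inj] at h'
  exact ⟨Units.ext h'.1, Units.ext h'.2.2.2⟩

theorem dia_ne_dia_swp [Nonempty ι] (a b c d : GL ι F) : dia (a, b) ≠ dia (c, d) * swp := by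
  intro h
  have h' := congrArg Units.val h
  rw [Units.val_mul, dia_val, dia_val, swp_val, fromBlocks_multiply, fromBlocks_inj] at h'
  have h1 : (a : Matrix ι ι F) = 0 := by simpa using h'.1
  exact Units.ne_zero a h1

/-- The wreath product of `S` by the interchange. -/
def wr (S : Subgroup (GL ι F)) : Subgroup (GL (ι ⊕ ι) F) where
  carrier := {g | ∃ a ∈ S, ∃ b ∈ S, g = dia (a, b) ∨ g = dia (a, b) * swp}
  one_mem' := ⟨1, S.one_mem, 1, S.one_mem, Or.inl (map_one _).symm⟩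
  mul_mem' := by
    rintro _ _ ⟨a, ha, b, hb, rfl | rfl⟩ ⟨c, hc, d, hd, rfl | rfl⟩
    · exact ⟨a * c, mul_mem ha hc, b * d, mul_mem hb hd, Or.inl (map_mul dia (a, b) (c, d)).symm⟩
    · exact ⟨a * c, mul_mem ha hc, b * d, mul_mem hb hd, Or.inr (by
        rw [← mul_assoc, ← map_mul, Prod.mk_mul_mk])⟩
    · exact ⟨a * d, mul_mem ha hd, b * c, mul_mem hb hc, Or.inr (by
        rw [mul_assoc, swp_dia, ← mul_assoc, ← map_mul, Prod.mk_mul_mk])⟩
    · exact ⟨a * d, mul_mem ha hd, b * c, mul_mem hb hc, Or.inl (by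
        rw [mul_assoc, ← mul_assoc swp, swp_dia, mul_assoc, swp_mul_swp, mul_one, ← map_mul,
          Prod.mk_mul_mk])⟩
  inv_mem' := by
    rintro _ ⟨a, ha, b, hb, rfl | rfl⟩
    · exact ⟨a⁻¹, inv_mem ha, b⁻¹, inv_mem hb, Or.inl (map_inv dia (a, b)).symm⟩
    · refine ⟨b⁻¹, inv_mem hb, a⁻¹, inv_mem ha, Or.inr ?_⟩
      rw [_root_.mul_inv_rev, inv_eq_of_mul_eq_one_right swp_mul_swp, ← map_inv, Prod.inv_mk, swp_dia]

theorem dia_mem_wr {S : Subgroup (GL ι F)} {a b : GL ι F} (ha : a ∈ S) (hb : b ∈ S) :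
    dia (a, b) ∈ wr S := ⟨a, ha, b, hb, Or.inl rfl⟩

theorem swp_mem_wr (S : Subgroup (GL ι F)) : swp ∈ wr S :=
  ⟨1, S.one_mem, 1, S.one_mem, Or.inr (by rw [show ((1 : GL ι F), (1 : GL ι F)) = 1 from rfl,
    map_one, one_mul])⟩

theorem mem_of_dia_mem [Nonempty ι] {S : Subgroup (GL ι F)} {a b : GL ι F}
    (h : dia (a, b) ∈ wr S) : a ∈ S ∧ b ∈ S := by
  obtain ⟨c, hc, d, hd, e | e⟩ := h
  · obtain ⟨rfl, rfl⟩ := dia_inj e
    exact ⟨hc, hd⟩
  · exact absurd e (dia_ne_dia_swp a b c d)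

theorem isPGroup_wr {S : Subgroup (GL ι F)} (hS : IsPGroup 2 S) : IsPGroup 2 (wr S) := by
  have hd : ∀ a ∈ S, ∀ b ∈ S, ∃ k : ℕ, (dia (a, b) : GL (ι ⊕ ι) F) ^ 2 ^ k = 1 := by
    intro a ha b hb
    obtain ⟨k, hk⟩ := hS ⟨a, ha⟩
    obtain ⟨l, hl⟩ := hS ⟨b, hb⟩
    have hk' : a ^ 2 ^ k = 1 := congrArg Subtype.val hk
    have hl' : b ^ 2 ^ l = 1 := congrArg Subtype.val hl
    refine ⟨k + l, ?_⟩
    rw [← map_pow, Prod.pow_mk, pow_add, pow_mul, hk', one_pow, mul_comm, pow_mul, hl', one_pow]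
    exact map_one dia
  rintro ⟨g, a, ha, b, hb, rfl | rfl⟩
  · obtain ⟨k, hk⟩ := hd a ha b hb
    exact ⟨k, Subtype.ext hk⟩
  · obtain ⟨k, hk⟩ := hd (a * b) (mul_mem ha hb) (b * a) (mul_mem hb ha)
    refine ⟨1 + k, Subtype.ext ?_⟩
    show (dia (a, b) * swp) ^ 2 ^ (1 + k) = 1
    rw [pow_add, pow_mul, pow_one, sq, mul_assoc, ← mul_assoc swp, swp_dia, mul_assoc,
      swp_mul_swp, mul_one, ← map_mul, Prod.mk_mul_mk, hk]

variable (hι : Even (Fintype.card ι)) [Nonempty ι] (h2 : (2 : F) ≠ 0)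

include h2 in
theorem eq_one_or_neg {S : Subgroup (GL ι F)} (hS : Good S) (p : GL ι F)
    (hp : (p : Matrix ι ι F) * p = 1)
    (hc : ∀ s ∈ S, GeneralLinearGroup.det s = 1 → s * p = p * s) :
    (p : Matrix ι ι F) = 1 ∨ (p : Matrix ι ι F) = -1 := by
  have h := hS.idem ((2⁻¹ : F) • (1 - (p : Matrix ι ι F))) ?_ ?_
  · rcases h with h | h
    · left
      have := congrArg ((2 : F) • ·) h
      simp only [smul_smul, mul_inv_cancel₀ h2, one_smul, smul_zero] at this
      exact (sub_eq_zero.mp this).symm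
    · right
      have := congrArg ((2 : F) • ·) h
      simp only [smul_smul, mul_inv_cancel₀ h2, one_smul, two_smul] at this
      linear_combination (norm := module) -this
  · rw [smul_mul_smul_comm,
      show (1 - (p : Matrix ι ι F)) * (1 - p) = (2 : F) • (1 - (p : Matrix ι ι F)) by
        rw [two_smul, mul_sub, sub_mul, sub_mul, hp]
        simp
        abel,
      smul_smul]
    congr 1
    field_simp
  · intro s hs hd
    have := congrArg Units.val (hc s hs hd)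
    rw [Units.val_mul, Units.val_mul] at this
    rw [Matrix.mul_smul, Matrix.smul_mul, mul_sub, sub_mul, mul_one, one_mul, this]

include hι h2 in
/-- Elements normalising the determinant one part of `wr S` lie in `wr S` up to scalars. -/
theorem exists_sc_mul_mem {S : Subgroup (GL ι F)} (hS : Good S) (n : GL (ι ⊕ ι) F)
    (hn : ∀ g : GL (ι ⊕ ι) F, GeneralLinearGroup.det g = 1 → (g ∈ wr S ↔ n * g * n⁻¹ ∈ wr S)) :
    ∃ a : Fˣ, sc a * n ∈ wr S := by
  classical
  obtain ⟨x, hxS, hxd, hxx⟩ := hS.sqrtNeg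
  let e0 : GL (ι ⊕ ι) F := dia (x * x, 1)
  have he0v : (e0 : Matrix (ι ⊕ ι) (ι ⊕ ι) F) = fromBlocks (-1) 0 0 1 := by
    simp [e0, hxx]
  -- `n` sends `e0` to plus or minus `e0`
  obtain ⟨p, q, hpS, hqS, hpq⟩ : ∃ p q : GL ι F, p ∈ S ∧ q ∈ S ∧ n * e0 * n⁻¹ = dia (p, q) := by
    have hy := (hn (dia (x, 1)) (by rw [det_dia, hxd, map_one, one_mul])).mp
      (dia_mem_wr hxS S.one_mem)
    have he : n * e0 * n⁻¹ = (n * dia (x, 1) * n⁻¹) * (n * dia (x, 1) * n⁻¹) := by
      have : dia (x, (1 : GL ι F)) * dia (x, 1) = e0 := by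
        rw [← map_mul, Prod.mk_mul_mk, mul_one]
      rw [← this]; group
    obtain ⟨a, ha, b, hb, e | e⟩ := hy
    · exact ⟨a * a, b * b, mul_mem ha ha, mul_mem hb hb, by
        rw [he, e, ← map_mul, Prod.mk_mul_mk]⟩
    · exact ⟨a * b, b * a, mul_mem ha hb, mul_mem hb ha, by
        rw [he, e, mul_assoc, ← mul_assoc swp, swp_dia, mul_assoc, swp_mul_swp, mul_one, ← map_mul,
          Prod.mk_mul_mk]⟩
  have hnoNeg : ∀ m : GL ι F, (m : Matrix ι ι F) ≠ -m := by
    intro m h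
    apply Units.ne_zero m
    have : (2 : F) • (m : Matrix ι ι F) = 0 := by
      rw [two_smul]; nth_rewrite 2 [h]; exact add_neg_cancel _
    exact (smul_eq_zero.mp this).resolve_left h2
  have hconj : ∀ s t : GL ι F, s ∈ S → t ∈ S → GeneralLinearGroup.det s = 1 →
      GeneralLinearGroup.det t = 1 →
      (s * p * s⁻¹ = p ∧ t * q * t⁻¹ = q) ∨
      (((s * p * s⁻¹ : GL ι F) : Matrix ι ι F) = -p ∧
        ((t * q * t⁻¹ : GL ι F) : Matrix ι ι F) = -q) := by
    intro s t hs ht hsd htd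
    have hz : n⁻¹ * dia (s, t) * n ∈ wr S :=
      (hn _ (by simp [det_dia, hsd, htd])).mpr (by
        have := dia_mem_wr hs ht
        simpa [mul_assoc] using this)
    have hze : (n⁻¹ * dia (s, t) * n) * e0 * (n⁻¹ * dia (s, t) * n)⁻¹ = e0 ∨
        (n⁻¹ * dia (s, t) * n) * e0 * (n⁻¹ * dia (s, t) * n)⁻¹ = -e0 := by
      obtain ⟨a, ha, b, hb, e | e⟩ := hz
      · refine Or.inl (Units.ext ?_)
        rw [e, ← map_inv, Prod.inv_mk]
        simp [he0v, fromBlocks_multiply, ← Units.val_mul]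
      · refine Or.inr (Units.ext ?_)
        rw [e, _root_.mul_inv_rev, inv_eq_of_mul_eq_one_right swp_mul_swp, ← map_inv, Prod.inv_mk]
        simp [he0v, fromBlocks_multiply, fromBlocks_neg, ← Units.val_mul]
    have hd : dia (s, t) * dia (p, q) * (dia (s, t))⁻¹ =
        n * ((n⁻¹ * dia (s, t) * n) * e0 * (n⁻¹ * dia (s, t) * n)⁻¹) * n⁻¹ := by
      rw [← hpq]; group
    rw [← map_mul, ← map_inv, ← map_mul, Prod.mk_mul_mk, Prod.inv_mk, Prod.mk_mul_mk] at hd
    rcases hze with hε | hε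
    · left
      rw [hε, hpq] at hd
      exact dia_inj hd
    · right
      rw [hε, mul_neg, neg_mul, hpq] at hd
      have hd' := congrArg Units.val hd
      rw [dia_val, Units.val_neg, dia_val, fromBlocks_neg, fromBlocks_inj] at hd'
      exact ⟨hd'.1, hd'.2.2.2⟩
  have hp : (p : Matrix ι ι F) * p = 1 ∧ (q : Matrix ι ι F) * q = 1 := by
    have h : dia (p, q) * dia (p, q) = n * (e0 * e0) * n⁻¹ := by rw [← hpq]; group
    have he : e0 * e0 = 1 := Units.ext (by simp [he0v, fromBlocks_multiply, fromBlocks_one])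
    rw [he, mul_one, mul_inv_cancel, ← map_mul, Prod.mk_mul_mk, ← map_one dia] at h
    obtain ⟨h1, h2'⟩ := dia_inj (h.trans (by rw [Prod.mk_one_one]))
    exact ⟨congrArg Units.val h1, congrArg Units.val h2'⟩
  have hp1 := eq_one_or_neg h2 hS p hp.1 fun s hs hsd => by
    rcases hconj s 1 hs S.one_mem hsd (map_one _) with ⟨h, -⟩ | ⟨-, h⟩
    · exact mul_inv_eq_iff_eq_mul.mp h
    · exact absurd (by simpa using h) (hnoNeg q)
  have hq1 := eq_one_or_neg h2 hS q hp.2 fun s hs hsd => by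
    rcases hconj 1 s S.one_mem hs (map_one _) hsd with ⟨-, h⟩ | ⟨h, -⟩
    · exact mul_inv_eq_iff_eq_mul.mp h
    · exact absurd (by simpa using h) (hnoNeg p)
  have h11 : (1 : Matrix ι ι F) ≠ -1 := hnoNeg 1
  have hscal : ∀ c : F, (e0 : Matrix (ι ⊕ ι) (ι ⊕ ι) F) ≠ c • 1 := by
    intro c h
    rw [he0v, ← fromBlocks_one, fromBlocks_smul, fromBlocks_inj] at h
    exact h11 (h.2.2.2.trans h.1.symm)
  have hnot : ∀ c : F, (p : Matrix ι ι F) = c • 1 → (q : Matrix ι ι F) ≠ c • 1 := by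
    intro c hp' hq'
    have hv : (n : Matrix (ι ⊕ ι) (ι ⊕ ι) F) * (e0 : Matrix (ι ⊕ ι) (ι ⊕ ι) F) * ((n⁻¹ : GL (ι ⊕ ι) F) : Matrix _ _ F) =
        c • 1 := by
      rw [← Units.val_mul, ← Units.val_mul, hpq, dia_val, hp', hq', ← fromBlocks_one,
        fromBlocks_smul, smul_zero]
    apply hscal c
    calc (e0 : Matrix (ι ⊕ ι) (ι ⊕ ι) F)
        = ((n⁻¹ : GL (ι ⊕ ι) F) : Matrix _ _ F) * ((n : Matrix (ι ⊕ ι) (ι ⊕ ι) F) * (e0 : Matrix (ι ⊕ ι) (ι ⊕ ι) F) *
            ((n⁻¹ : GL (ι ⊕ ι) F) : Matrix _ _ F)) * (n : Matrix (ι ⊕ ι) (ι ⊕ ι) F) := by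
          simp only [← Units.val_mul]; congr 1; group
      _ = c • 1 := by rw [hv]; simp [← Units.val_mul]
  -- reduce to a block diagonal element
  suffices key : ∀ m : GL (ι ⊕ ι) F,
      (∀ g : GL (ι ⊕ ι) F, GeneralLinearGroup.det g = 1 → (g ∈ wr S ↔ m * g * m⁻¹ ∈ wr S)) →
      m * e0 = e0 * m → ∃ a : Fˣ, sc a * m ∈ wr S by
    by_cases hcase : n * e0 = e0 * n
    · exact key n hn hcase
    · obtain ⟨a, ha⟩ := key (swp * n) (fun g hg => (hn g hg).trans (by
          rw [_root_.mul_inv_rev, show swp * n * g * (n⁻¹ * swp⁻¹) = swp * (n * g * n⁻¹) * swp⁻¹ by group,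
            Subgroup.mul_mem_cancel_right _ (inv_mem (swp_mem_wr S)),
            Subgroup.mul_mem_cancel_left _ (swp_mem_wr S)])) (by
        refine Units.ext ?_
        have hpq' : (p : Matrix ι ι F) = 1 ∧ (q : Matrix ι ι F) = -1 := by
          rcases hp1 with hp' | hp' <;> rcases hq1 with hq' | hq'
          · exact absurd (by rw [hq', one_smul]) (hnot 1 (by rw [hp', one_smul]))
          · exact ⟨hp', hq'⟩
          · exfalso; apply hcase
            rw [← mul_inv_eq_iff_eq_mul, hpq]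
            exact Units.ext (by rw [dia_val, he0v, hp', hq'])
          · exact absurd (by rw [hq', neg_smul, one_smul]) (hnot (-1) (by rw [hp', neg_smul, one_smul]))
        have hsw : (swp : GL (ι ⊕ ι) F) * dia (p, q) = e0 * swp := Units.ext (by
          simp [he0v, fromBlocks_multiply, hpq'.1, hpq'.2])
        rw [← hpq] at hsw
        have : swp * n * e0 = e0 * (swp * n) := by
          calc swp * n * e0 = swp * (n * e0 * n⁻¹) * n := by group
            _ = e0 * swp * n := by rw [hsw]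
            _ = e0 * (swp * n) := by group
        exact congrArg Units.val this)
      refine ⟨a, ?_⟩
      have := Subgroup.mul_mem _ (swp_mem_wr S) ha
      rwa [← mul_assoc, ← sc_comm, mul_assoc, ← mul_assoc swp, swp_mul_swp, one_mul] at this
  intro m hm hcomm
  obtain ⟨A, B, C, D, hbl⟩ : ∃ A B C D : Matrix ι ι F,
      (m : Matrix (ι ⊕ ι) (ι ⊕ ι) F) = fromBlocks A B C D :=
    ⟨_, _, _, _, (fromBlocks_toBlocks _).symm⟩
  have hc := congrArg Units.val hcomm
  rw [Units.val_mul, Units.val_mul, he0v, hbl, fromBlocks_multiply, fromBlocks_multiply,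
    fromBlocks_inj] at hc
  simp at hc
  have hzero : ∀ M : Matrix ι ι F, M = -M → M = 0 := fun M h => by
    have : (2 : F) • M = 0 := by rw [two_smul]; nth_rewrite 2 [h]; exact add_neg_cancel _
    exact (smul_eq_zero.mp this).resolve_left h2
  have hB : B = 0 := hzero B (by first | exact hc.1 | exact hc.1.symm)
  have hC : C = 0 := hzero C (by first | exact hc.2 | exact hc.2.symm)
  rw [hB, hC] at hbl
  have hdet : A.det * D.det ≠ 0 := by
    rw [← det_fromBlocks_zero₁₂ A 0 D, ← hbl]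
    exact (GeneralLinearGroup.det m).ne_zero
  obtain ⟨a, rfl⟩ : ∃ a : GL ι F, (a : Matrix ι ι F) = A :=
    (Matrix.isUnit_iff_isUnit_det A).mpr (isUnit_iff_ne_zero.mpr (left_ne_zero_of_mul hdet))
  obtain ⟨b, rfl⟩ : ∃ b : GL ι F, (b : Matrix ι ι F) = D :=
    (Matrix.isUnit_iff_isUnit_det D).mpr (isUnit_iff_ne_zero.mpr (right_ne_zero_of_mul hdet))
  obtain rfl : m = dia (a, b) := Units.ext (by rw [dia_val]; exact hbl)
  have hconjd : ∀ s t : GL ι F,
      dia (a, b) * dia (s, t) * (dia (a, b))⁻¹ = dia (a * s * a⁻¹, b * t * b⁻¹) := fun s t => by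
    rw [← map_mul, ← map_inv, ← map_mul, Prod.mk_mul_mk, Prod.inv_mk, Prod.mk_mul_mk]
  have hda : ∀ r : GL ι F, r ∈ S → ∃ r' ∈ S, GeneralLinearGroup.det r * GeneralLinearGroup.det r' = 1 := by
    intro r hr
    obtain ⟨k, hk⟩ := hS.det_two hr
    obtain ⟨r', hr', he⟩ := hS.detSurj (GeneralLinearGroup.det r)⁻¹ ⟨k, by rw [inv_pow, hk, inv_one]⟩
    exact ⟨r', hr', by rw [he, mul_inv_cancel]⟩
  have hna : (∀ s, s ∈ S ↔ a * s * a⁻¹ ∈ S) ∧ (∀ s, s ∈ S ↔ b * s * b⁻¹ ∈ S) := by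
    refine ⟨fun s => ⟨fun hs => ?_, fun hs => ?_⟩, fun s => ⟨fun hs => ?_, fun hs => ?_⟩⟩
    · obtain ⟨s', hs', he⟩ := hda s hs
      have := (hm (dia (s, s')) (by rw [det_dia, he])).mp (dia_mem_wr hs hs')
      rw [hconjd] at this
      exact (mem_of_dia_mem this).1
    · obtain ⟨r', hr', he⟩ := hda _ hs
      have := (hm (dia (s, b⁻¹ * r' * b)) (by
        rw [det_dia, ← he]; simp [mul_comm, mul_assoc])).mpr (by
        rw [hconjd]; simpa [mul_assoc] using dia_mem_wr hs hr')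
      exact (mem_of_dia_mem this).1
    · obtain ⟨s', hs', he⟩ := hda s hs
      have := (hm (dia (s', s)) (by rw [det_dia, mul_comm, he])).mp (dia_mem_wr hs' hs)
      rw [hconjd] at this
      exact (mem_of_dia_mem this).2
    · obtain ⟨r', hr', he⟩ := hda _ hs
      have := (hm (dia (a⁻¹ * r' * a, s)) (by
        rw [det_dia, ← he]; simp [mul_comm, mul_assoc])).mpr (by
        rw [hconjd]; simpa [mul_assoc] using dia_mem_wr hr' hs)
      exact (mem_of_dia_mem this).2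
  obtain ⟨u, hu⟩ := hS.normal a hna.1
  obtain ⟨v, hv⟩ := hS.normal b hna.2
  have hab : a * b⁻¹ ∈ S := by
    have h := (hm swp (det_swp hι)).mp (swp_mem_wr S)
    rw [show dia (a, b) * swp * (dia (a, b))⁻¹ = dia (a * b⁻¹, b * a⁻¹) * swp by
      rw [← map_inv, mul_assoc, Prod.inv_mk, swp_dia, ← mul_assoc, ← map_mul, Prod.mk_mul_mk],
      Subgroup.mul_mem_cancel_right _ (swp_mem_wr S)] at h
    exact (mem_of_dia_mem h).1
  refine ⟨u, ?_⟩
  rw [sc_sum, ← map_mul, Prod.mk_mul_mk]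
  refine dia_mem_wr hu ?_
  rw [show sc u * b = (a * b⁻¹)⁻¹ * (sc u * a) by
    rw [_root_.mul_inv_rev, inv_inv, sc_comm u a, ← mul_assoc, inv_mul_cancel_right, sc_comm]]
  exact mul_mem (inv_mem hab) hu

include hι h2 in
theorem Good.wr {S : Subgroup (GL ι F)} (hS : Good S) : Good (Pronormal.wr S) where
  pgroup := isPGroup_wr hS.pgroup
  scalar a ha := by rw [sc_sum]; exact dia_mem_wr (hS.scalar a ha) (hS.scalar a ha)
  detSurj a ha := by
    obtain ⟨s, hs, he⟩ := hS.detSurj a ha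
    exact ⟨dia (s, 1), dia_mem_wr hs S.one_mem, by rw [det_dia, he, map_one, mul_one]⟩
  normal n hn := exists_sc_mul_mem hι h2 hS n fun g _ => hn g
  idem e he hc := by
    obtain ⟨x, hxS, hxd, hxx⟩ := hS.sqrtNeg
    obtain ⟨A, B, C, D, rfl⟩ : ∃ A B C D : Matrix ι ι F, e = fromBlocks A B C D :=
      ⟨_, _, _, _, (fromBlocks_toBlocks _).symm⟩
    have hz : ∀ M : Matrix ι ι F, M = -M → M = 0 := fun M h => by
      have : (2 : F) • M = 0 := by rw [two_smul]; nth_rewrite 2 [h]; exact add_neg_cancel _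
      exact (smul_eq_zero.mp this).resolve_left h2
    have h0 := hc (dia (x * x, 1)) (dia_mem_wr (mul_mem hxS hxS) S.one_mem)
      (by rw [det_dia, map_mul, hxd, map_one, mul_one, mul_one])
    rw [dia_val, Units.val_mul, hxx, fromBlocks_multiply, fromBlocks_multiply, fromBlocks_inj] at h0
    simp at h0
    obtain rfl : B = 0 := hz B (by first | exact h0.1 | exact h0.1.symm)
    obtain rfl : C = 0 := hz C (by first | exact h0.2 | exact h0.2.symm)
    rw [fromBlocks_multiply, fromBlocks_inj] at he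
    simp at he
    have hA := hS.idem A he.1 fun s hs hd => by
      have := hc (dia (s, 1)) (dia_mem_wr hs S.one_mem) (by rw [det_dia, hd, map_one, mul_one])
      rw [dia_val, fromBlocks_multiply, fromBlocks_multiply, fromBlocks_inj] at this
      simpa using this.1
    have hsw := hc swp (swp_mem_wr S) (det_swp hι)
    rw [swp_val, fromBlocks_multiply, fromBlocks_multiply, fromBlocks_inj] at hsw
    simp at hsw
    have hAD : D = A := by first | exact hsw.1 | exact hsw.1.symm | exact hsw | exact hsw.symm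
    subst hAD
    rcases hA with rfl | rfl
    · exact Or.inl fromBlocks_zero
    · exact Or.inr fromBlocks_one
  sqrtNeg := by
    obtain ⟨x, hxS, hxd, hxx⟩ := hS.sqrtNeg
    refine ⟨dia (x, x), dia_mem_wr hxS hxS, by rw [det_dia, hxd, mul_one], ?_⟩
    simp [fromBlocks_multiply, hxx, ← fromBlocks_one, fromBlocks_neg]

/-- The special linear part of a good subgroup. -/
def slPart (S : Subgroup (GL ι F)) : Subgroup (SpecialLinearGroup ι F) :=
  S.comap SpecialLinearGroup.toGL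

include hι h2 in
theorem normalizer_slPart_wr {S : Subgroup (GL ι F)} (hS : Good S) {w : ℕ}
    (hw : Fintype.card (ι ⊕ ι) = 2 ^ w) :
    Subgroup.normalizer (slPart (Pronormal.wr S) : Set (SpecialLinearGroup (ι ⊕ ι) F)) ≤
      slPart (Pronormal.wr S) := by
  intro g hg
  have hgd : GeneralLinearGroup.det (SpecialLinearGroup.toGL g) = 1 :=
    Units.ext (by simp [GeneralLinearGroup.val_det_apply])
  obtain ⟨a, ha⟩ := exists_sc_mul_mem hι h2 hS (SpecialLinearGroup.toGL g) fun h hd => by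
    obtain ⟨k, rfl⟩ : ∃ k : SpecialLinearGroup (ι ⊕ ι) F, SpecialLinearGroup.toGL k = h :=
      ⟨⟨h, by simpa [GeneralLinearGroup.val_det_apply] using congrArg Units.val hd⟩, Units.ext rfl⟩
    rw [← map_inv, ← map_mul, ← map_mul]
    exact Subgroup.mem_normalizer_iff.mp hg k
  have hG := hS.wr hι h2
  obtain ⟨k, hk⟩ := hG.det_two ha
  rw [map_mul, det_sc, hgd, mul_one, hw, ← pow_mul, ← pow_add] at hk
  show SpecialLinearGroup.toGL g ∈ Pronormal.wr S
  exact (Subgroup.mul_mem_cancel_left _ (hG.scalar a ⟨w + k, hk⟩)).mp ha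

theorem isPGroup_slPart {S : Subgroup (GL ι F)} (hS : IsPGroup 2 S) : IsPGroup 2 (slPart S) :=
  hS.comap_of_injective _ fun x y h => Subtype.ext (congrArg Units.val h)

end Cfsg.Agent.InvChar68.Pronormal
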