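import Cfsg.Agent.InvChar68.Pronormal.Basic
import Cfsg.Agent.InvChar68.SL2Indecomposable
import Cfsg.Agent.Lib.LinearGroup.Card

/-!
# `SL(2, q)` with `2` a non-square: overgroups of the quaternion Sylow subgroup are pronormal
-/

set_option autoImplicit false

namespace Cfsg.Agent.InvChar68.Pronormal

open Subgroup Cfsg.Agent.FGS80.Pronormal
open scoped commutatorElement

section Abstract

variable {G : Type*} [Group G] [Finite G]

/-- The abstract facts about `SL(2, q)` used below. -/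
structure QuatData (z : G) (Q : Subgroup G) (i j : G) : Prop where
  central : ∀ g : G, Commute z g
  center_eq : ∀ g : G, (∀ h, Commute g h) → g = 1 ∨ g = z
  trans : ∀ g y w : G, g ≠ 1 → g ≠ z → Commute g y → Commute g w → Commute y w
  invol : ∀ g : G, g * g = 1 → g = 1 ∨ g = z
  z_ne : z ≠ 1
  i_sq : i * i = z
  j_sq : j * j = z
  anti : j * i = z * (i * j)
  i_mem : i ∈ Q
  j_mem : j ∈ Q
  pgroup : IsPGroup 2 Q
  sylow : ∀ g ∈ normalizer (Q : Set G), (∃ k : ℕ, g ^ 2 ^ k = 1) → g ∈ Q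
  cover : ∀ y ∈ Q, ∃ e ∈ ({1, i, j, i * j} : Set G), y = e ∨ y = z * e

namespace QuatData

variable {z : G} {Q : Subgroup G} {i j : G} (D : QuatData z Q i j)
include D

omit [Finite G] in
theorem z_sq : z * z = 1 := by
  have hc : j * i * j⁻¹ = z * i := by rw [D.anti]; group
  have e1 : j * (i * i) * j⁻¹ = (j * i * j⁻¹) * (j * i * j⁻¹) := by group
  rw [hc, D.i_sq, ← (D.central j).eq, mul_inv_cancel_right,
    show z * i * (z * i) = z * (i * z) * i by group, ← (D.central i).eq,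
    show z * (z * i) * i = z * z * (i * i) by group, D.i_sq] at e1
  exact mul_eq_right.mp e1.symm

omit [Finite G] in
theorem comm_of_z {x e : G} (h : Commute x (z * e)) : Commute x e := by
  have := ((D.central x).symm.inv_right).mul_right h
  rwa [inv_mul_cancel_left] at this

omit [Finite G] in
theorem z_mem : z ∈ Q := D.i_sq ▸ mul_mem D.i_mem D.i_mem

omit [Finite G] in
theorem ne_of_sq {y : G} (hy : y * y = z) : y ≠ 1 ∧ y ≠ z := by
  constructor <;> rintro rfl
  · exact D.z_ne (by rw [← hy, one_mul])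
  · exact D.z_ne (by rw [← hy, D.z_sq])

omit [Finite G] in
theorem ij_sq : (i * j) * (i * j) = z := by
  rw [show (i * j) * (i * j) = i * (j * i) * j by group, D.anti,
    show i * (z * (i * j)) * j = (i * z) * i * (j * j) by group, ← (D.central i).eq,
    mul_assoc z i i, D.i_sq, D.j_sq, D.z_sq, one_mul]

omit [Finite G] in
theorem eq_or_of_commute {y w : G} (hy : y * y = z) (hw : w * w = z) (h : Commute y w) :
    w = y ∨ w = z * y := by
  rcases D.invol (w * y⁻¹) (by
    rw [← sq, (h.symm.inv_right).mul_pow, sq, sq, hw, ← mul_inv_rev, hy, mul_inv_cancel]) with e | e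
  · exact Or.inl (mul_inv_eq_one.mp e)
  · exact Or.inr (mul_inv_eq_iff_eq_mul.mp e)

omit [Finite G] in
theorem commute_of_conj_pm {r y : G} (h : r * y * r⁻¹ = y ∨ r * y * r⁻¹ = z * y) :
    Commute (r * r) y := by
  show r * r * y = y * (r * r)
  rcases h with h | h
  · rw [mul_inv_eq_iff_eq_mul] at h
    rw [mul_assoc, h, ← mul_assoc, h, mul_assoc]
  · rw [mul_inv_eq_iff_eq_mul] at h
    rw [mul_assoc, h, ← mul_assoc, ← mul_assoc, ← (D.central r).eq, mul_assoc z r y, h,
      ← mul_assoc, ← mul_assoc, D.z_sq, one_mul, mul_assoc]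

omit [Finite G] in
theorem commute_of_odd {r y : G} (ho : Odd (orderOf r)) (h : Commute (r * r) y) : Commute r y := by
  obtain ⟨m, hm⟩ := ho
  have : (r * r) ^ (m + 1) = r := by
    rw [← sq, ← pow_mul, show 2 * (m + 1) = (2 * m + 1) + 1 by ring, pow_succ, ← hm,
      pow_orderOf_eq_one, one_mul]
  exact this ▸ h.pow_left (m + 1)

omit [Finite G] in
theorem ne_of_odd {r : G} (ho : Odd (orderOf r)) (h1 : r ≠ 1) : r ≠ z := by
  rintro rfl
  have := orderOf_eq_prime (p := 2) (by rw [sq]; exact D.z_sq) h1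
  rw [this] at ho
  exact absurd ho (by decide)

omit [Finite G] in
theorem eq_one_of_two_of_odd {r : G} (ho : Odd (orderOf r)) (h : ∃ k : ℕ, r ^ 2 ^ k = 1) : r = 1 := by
  obtain ⟨k, hk⟩ := h
  obtain ⟨l, -, hl⟩ := (Nat.dvd_prime_pow Nat.prime_two).mp (orderOf_dvd_of_pow_eq_one hk)
  cases l with
  | zero => exact orderOf_eq_one_iff.mp hl
  | succ l => rw [hl] at ho; exact absurd ho (by simp [Nat.odd_iff, pow_succ])

omit [Finite G] in
/-- A noncentral element of odd order normalising `Q` centralises no element of order four of `Q`. -/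
theorem eq_one_of_commute {g y w : G} (ho : Odd (orderOf g)) (hg : g ∈ normalizer (Q : Set G))
    (hy : y * y = z) (hwQ : w ∈ Q) (hw : w * y * w⁻¹ = z * y) (h : Commute g y) : g = 1 := by
  by_contra h1
  have hgz := D.ne_of_odd ho h1
  -- `w` inverts `g`
  have hgw : Commute (w * g * w⁻¹) g := by
    have hc : Commute (w * g * w⁻¹) (z * y) := by rw [← hw]; exact h.map (MulAut.conj w).toMonoidHom
    have hc' : Commute (w * g * w⁻¹) y := D.comm_of_z hc
    exact (D.trans y _ _ (D.ne_of_sq hy).1 (D.ne_of_sq hy).2 hc'.symm h.symm)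
  have hq : g * w * g⁻¹ * w⁻¹ ∈ Q := mul_mem ((mem_normalizer_iff.mp hg w).mp hwQ) (inv_mem hwQ)
  obtain ⟨k, hk⟩ := D.pgroup ⟨_, hq⟩
  have hk' : (g * w * g⁻¹ * w⁻¹) ^ 2 ^ k = 1 := congrArg Subtype.val hk
  rw [show g * w * g⁻¹ * w⁻¹ = g * (w * g * w⁻¹)⁻¹ by group,
    (hgw.symm.inv_right).mul_pow] at hk'
  set N := 2 ^ k
  rw [inv_pow, mul_inv_eq_one, conj_pow] at hk'
  have hc : Commute (g ^ N) w := by
    show g ^ N * w = w * g ^ N
    nth_rewrite 1 [hk']
    group
  have hN : g ^ N ≠ 1 := fun e => h1 (D.eq_one_of_two_of_odd ho ⟨k, e⟩)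
  have hNo : Odd (orderOf (g ^ N)) := ho.of_dvd_nat (orderOf_pow_dvd N)
  have hyw := D.trans (g ^ N) y w hN (D.ne_of_odd hNo hN) (h.pow_left N) hc
  have : z * y = y := by rw [← hw, hyw.symm.eq, mul_inv_cancel_right]
  exact D.z_ne (mul_eq_right.mp this)

omit [Finite G] in
theorem i_conj : j * i * j⁻¹ = z * i := by rw [D.anti]; group

omit [Finite G] in
theorem j_conj : i * j * i⁻¹ = z * j := by
  have h : i * j = z * (j * i) := by rw [D.anti, ← mul_assoc, D.z_sq, one_mul]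
  rw [h]; group

omit [Finite G] in
theorem ij_conj : i * (i * j) * i⁻¹ = z * (i * j) := by
  rw [show i * (i * j) * i⁻¹ = i * (i * j * i⁻¹) by group, D.j_conj, ← mul_assoc, ← (D.central i).eq,
    mul_assoc]

omit [Finite G] in
/-- The three classes, as a predicate. -/
theorem cover_sq {y : G} (hy : y ∈ Q) (hy2 : y * y = z) :
    ∃ e ∈ ({i, j, i * j} : Set G), y = e ∨ y = z * e := by
  obtain ⟨e, he, hye⟩ := D.cover y hy
  rcases he with rfl | rfl | rfl | rfl
  · exfalso
    rcases hye with rfl | rfl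
    · exact D.z_ne (by rw [← hy2, one_mul])
    · rw [mul_one] at hy2; exact D.z_ne (by rw [← hy2, D.z_sq])
  all_goals exact ⟨_, by simp, hye⟩

omit [Finite G] in
theorem eq_one_of_class {g e : G} (ho : Odd (orderOf g)) (hg : g ∈ normalizer (Q : Set G))
    (he : e ∈ ({i, j, i * j} : Set G)) (h : g * e * g⁻¹ = e ∨ g * e * g⁻¹ = z * e) : g = 1 := by
  have hc : Commute g e := D.commute_of_odd ho (D.commute_of_conj_pm h)
  rcases he with rfl | rfl | rfl
  · exact D.eq_one_of_commute ho hg D.i_sq D.j_mem D.i_conj hc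
  · exact D.eq_one_of_commute ho hg D.j_sq D.i_mem D.j_conj hc
  · exact D.eq_one_of_commute ho hg D.ij_sq D.i_mem D.ij_conj hc

theorem exists_parts (g : G) : ∃ a m : ℕ, Odd m ∧ g ^ (2 ^ a * m) = 1 ∧ Odd (orderOf (g ^ 2 ^ a)) := by
  obtain ⟨a, m, hm, e⟩ := Nat.exists_eq_pow_mul_and_not_dvd (orderOf_pos g).ne' 2 (by norm_num)
  refine ⟨a, m, Nat.odd_iff.mpr (Nat.two_dvd_ne_zero.mp hm), by rw [← e, pow_orderOf_eq_one], ?_⟩
  refine (Nat.odd_iff.mpr (Nat.two_dvd_ne_zero.mp hm)).of_dvd_nat (orderOf_dvd_of_pow_eq_one ?_)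
  rw [← pow_mul, ← e, pow_orderOf_eq_one]

/-- An element of the normaliser whose odd part lies in an overgroup `K` of `Q` lies in `K`. -/
theorem mem_of_odd_part {g : G} (hg : g ∈ normalizer (Q : Set G)) {K : Subgroup G} (hQK : Q ≤ K)
    {a m : ℕ} (hm : Odd m) (h1 : g ^ (2 ^ a * m) = 1) (h2 : g ^ 2 ^ a ∈ K) : g ∈ K := by
  have hgm : g ^ m ∈ K := hQK (D.sylow _ (Subgroup.pow_mem _ hg m)
    ⟨a, by rw [← pow_mul, mul_comm, h1]⟩)
  obtain ⟨x, y, hxy⟩ := Int.isCoprime_iff_nat_coprime.mpr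
    (show ((2 ^ a : ℕ) : ℤ).natAbs.Coprime (m : ℤ).natAbs by
      simpa using Nat.Coprime.pow_left a (Nat.coprime_two_left.mpr hm))
  have : g = (g ^ 2 ^ a) ^ x * (g ^ m) ^ y := by
    rw [← zpow_natCast, ← zpow_natCast g m, ← zpow_mul, ← zpow_mul, ← zpow_add,
      mul_comm _ x, mul_comm _ y, hxy, zpow_one]
  rw [this]
  exact mul_mem (zpow_mem h2 x) (zpow_mem hgm y)

theorem mem_sup_of_exists {g k : G} (hg : g ∈ normalizer (Q : Set G))
    (hk : k ∈ normalizer (Q : Set G)) {K : Subgroup G} (hQK : Q ≤ K) (hkK : k ∈ K) (hkQ : k ∉ Q) :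
    g ∈ K := by
  obtain ⟨a, m, hm, hga, hgo⟩ := D.exists_parts g
  refine D.mem_of_odd_part hg hQK hm hga ?_
  obtain ⟨b, n, hn, hkb, hko⟩ := D.exists_parts k
  set k' := k ^ 2 ^ b with hk'def
  set g' := g ^ 2 ^ a with hg'def
  have hk'1 : k' ≠ 1 := fun e => hkQ (D.sylow k hk ⟨b, e⟩)
  have hk'N : k' ∈ normalizer (Q : Set G) := Subgroup.pow_mem _ hk _
  have hg'N : g' ∈ normalizer (Q : Set G) := Subgroup.pow_mem _ hg _
  have hk'K : k' ∈ K := pow_mem hkK _
  by_cases hg'1 : g' = 1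
  · rw [hg'1]; exact one_mem _
  -- the three classes
  have img : ∀ x : G, Odd (orderOf x) → x ∈ normalizer (Q : Set G) → x ≠ 1 →
      ∃ e ∈ ({j, i * j} : Set G), x * i * x⁻¹ = e ∨ x * i * x⁻¹ = z * e := by
    intro x hxo hx hx1
    obtain ⟨e, he, hxe⟩ := D.cover_sq ((mem_normalizer_iff.mp hx i).mp D.i_mem)
      (by rw [show x * i * x⁻¹ * (x * i * x⁻¹) = x * (i * i) * x⁻¹ by group, D.i_sq,
        ← (D.central x).eq, mul_inv_cancel_right])
    rcases he with rfl | he
    · exact absurd (D.eq_one_of_class hxo hx (by simp) hxe) hx1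
    · exact ⟨e, he, hxe⟩
  have close : ∀ x : G, x ∈ normalizer (Q : Set G) → x ∈ K →
      (∃ e, (g' * i * g'⁻¹ = e ∨ g' * i * g'⁻¹ = z * e) ∧ (x * i * x⁻¹ = e ∨ x * i * x⁻¹ = z * e)) →
      g' ∈ K := by
    rintro x hx hxK ⟨e, h1, h2⟩
    have hh : (x⁻¹ * g') * i * (x⁻¹ * g')⁻¹ = i ∨ (x⁻¹ * g') * i * (x⁻¹ * g')⁻¹ = z * i := by
      have h3 : g' * i * g'⁻¹ = x * i * x⁻¹ ∨ g' * i * g'⁻¹ = z * (x * i * x⁻¹) := by
        rcases h1 with h1 | h1 <;> rcases h2 with h2 | h2 <;> rw [h1, h2]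
        · exact Or.inl rfl
        · exact Or.inr (by rw [← mul_assoc, D.z_sq, one_mul])
        · exact Or.inr rfl
        · exact Or.inl rfl
      rw [show (x⁻¹ * g') * i * (x⁻¹ * g')⁻¹ = x⁻¹ * (g' * i * g'⁻¹) * x by group]
      rcases h3 with h3 | h3 <;> rw [h3]
      · left; group
      · right; rw [← mul_assoc x⁻¹, ← (D.central x⁻¹).eq]; group
    set h := x⁻¹ * g' with hhdef
    have hhN : h ∈ normalizer (Q : Set G) := mul_mem (inv_mem hx) hg'N
    obtain ⟨c, l, hl, hhc, hho⟩ := D.exists_parts h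
    have hh' : ∀ s : ℕ, h ^ s * i * (h ^ s)⁻¹ = i ∨ h ^ s * i * (h ^ s)⁻¹ = z * i := by
      intro s
      induction s with
      | zero => left; simp
      | succ s ih =>
        rw [pow_succ, show h ^ s * h * i * (h ^ s * h)⁻¹ = h ^ s * (h * i * h⁻¹) * (h ^ s)⁻¹ by group]
        rcases hh with e1 | e1 <;> rw [e1]
        · exact ih
        · rw [← mul_assoc, ← (D.central (h ^ s)).eq, mul_assoc z, mul_assoc z]
          rcases ih with e2 | e2 <;> rw [e2]
          · exact Or.inr rfl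
          · left; rw [← mul_assoc, D.z_sq, one_mul]
    have hh1 := D.eq_one_of_class hho (Subgroup.pow_mem _ hhN _) (by simp) (hh' (2 ^ c))
    have : h ∈ Q := D.sylow h hhN ⟨c, hh1⟩
    rw [show g' = x * h by rw [hhdef, mul_inv_cancel_left]]
    exact mul_mem hxK (hQK this)
  obtain ⟨e, he, hge⟩ := img g' hgo hg'N hg'1
  obtain ⟨f, hf, hkf⟩ := img k' hko hk'N hk'1
  have hk2 : k' * k' ≠ 1 := fun h => hk'1 (D.eq_one_of_two_of_odd hko ⟨1, by rw [pow_one, sq, h]⟩)
  have hk2o : Odd (orderOf (k' * k')) := by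
    rw [← sq]; exact hko.of_dvd_nat (orderOf_pow_dvd 2)
  obtain ⟨f2, hf2, hkf2⟩ := img (k' * k') hk2o (mul_mem hk'N hk'N) hk2
  by_cases hef : e = f
  · exact close k' hk'N hk'K ⟨e, hge, hef ▸ hkf⟩
  refine close (k' * k') (mul_mem hk'N hk'N) (mul_mem hk'K hk'K) ⟨e, hge, ?_⟩
  suffices e = f2 by rw [this]; exact hkf2
  have hff : f2 ≠ f := by
    rintro rfl
    apply hk'1
    have h3 : k' * f2 * k'⁻¹ = f2 ∨ k' * f2 * k'⁻¹ = z * f2 := by
      have e1 : k' * k' * i * (k' * k')⁻¹ = k' * (k' * i * k'⁻¹) * k'⁻¹ := by group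
      rw [e1] at hkf2
      rcases hkf with e2 | e2 <;> rw [e2] at hkf2
      · exact hkf2
      · rw [← mul_assoc, ← (D.central k').eq, mul_assoc z, mul_assoc z] at hkf2
        rcases hkf2 with e3 | e3
        · right
          nth_rewrite 2 [← e3]
          rw [← mul_assoc, D.z_sq, one_mul]
        · left; exact mul_left_cancel e3
    exact D.eq_one_of_class hko hk'N (by rcases hf2 with rfl | rfl <;> simp) h3
  rcases he with rfl | rfl <;> rcases hf with rfl | rfl <;> rcases hf2 with rfl | rfl <;>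
    simp_all

/-- In an overgroup in which `Q` is self-normalising the elements of odd order form a normal
subgroup. -/
theorem exists_oddCore {K : Subgroup G} (hQK : Q ≤ K)
    (hK : ∀ k ∈ K, k ∈ normalizer (Q : Set G) → k ∈ Q) :
    ∃ R : Subgroup G, ∀ x : G, x ∈ R ↔ x ∈ K ∧ Odd (orderOf x) := by
  classical
  set Z := Subgroup.zpowers z
  haveI : Z.Normal := ⟨fun x hx g => by
    obtain ⟨n, rfl⟩ := hx
    rw [((D.central g).zpow_left n).symm.eq, mul_inv_cancel_right]
    exact ⟨n, rfl⟩⟩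
  let π := (QuotientGroup.mk' Z).comp K.subtype
  let Kq := π.range
  let V : Subgroup ↥Kq := (Q.subgroupOf K).map π.rangeRestrict
  have hVp : IsPGroup 2 V := (D.pgroup.comap_of_injective _ K.subtype_injective).map _
  have hker : ∀ x : ↥K, π.rangeRestrict x = 1 → (x : G) ∈ Z := fun x hx => by
    have := congrArg Subtype.val hx
    exact (QuotientGroup.eq_one_iff _).mp this
  have hZQ : Z ≤ Q := zpowers_le.mpr D.z_mem
  have hnV : ∀ w ∈ normalizer (V : Set ↥Kq), w ∈ V := by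
    intro w hw
    obtain ⟨k, rfl⟩ := π.rangeRestrict_surjective w
    have hpre : ∀ x : ↥K, π.rangeRestrict x ∈ V ↔ (x : G) ∈ Q := by
      intro x
      constructor
      · rintro ⟨q, hq, e⟩
        have := hker (q⁻¹ * x) (by rw [map_mul, map_inv, e, inv_mul_cancel])
        have h2 := mul_mem (mem_subgroupOf.mp hq) (hZQ this)
        simpa using h2
      · exact fun hx => ⟨x, mem_subgroupOf.mpr hx, rfl⟩
    rw [hpre]
    refine hK k k.2 (mem_normalizer_iff.mpr fun y => ?_)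
    by_cases hy : y ∈ K
    · have := mem_normalizer_iff.mp hw (π.rangeRestrict ⟨y, hy⟩)
      rw [← map_inv, ← map_mul, ← map_mul, hpre, hpre] at this
      exact this
    · refine ⟨fun h => absurd (hQK h) hy, fun h => absurd ?_ hy⟩
      have := mul_mem (mul_mem (inv_mem k.2) (hQK h)) k.2
      simpa [mul_assoc] using this
  obtain ⟨P, hP⟩ := exists_sylow_eq V hVp fun w hw _ => hnV w hw
  have hle : normalizer ((P : Subgroup ↥Kq) : Set ↥Kq) ≤ centralizer ((P : Subgroup ↥Kq) : Set ↥Kq) := by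
    rw [hP]
    intro w hw
    obtain ⟨k, hk, rfl⟩ := hnV w hw
    rw [mem_centralizer_iff]
    rintro _ ⟨q, hq, rfl⟩
    rw [← map_mul, ← map_mul]
    refine (mul_inv_eq_one.mp ?_)
    rw [← map_inv, ← map_mul]
    refine Subtype.ext ((QuotientGroup.eq_one_iff _).mpr ?_)
    show ((q * k) * (k * q)⁻¹ : ↥K).1 ∈ Z
    obtain ⟨e, he, hqe⟩ := D.cover _ (mem_subgroupOf.mp hq)
    obtain ⟨f, hf, hkf⟩ := D.cover _ (mem_subgroupOf.mp hk)
    have hcomm : ∀ e ∈ ({1, i, j, i * j} : Set G), ∀ f ∈ ({1, i, j, i * j} : Set G),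
        e * f = f * e ∨ e * f = z * (f * e) := by
      have hji : i * j = z * (j * i) := by rw [D.anti, ← mul_assoc, D.z_sq, one_mul]
      have hA : i * (i * j) = z * (i * j * i) := by
        rw [mul_assoc i j i, D.anti, ← mul_assoc z, ← mul_assoc (z * i), mul_assoc z i z,
          ← (D.central i).eq, ← mul_assoc z z, D.z_sq, one_mul]
      have hA' : (i * j) * i = z * (i * (i * j)) := by rw [hA, ← mul_assoc, D.z_sq, one_mul]
      have hB : j * (i * j) = z * (i * j * j) := by rw [← mul_assoc, D.anti]; group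
      have hB' : (i * j) * j = z * (j * (i * j)) := by rw [hB, ← mul_assoc, D.z_sq, one_mul]
      rintro e (rfl | rfl | rfl | rfl) f (rfl | rfl | rfl | rfl) <;>
        first
          | exact Or.inl (by simp)
          | exact Or.inr hji | exact Or.inr D.anti | exact Or.inr hA | exact Or.inr hA'
          | exact Or.inr hB | exact Or.inr hB'
    have hzc : ∀ (n : G) (w : G), n = 1 ∨ n = z → Commute n w := by
      rintro n w (rfl | rfl)
      · exact Commute.one_left w
      · exact D.central w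
    obtain ⟨n1, hn1, hq'⟩ : ∃ n, (n = 1 ∨ n = z) ∧ ((q : ↥K) : G) = n * e := by
      rcases hqe with h | h
      · exact ⟨1, Or.inl rfl, by rw [h, one_mul]⟩
      · exact ⟨z, Or.inr rfl, h⟩
    obtain ⟨n2, hn2, hk'⟩ : ∃ n, (n = 1 ∨ n = z) ∧ ((k : ↥K) : G) = n * f := by
      rcases hkf with h | h
      · exact ⟨1, Or.inl rfl, by rw [h, one_mul]⟩
      · exact ⟨z, Or.inr rfl, h⟩
    have hval : ((q * k) * (k * q)⁻¹ : ↥K).1 = (e * f) * (f * e)⁻¹ := by
      push_cast
      rw [hq', hk', show n2 * f * (n1 * e) = n1 * n2 * (f * e) by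
          rw [← mul_assoc, mul_assoc n2, ((hzc n1 f hn1).symm).eq, ← mul_assoc,
            ((hzc n1 n2 hn1).symm).eq]; group,
        show n1 * e * (n2 * f) = n1 * n2 * (e * f) by
          rw [← mul_assoc, mul_assoc n1, ((hzc n2 e hn2).symm).eq]; group]
      rw [_root_.mul_inv_rev, show n1 * n2 * (e * f) * ((f * e)⁻¹ * (n1 * n2)⁻¹) =
        (n1 * n2) * (e * f * (f * e)⁻¹) * (n1 * n2)⁻¹ by group,
        ((hzc n1 _ hn1).mul_left (hzc n2 _ hn2)).eq]
      group
    rw [hval]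
    rcases hcomm e he f hf with h | h <;> rw [h]
    · rw [mul_inv_cancel]; exact one_mem _
    · rw [mul_inv_cancel_right]; exact mem_zpowers z
  let φ := MonoidHom.transferSylow P hle
  let R1 : Subgroup ↥K := φ.ker.comap π.rangeRestrict
  have hzR1 : ∀ x : ↥K, (x : G) ∈ Z → x ∈ R1 := by
    intro x hx
    rw [Subgroup.mem_comap, show π.rangeRestrict x = 1 from
      Subtype.ext ((QuotientGroup.eq_one_iff _).mpr hx)]
    exact one_mem _
  have hodd_mem : ∀ x : ↥K, Odd (orderOf x) → x ∈ R1 := by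
    intro x hx
    rw [Subgroup.mem_comap, MonoidHom.mem_ker]
    obtain ⟨n, hn⟩ := P.isPGroup' (φ (π.rangeRestrict x))
    have hdvd := (orderOf_map_dvd φ (π.rangeRestrict x)).trans (orderOf_map_dvd π.rangeRestrict x)
    obtain ⟨l, -, hl⟩ := (Nat.dvd_prime_pow Nat.prime_two).mp (orderOf_dvd_of_pow_eq_one hn)
    cases l with
    | zero => exact orderOf_eq_one_iff.mp hl
    | succ l => exact absurd (hx.of_dvd_nat (hl ▸ hdvd)) (by simp [Nat.odd_iff, pow_succ])
  have hker_odd : ¬ 2 ∣ Nat.card φ.ker := MonoidHom.not_dvd_card_ker_transferSylow P hle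
  -- the 2-elements of `R1` lie in `Z`
  have h2Z : ∀ x : ↥K, x ∈ R1 → (∃ n : ℕ, x ^ 2 ^ n = 1) → (x : G) ∈ Z := by
    rintro x hx ⟨n, hn⟩
    apply hker
    have h1 : (⟨π.rangeRestrict x, hx⟩ : ↥φ.ker) ^ 2 ^ n = 1 :=
      Subtype.ext (by rw [coe_pow, ← map_pow, hn, map_one]; rfl)
    have : orderOf (⟨π.rangeRestrict x, hx⟩ : ↥φ.ker) ∣ Nat.gcd (2 ^ n) (Nat.card φ.ker) :=
      Nat.dvd_gcd (orderOf_dvd_of_pow_eq_one h1) (orderOf_dvd_natCard _)
    rw [Nat.Coprime.pow_left n (Nat.prime_two.coprime_iff_not_dvd.mpr hker_odd), Nat.dvd_one,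
      orderOf_eq_one_iff] at this
    exact congrArg Subtype.val this
  obtain ⟨T⟩ : Nonempty (Sylow 2 ↥R1) := inferInstance
  have hTc : normalizer ((T : Subgroup ↥R1) : Set ↥R1) ≤ centralizer ((T : Subgroup ↥R1) : Set ↥R1) := by
    intro w _
    rw [mem_centralizer_iff]
    intro t ht
    obtain ⟨n, hn⟩ := T.isPGroup' ⟨t, ht⟩
    have hn' : (t : ↥K) ^ 2 ^ n = 1 := congrArg (fun u : ↥(T : Subgroup ↥R1) => ((u : ↥R1) : ↥K)) hn
    obtain ⟨l, hl⟩ := h2Z t t.2 ⟨n, hn'⟩
    apply Subtype.ext; apply Subtype.ext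
    show ((t : ↥K) : G) * ((w : ↥K) : G) = ((w : ↥K) : G) * ((t : ↥K) : G)
    rw [← hl]
    exact ((D.central _).zpow_left l).eq
  let ψ := MonoidHom.transferSylow T hTc
  refine ⟨(ψ.ker.map R1.subtype).map K.subtype, fun x => ?_⟩
  constructor
  · rintro ⟨y, ⟨w, hw, rfl⟩, rfl⟩
    refine ⟨(R1.subtype w).2, ?_⟩
    have hc := MonoidHom.not_dvd_card_ker_transferSylow T hTc
    have ho : Odd (orderOf w) := by
      refine (Nat.odd_iff.mpr (Nat.two_dvd_ne_zero.mp hc)).of_dvd_nat ?_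
      exact Subgroup.orderOf_dvd_natCard _ hw
    rwa [orderOf_injective K.subtype K.subtype_injective, orderOf_injective R1.subtype R1.subtype_injective]
  · rintro ⟨hxK, hxo⟩
    have hxo' : Odd (orderOf (⟨x, hxK⟩ : ↥K)) := by rwa [Subgroup.orderOf_mk]
    refine ⟨⟨x, hxK⟩, ⟨⟨⟨x, hxK⟩, hodd_mem _ hxo'⟩, ?_, rfl⟩, rfl⟩
    show ψ _ = 1
    obtain ⟨n, hn⟩ := T.isPGroup' (ψ ⟨⟨x, hxK⟩, hodd_mem _ hxo'⟩)
    obtain ⟨l, -, hl⟩ := (Nat.dvd_prime_pow Nat.prime_two).mp (orderOf_dvd_of_pow_eq_one hn)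
    cases l with
    | zero => exact orderOf_eq_one_iff.mp hl
    | succ l =>
      have hdvd := orderOf_map_dvd ψ ⟨⟨x, hxK⟩, hodd_mem _ hxo'⟩
      have hw : orderOf (⟨⟨x, hxK⟩, hodd_mem _ hxo'⟩ : ↥R1) = orderOf x := by
        rw [Subgroup.orderOf_mk, Subgroup.orderOf_mk]
      rw [hl, hw] at hdvd
      exact absurd (hxo.of_dvd_nat hdvd) (by simp [Nat.odd_iff, pow_succ])

/-- An element commuting with a nontrivial element of an invariant abelian subgroup of odd order. -/
theorem exists_commute {A : Subgroup G} (hA : ∀ a ∈ A, ∀ b ∈ A, Commute a b) (hne : A ≠ ⊥)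
    (hinv : ∀ q ∈ Q, ∀ a ∈ A, q * a * q⁻¹ ∈ A) :
    ∃ a ∈ A, a ≠ 1 ∧ ∃ y, y * y = z ∧ y ∈ Q ∧ Commute a y := by
  obtain ⟨⟨a, ha⟩, hx⟩ := Subgroup.ne_bot_iff_exists_ne_one.mp hne
  have ha1 : a ≠ 1 := fun e => hx (Subtype.ext e)
  have key : ∀ t : G, t ∈ Q → t * t = z →
      (∃ b ∈ A, b ≠ 1 ∧ Commute b t) ∨ t * (a : G) * t⁻¹ = (a : G)⁻¹ := by
    intro t htQ ht
    set a' := t * (a : G) * t⁻¹ with ha'
    by_cases h : a' * a = 1
    · exact Or.inr (eq_inv_of_mul_eq_one_left h)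
    · refine Or.inl ⟨a' * a, mul_mem (hinv t htQ a ha) ha, h, ?_⟩
      have e : t * (a' * a) * t⁻¹ = a * a' := by
        rw [ha', show t * (t * (a : G) * t⁻¹ * a) * t⁻¹ =
          (t * t) * a * (t * t)⁻¹ * (t * (a : G) * t⁻¹) by group, ht, (D.central _).eq,
          mul_inv_cancel_right]
      rw [(hA _ ha _ (hinv t htQ a ha)).eq] at e
      exact (mul_inv_eq_iff_eq_mul.mp e).symm
  rcases key i D.i_mem D.i_sq with ⟨b, hb, hb1, hc⟩ | hi
  · exact ⟨b, hb, hb1, i, D.i_sq, D.i_mem, hc⟩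
  rcases key j D.j_mem D.j_sq with ⟨b, hb, hb1, hc⟩ | hj
  · exact ⟨b, hb, hb1, j, D.j_sq, D.j_mem, hc⟩
  refine ⟨a, ha, ha1, i * j, D.ij_sq, mul_mem D.i_mem D.j_mem, ?_⟩
  have : i * j * (a : G) * (i * j)⁻¹ = a := by
    rw [show i * j * (a : G) * (i * j)⁻¹ = i * (j * (a : G) * j⁻¹) * i⁻¹ by group, hj,
      show i * (a : G)⁻¹ * i⁻¹ = (i * (a : G) * i⁻¹)⁻¹ by group, hi, inv_inv]
  exact (mul_inv_eq_iff_eq_mul.mp this).symm

/-- Odd order elements normalising an abelian subgroup with an element commuting with `y`. -/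
theorem commute_y {A : Subgroup G} (hA : ∀ a ∈ A, ∀ b ∈ A, Commute a b) {a y r : G} (ha : a ∈ A)
    (ha1 : a ≠ 1) (hao : Odd (orderOf a)) (hy : y * y = z) (hc : Commute a y)
    (hr : r * a * r⁻¹ ∈ A) (hro : Odd (orderOf r)) : Commute r y := by
  have haz := D.ne_of_odd hao ha1
  have ha'o : Odd (orderOf (r * a * r⁻¹)) := by
    rw [show r * a * r⁻¹ = MulAut.conj r a from rfl, MulEquiv.orderOf_eq]; exact hao
  have ha'1 : r * a * r⁻¹ ≠ 1 := fun e => ha1 (conj_eq_one_iff.mp e)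
  have h1 : Commute a (r * y * r⁻¹) :=
    D.trans (r * a * r⁻¹) a _ ha'1 (D.ne_of_odd ha'o ha'1) (hA _ hr _ ha)
      (hc.map (MulAut.conj r).toMonoidHom)
  have h2 : Commute y (r * y * r⁻¹) := D.trans a y _ ha1 haz hc h1
  refine D.commute_of_odd hro (D.commute_of_conj_pm (D.eq_or_of_commute hy ?_ h2))
  rw [show r * y * r⁻¹ * (r * y * r⁻¹) = r * (y * y) * r⁻¹ by group, hy, ← (D.central r).eq,
    mul_inv_cancel_right]

/-- A subgroup of odd order normalised by `Q` is centralised by an element of order four of `Q`. -/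
theorem exists_centralised (R : Subgroup G) (hodd : ∀ x ∈ R, Odd (orderOf x))
    (hQR : ∀ q ∈ Q, ∀ x ∈ R, q * x * q⁻¹ ∈ R) :
    ∃ y, y * y = z ∧ y ∈ Q ∧ ∀ x ∈ R, Commute x y := by
  classical
  by_cases hR : R = ⊥
  · exact ⟨i, D.i_sq, D.i_mem, fun x hx => by rw [hR, mem_bot] at hx; subst hx; exact Commute.one_left _⟩
  suffices hab : ∀ a ∈ R, ∀ b ∈ R, Commute a b by
    obtain ⟨a, ha, ha1, y, hy, hyQ, hc⟩ := D.exists_commute hab hR hQR
    refine ⟨y, hy, hyQ, fun x hx => ?_⟩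
    exact D.commute_y hab ha ha1 (hodd a ha) hy hc (mul_mem (mul_mem hx ha) (inv_mem hx)) (hodd x hx)
  have hcardR : Odd (Nat.card ↥R) := by
    rw [Nat.odd_iff, ← Nat.two_dvd_ne_zero]
    intro h
    obtain ⟨x, hx⟩ := exists_prime_orderOf_dvd_card' 2 h
    have := hodd x x.2
    rw [Subgroup.orderOf_coe, hx] at this
    exact absurd this (by decide)
  have hQN : Q ≤ normalizer (R : Set G) := fun q hq => by
    rw [mem_normalizer_iff]
    refine fun x => ⟨hQR q hq x, fun h => ?_⟩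
    have := hQR q⁻¹ (inv_mem hq) _ h
    simpa [mul_assoc] using this
  intro a ha b hb
  have key : ∀ p : ℕ, p.Prime → p ∣ Nat.card ↥R →
      ∀ c : ↥R, c ∈ _root_.commutator ↥R → ¬ p ∣ orderOf c := by
    intro p hp hpR c hc
    have : Fact p.Prime := ⟨hp⟩
    let φ : ↥Q →* MulAut ↥R := (normalizerMonoidHom R).comp (Subgroup.inclusion hQN)
    letI : MulDistribMulAction ↥Q ↥R := MulDistribMulAction.compHom ↥R φ
    have hodd' : ¬ 2 ∣ Nat.card (Sylow p ↥R) := by
      intro h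
      obtain ⟨P⟩ : Nonempty (Sylow p ↥R) := inferInstance
      have h2 := h.trans P.card_dvd_index
      exact (Nat.two_dvd_ne_zero.mpr (Nat.odd_iff.mp hcardR))
        (h2.trans (Subgroup.index_dvd_card _))
    obtain ⟨P, hP⟩ := D.pgroup.nonempty_fixed_point_of_prime_not_dvd_card (Sylow p ↥R) hodd'
    have hPinv : ∀ q ∈ Q, ∀ x : ↥R, x ∈ (P : Subgroup ↥R) → ∀ hx : q * (x : G) * q⁻¹ ∈ R,
        (⟨q * (x : G) * q⁻¹, hx⟩ : ↥R) ∈ (P : Subgroup ↥R) := by
      intro q hq x hx hx'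
      have : (⟨q, hq⟩ : ↥Q) • x ∈ ((⟨q, hq⟩ : ↥Q) • P : Sylow p ↥R) :=
        Subgroup.smul_mem_pointwise_smul _ _ _ hx
      rw [hP ⟨q, hq⟩] at this
      exact this
    let A : Subgroup G := ((Subgroup.center ↥(P : Subgroup ↥R)).map (P : Subgroup ↥R).subtype).map R.subtype
    have hAP : ∀ x ∈ A, ∃ hx : x ∈ R, (⟨x, hx⟩ : ↥R) ∈ (P : Subgroup ↥R) ∧
        ∀ w : ↥R, w ∈ (P : Subgroup ↥R) → Commute x (w : G) := by
      rintro _ ⟨_, ⟨u, hu, rfl⟩, rfl⟩
      exact ⟨(u : ↥R).2, u.2, fun w hw => congrArg (fun t : ↥(P : Subgroup ↥R) => ((t : ↥R) : G))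
        ((Subgroup.mem_center_iff.mp hu ⟨w, hw⟩).symm)⟩
    have hAmem : ∀ (x : G) (hx : x ∈ R), (⟨x, hx⟩ : ↥R) ∈ (P : Subgroup ↥R) →
        (∀ w : ↥R, w ∈ (P : Subgroup ↥R) → Commute x (w : G)) → x ∈ A := by
      intro x hx hxP hcx
      refine ⟨⟨x, hx⟩, ⟨⟨⟨x, hx⟩, hxP⟩, ?_, rfl⟩, rfl⟩
      exact Subgroup.mem_center_iff.mpr fun w => Subtype.ext (Subtype.ext ((hcx w w.2).symm.eq))
    have hAab : ∀ x ∈ A, ∀ y ∈ A, Commute x y := fun x hx y hy =>
      (hAP x hx).2.2 _ (hAP y hy).2.1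
    have hPne : (P : Subgroup ↥R) ≠ ⊥ := P.ne_bot_of_dvd_card hpR
    have : Nontrivial ↥(P : Subgroup ↥R) := (Subgroup.nontrivial_iff_ne_bot _).mpr hPne
    have : Nontrivial (Subgroup.center ↥(P : Subgroup ↥R)) := P.isPGroup'.center_nontrivial
    have hAne : A ≠ ⊥ := by
      intro h
      obtain ⟨u, hu⟩ := exists_ne (1 : Subgroup.center ↥(P : Subgroup ↥R))
      apply hu
      have : (((u : ↥(P : Subgroup ↥R)) : ↥R) : G) ∈ A := ⟨_, ⟨_, u.2, rfl⟩, rfl⟩
      rw [h, mem_bot] at this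
      exact Subtype.ext (Subtype.ext (Subtype.ext this))
    have hAinv : ∀ q ∈ Q, ∀ x ∈ A, q * x * q⁻¹ ∈ A := by
      intro q hq x hx
      obtain ⟨hxR, hxP, hcx⟩ := hAP x hx
      refine hAmem _ (hQR q hq x hxR) (hPinv q hq _ hxP _) fun w hw => ?_
      have hw' : q⁻¹ * (w : G) * q⁻¹⁻¹ ∈ R := hQR _ (inv_mem hq) _ w.2
      have := (hcx ⟨_, hw'⟩ (hPinv _ (inv_mem hq) w hw hw')).map (MulAut.conj q).toMonoidHom
      simpa [MulAut.conj_apply, mul_assoc] using this
    obtain ⟨u, hu, hu1, y, hy, -, hc'⟩ := D.exists_commute hAab hAne hAinv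
    have hnorm : ∀ r : ↥R, r ∈ normalizer ((P : Subgroup ↥R) : Set ↥R) → Commute (r : G) y := by
      intro r hr
      obtain ⟨huR, huP, hcu⟩ := hAP u hu
      refine D.commute_y hAab hu hu1 (hodd u huR) hy hc' ?_ (hodd r r.2)
      refine hAmem _ (mul_mem (mul_mem r.2 huR) (inv_mem r.2))
        ((mem_normalizer_iff.mp hr _).mp huP) fun w hw => ?_
      have := (hcu (r⁻¹ * w * r) ((mem_normalizer_iff''.mp hr w).mp hw)).map
        (MulAut.conj (r : G)).toMonoidHom
      simpa [MulAut.conj_apply, mul_assoc] using this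
    have hle : normalizer ((P : Subgroup ↥R) : Set ↥R) ≤ centralizer ((P : Subgroup ↥R) : Set ↥R) := by
      intro r hr
      rw [mem_centralizer_iff]
      intro w hw
      exact Subtype.ext (D.trans y _ _ (D.ne_of_sq hy).1 (D.ne_of_sq hy).2
        (hnorm w (le_normalizer hw)).symm (hnorm r hr).symm).eq
    let ψ := MonoidHom.transferSylow P hle
    have hcker : c ∈ ψ.ker := by
      refine (Subgroup.commutator_le.mpr fun u _ v _ => ?_ : ⁅(⊤ : Subgroup ↥R), ⊤⁆ ≤ ψ.ker) hc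
      rw [MonoidHom.mem_ker, map_commutatorElement, commutatorElement_eq_one_iff_commute]
      exact Subtype.ext (mem_centralizer_iff.mp (hle (le_normalizer (ψ v).2)) (ψ u).1 (ψ u).2)
    intro hdvd
    exact MonoidHom.not_dvd_card_ker_transferSylow P hle
      (hdvd.trans (Subgroup.orderOf_dvd_natCard _ hcker))
  have hc : ⁅(⟨a, ha⟩ : ↥R), (⟨b, hb⟩ : ↥R)⁆ = (1 : ↥R) := by
    rw [← orderOf_eq_one_iff]
    by_contra h
    obtain ⟨p, hp, hpd⟩ := Nat.exists_prime_and_dvd h
    exact key p hp (hpd.trans (orderOf_dvd_natCard _)) _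
      (Subgroup.commutator_mem_commutator (mem_top _) (mem_top _)) hpd
  exact congrArg Subtype.val (commutatorElement_eq_one_iff_commute.mp hc).eq

theorem isPronormal (H : Subgroup G) (hH : ¬ 2 ∣ H.index) : Cfsg.IsPronormal H := by
  obtain ⟨P, hP⟩ := exists_sylow_eq Q D.pgroup D.sylow
  obtain ⟨g₀, hg₀⟩ := exists_cj_le P H hH
  have hle : (P : Subgroup G) ≤ cj g₀⁻¹ H := by
    have := cj_mono (g := g₀⁻¹) hg₀
    rwa [← cj_mul, inv_mul_cancel, cj_one] at this
  suffices h : ∀ H : Subgroup G, (P : Subgroup G) ≤ H → Cfsg.IsPronormal H by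
    have := isPronormal_cj g₀ (h _ hle)
    rwa [← cj_mul, mul_inv_cancel, cj_one] at this
  clear hH hle hg₀ g₀ H
  intro H hPH
  refine isPronormal_of_normalizer P H hPH fun g hg => ?_
  rw [hP] at hg
  rw [hP] at hPH
  set K := H ⊔ cj g H with hKdef
  have hQK : Q ≤ K := hPH.trans le_sup_left
  by_cases hgK : g ∈ K
  · exact ⟨g, hgK, rfl⟩
  refine ⟨1, one_mem _, ?_⟩
  rw [cj_one]
  -- it remains that all elements of `H` of odd order are trivial
  suffices hodd : ∀ c ∈ H, Odd (orderOf c) → c = 1 by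
    have hHp : IsPGroup 2 H := by
      rintro ⟨x, hx⟩
      obtain ⟨a, m, hm, hxa, hxo⟩ := D.exists_parts x
      exact ⟨a, Subtype.ext (hodd _ (pow_mem hx _) hxo)⟩
    have : H = Q := by rw [← hP]; exact P.is_maximal' hHp (hP ▸ hPH)
    rw [this, cj_eq_iff]; exact hg
  intro c hc hco
  by_contra hc1
  obtain ⟨R, hR⟩ := D.exists_oddCore hQK (fun k hk hkN => by
    by_contra hkQ; exact hgK (D.mem_sup_of_exists hg hkN hQK hk hkQ))
  obtain ⟨y, hy, hyQ, hyc⟩ := D.exists_centralised R (fun x hx => ((hR x).mp hx).2) (fun q hq x hx => by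
    refine (hR _).mpr ⟨mul_mem (mul_mem (hQK hq) ((hR x).mp hx).1) (inv_mem (hQK hq)), ?_⟩
    rw [show q * x * q⁻¹ = MulAut.conj q x from rfl, MulEquiv.orderOf_eq]; exact ((hR x).mp hx).2)
  have h1 : Commute c y := hyc c ((hR c).mpr ⟨mem_sup_left hc, hco⟩)
  have h2 : Commute (g * c * g⁻¹) y := hyc _ ((hR _).mpr ⟨mem_sup_right (mem_cj.mpr (by simpa [mul_assoc] using hc)), by
    rw [show g * c * g⁻¹ = MulAut.conj g c from rfl, MulEquiv.orderOf_eq]; exact hco⟩)
  have h3 : Commute c (g⁻¹ * y * g) := by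
    have := h2.map (MulAut.conj g⁻¹).toMonoidHom
    simpa [MulAut.conj_apply, mul_assoc] using this
  have h4 := D.trans c y (g⁻¹ * y * g) hc1 (D.ne_of_odd hco hc1) h1 h3
  have hyg : g * y * g⁻¹ = y ∨ g * y * g⁻¹ = z * y := by
    rcases D.eq_or_of_commute hy (by
      rw [show g⁻¹ * y * g * (g⁻¹ * y * g) = g⁻¹ * (y * y) * g by group, hy, ← (D.central g⁻¹).eq,
        inv_mul_cancel_right]) h4 with e | e
    · left; nth_rewrite 1 [← e]; group
    · right
      have e' : y = g * (z * y) * g⁻¹ := by rw [← e]; group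
      rw [← mul_assoc, ← (D.central g).eq, mul_assoc z, mul_assoc z] at e'
      nth_rewrite 2 [e']
      rw [← mul_assoc z z, D.z_sq, one_mul]
  obtain ⟨a, m, hm, hga, hgo⟩ := D.exists_parts g
  apply hgK
  refine D.mem_of_odd_part hg hQK hm hga ?_
  obtain ⟨e, he, hye⟩ := D.cover_sq hyQ hy
  have hpm : ∀ s : ℕ, Commute ((g * g) ^ s) y := fun s => (D.commute_of_conj_pm hyg).pow_left s
  have hcy : Commute (g ^ 2 ^ a) y := by
    refine D.commute_of_odd hgo ?_
    rw [← (Commute.refl g).mul_pow]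
    exact hpm _
  have hce : Commute (g ^ 2 ^ a) e := by
    rcases hye with h | h
    · rwa [← h]
    · rw [h] at hcy
      exact D.comm_of_z hcy
  have := D.eq_one_of_class hgo (Subgroup.pow_mem _ hg _) he (Or.inl (by rw [hce.eq, mul_inv_cancel_right]))
  rw [this]; exact one_mem _

end QuatData

end Abstract

section SL

open Matrix

variable {F : Type*} [Field F] [Fintype F]

/-- When `2` is a non-square, every subgroup of odd index of `SL(2, q)` is pronormal. -/
theorem isPronormal_sl_two (h2 : (2 : F) ≠ 0) (hsq : ¬ IsSquare (2 : F))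
    (H : Subgroup (SpecialLinearGroup (Fin 2) F)) (hH : ¬ 2 ∣ H.index) : Cfsg.IsPronormal H := by
  classical
  have hF : Odd (Fintype.card F) := by
    refine Nat.odd_iff.mpr (FiniteField.odd_card_of_char_ne_two fun e => h2 ?_)
    have : CharP F 2 := e ▸ ringChar.charP F
    exact CharTwo.two_eq_zero
  obtain ⟨u, v, huv⟩ := SL2.exists_sum_sq hF (-1 : F)
  let i : SpecialLinearGroup (Fin 2) F := SL2.rot
  let j : SpecialLinearGroup (Fin 2) F := ⟨!![u, v; v, -u], by
    simp [det_fin_two]; linear_combination -huv⟩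
  let z : SpecialLinearGroup (Fin 2) F := i * i
  have hz : z.1 = -1 := SL2.rot_mul_rot
  have hj : j * j = z := by
    refine Subtype.ext ?_
    rw [hz]
    show j.1 * j.1 = -1
    ext a b; fin_cases a <;> fin_cases b <;> simp [j, Matrix.mul_apply, Fin.sum_univ_two] <;>
      first | linear_combination huv | ring
  have hcen : ∀ g, Commute z g := fun g => Subtype.ext (show z.1 * g.1 = g.1 * z.1 by rw [hz]; simp)
  have hanti : j * i = z * (i * j) := by
    refine Subtype.ext ?_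
    show j.1 * i.1 = z.1 * (i.1 * j.1)
    rw [hz]
    ext a b; fin_cases a <;> fin_cases b <;> simp [i, j, SL2.rot, Matrix.mul_apply, Fin.sum_univ_two]
  have hscal : ∀ g : SpecialLinearGroup (Fin 2) F, (g : SpecialLinearGroup (Fin 2) F) ∈
      Subgroup.center (SpecialLinearGroup (Fin 2) F) → g = 1 ∨ g = z := by
    intro g hg
    obtain ⟨r, hr, e⟩ := Matrix.SpecialLinearGroup.mem_center_iff.mp hg
    simp only [Fintype.card_fin, sq_eq_one_iff] at hr
    rcases hr with rfl | rfl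
    · left; exact Subtype.ext (e.symm.trans (map_one _))
    · right; exact Subtype.ext (e.symm.trans ((map_neg _ _).trans (by rw [map_one]; exact hz.symm)))
  have hinv : ∀ g : SpecialLinearGroup (Fin 2) F, g * g = 1 → g = 1 ∨ g = z := by
    intro g hg
    apply hscal
    have hadj : g.1 = Matrix.adjugate g.1 := by
      rw [← Matrix.SpecialLinearGroup.coe_inv, ← eq_inv_of_mul_eq_one_left hg]
    apply SL2.mem_center_of_scalar
    have h01 := congrFun (congrFun hadj 0) 1
    have h10 := congrFun (congrFun hadj 1) 0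
    have h00 := congrFun (congrFun hadj 0) 0
    simp [adjugate_fin_two] at h01 h10 h00
    have e01 : g.1 0 1 = 0 := (mul_eq_zero.mp (show 2 * g.1 0 1 = 0 by linear_combination h01)).resolve_left h2
    have e10 : g.1 1 0 = 0 := (mul_eq_zero.mp (show 2 * g.1 1 0 = 0 by linear_combination h10)).resolve_left h2
    exact ⟨e01, e10, h00⟩
  have hmem : ∀ a b : ℕ, (i * j) = i * j := fun _ _ => rfl
  have hi4 : ∀ a : ℕ, i ^ a = z ^ (a / 2) * i ^ (a % 2) := fun a => by
    conv_lhs => rw [← Nat.div_add_mod a 2, pow_add, pow_mul, sq]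
  have hj4 : ∀ a : ℕ, j ^ a = z ^ (a / 2) * j ^ (a % 2) := fun a => by
    conv_lhs => rw [← Nat.div_add_mod a 2, pow_add, pow_mul, sq, hj]
  have hswap : ∀ a b : ℕ, ∃ c : ℕ, j ^ b * i ^ a = z ^ c * (i ^ a * j ^ b) := by
    have h1 : ∀ a : ℕ, ∃ c : ℕ, j * i ^ a = z ^ c * (i ^ a * j) := by
      intro a
      induction a with
      | zero => exact ⟨0, by simp⟩
      | succ a ih =>
        obtain ⟨c, hc⟩ := ih
        refine ⟨c + 1, ?_⟩
        rw [pow_succ i, ← mul_assoc j, hc, mul_assoc, mul_assoc (i ^ a), hanti, ← mul_assoc (i ^ a) z,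
          ← (hcen (i ^ a)).eq, pow_succ]
        group
    intro a b
    induction b with
    | zero => exact ⟨0, by simp⟩
    | succ b ih =>
      obtain ⟨c, hc⟩ := ih
      obtain ⟨d, hd⟩ := h1 a
      refine ⟨d + c, ?_⟩
      rw [pow_succ j, mul_assoc, hd, ← mul_assoc, ((hcen (j ^ b)).symm.pow_right d).eq, mul_assoc,
        ← mul_assoc (j ^ b), hc, pow_add]
      group
  let Q0 : Subgroup (SpecialLinearGroup (Fin 2) F) :=
    { carrier := {x | ∃ c a b : ℕ, x = z ^ c * (i ^ a * j ^ b)}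
      one_mem' := ⟨0, 0, 0, by simp⟩
      mul_mem' := by
        rintro _ _ ⟨c, a, b, rfl⟩ ⟨c', a', b', rfl⟩
        obtain ⟨d, hd⟩ := hswap a' b
        refine ⟨c + c' + d, a + a', b + b', ?_⟩
        have hc1 := ((hcen (i ^ a * j ^ b)).pow_left c').symm
        calc z ^ c * (i ^ a * j ^ b) * (z ^ c' * (i ^ a' * j ^ b'))
            = z ^ c * ((i ^ a * j ^ b) * z ^ c') * (i ^ a' * j ^ b') := by group
          _ = z ^ c * (z ^ c') * i ^ a * (j ^ b * i ^ a') * j ^ b' := by rw [hc1.eq]; group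
          _ = z ^ c * (z ^ c') * (i ^ a * z ^ d) * i ^ a' * j ^ b * j ^ b' := by rw [hd]; group
          _ = z ^ (c + c' + d) * (i ^ (a + a') * j ^ (b + b')) := by
            rw [((hcen (i ^ a)).symm.pow_right d).eq]; simp only [pow_add]; group
      inv_mem' := by
        rintro _ ⟨c, a, b, rfl⟩
        obtain ⟨d, hd⟩ := hswap (3 * a) (3 * b)
        refine ⟨c + d, 3 * a, 3 * b, inv_eq_of_mul_eq_one_right ?_⟩
        have hz2 : z * z = 1 := Subtype.ext (show z.1 * z.1 = 1 by rw [hz]; simp)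
        have hi : i ^ 4 = 1 := by rw [show 4 = 2 * 2 from rfl, pow_mul, sq i, sq, hz2]
        have hj' : j ^ 4 = 1 := by rw [show 4 = 2 * 2 from rfl, pow_mul, sq j, hj, sq, hz2]
        calc z ^ c * (i ^ a * j ^ b) * (z ^ (c + d) * (i ^ (3 * a) * j ^ (3 * b)))
            = z ^ c * ((i ^ a * j ^ b) * z ^ c) * (z ^ d * (i ^ (3 * a) * j ^ (3 * b))) := by
              rw [pow_add]; group
          _ = z ^ c * z ^ c * (i ^ a * j ^ b * (j ^ (3 * b) * i ^ (3 * a))) := by
              rw [((hcen _).pow_left c).symm.eq, hd]; group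
          _ = 1 := by
              rw [← sq (z ^ c), ← pow_mul, mul_comm c 2, pow_mul, sq, hz2, one_pow, one_mul,
                mul_assoc (i ^ a), ← mul_assoc (j ^ b), ← pow_add, show b + 3 * b = 4 * b by ring,
                pow_mul, hj', one_pow, one_mul, ← pow_add, show a + 3 * a = 4 * a by ring, pow_mul,
                hi, one_pow] }
  have hiQ : i ∈ Q0 := ⟨0, 1, 0, by simp⟩
  have hjQ : j ∈ Q0 := ⟨0, 0, 1, by simp⟩
  have hcover : ∀ y ∈ Q0, ∃ e ∈ ({1, i, j, i * j} : Set (SpecialLinearGroup (Fin 2) F)),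
      y = e ∨ y = z * e := by
    rintro _ ⟨c, a, b, rfl⟩
    have hz2 : z * z = 1 := Subtype.ext (show z.1 * z.1 = 1 by rw [hz]; simp)
    have hzp : ∀ n : ℕ, z ^ n = 1 ∨ z ^ n = z := by
      intro n
      induction n with
      | zero => simp
      | succ n ih => rw [pow_succ]; rcases ih with h | h <;> rw [h] <;> simp [hz2]
    have he : i ^ (a % 2) * j ^ (b % 2) ∈ ({1, i, j, i * j} : Set (SpecialLinearGroup (Fin 2) F)) := by
      rcases Nat.mod_two_eq_zero_or_one a with h | h <;>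
        rcases Nat.mod_two_eq_zero_or_one b with h' | h' <;> simp [h, h']
    refine ⟨_, he, ?_⟩
    rw [hi4 a, hj4 b, show z ^ c * (z ^ (a / 2) * i ^ (a % 2) * (z ^ (b / 2) * j ^ (b % 2))) =
      z ^ c * z ^ (a / 2) * (i ^ (a % 2) * z ^ (b / 2)) * j ^ (b % 2) by group,
      ((hcen (i ^ (a % 2))).pow_left (b / 2)).symm.eq]
    rcases hzp (c + a / 2 + b / 2) with h | h
    · left; rw [pow_add, pow_add] at h; rw [← mul_assoc (z ^ c * z ^ (a / 2)), h, one_mul]
    · right; rw [pow_add, pow_add] at h; rw [← mul_assoc (z ^ c * z ^ (a / 2)), h, mul_assoc]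
  have hp2 : IsPGroup 2 Q0 := by
    intro y
    refine ⟨2, Subtype.ext ?_⟩
    show (y : SpecialLinearGroup (Fin 2) F) ^ 4 = 1
    have hz2 : z * z = 1 := Subtype.ext (show z.1 * z.1 = 1 by rw [hz]; simp)
    have hij : (i * j) * (i * j) = z * z * z := by
      rw [show (i * j) * (i * j) = i * (j * i) * j by group, hanti,
        show i * (z * (i * j)) * j = (i * z) * i * (j * j) by group, ← (hcen i).eq, hj]
      show z * i * i * z = z * (i * i) * z
      group
    obtain ⟨e, he, hy⟩ := hcover y y.2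
    have he2 : e ^ 4 = 1 := by
      rw [show 4 = 2 * 2 from rfl, pow_mul, sq, sq]
      rcases he with rfl | rfl | rfl | rfl
      · simp
      · exact hz2
      · rw [hj, hz2]
      · rw [hij, hz2, one_mul, hz2]
    rcases hy with h | h <;> rw [h]
    · exact he2
    · rw [(hcen e).mul_pow, he2, mul_one, show 4 = 2 * 2 from rfl, pow_mul, sq z, hz2, one_pow]
  obtain ⟨P, hP⟩ := hp2.exists_le_sylow
  have hc8 : Nat.card ↥(P : Subgroup (SpecialLinearGroup (Fin 2) F)) = 8 := by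
    rw [Sylow.card_eq_multiplicity, LinearGroup.card_SL_two]
    have hm := Nat.card_eq_fintype_card (α := F)
    have h35 : Fintype.card F % 8 = 3 ∨ Fintype.card F % 8 = 5 := by
      by_contra hh
      push Not at hh
      exact hsq (FiniteField.isSquare_two_iff.mpr hh)
    rw [hm]
    obtain ⟨k, hk⟩ : ∃ k, Fintype.card F ^ 2 - 1 = 8 * (2 * k + 1) := by
      rcases h35 with h | h
      · obtain ⟨l, hl⟩ : ∃ l, Fintype.card F = 8 * l + 3 := ⟨Fintype.card F / 8, by omega⟩
        refine ⟨4 * l ^ 2 + 3 * l, ?_⟩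
        rw [hl]; apply Nat.sub_eq_of_eq_add; ring
      · obtain ⟨l, hl⟩ : ∃ l, Fintype.card F = 8 * l + 5 := ⟨Fintype.card F / 8, by omega⟩
        refine ⟨4 * l ^ 2 + 5 * l + 1, ?_⟩
        rw [hl]; apply Nat.sub_eq_of_eq_add; ring
    rw [hk, Nat.factorization_mul (by omega) (by omega), Nat.factorization_mul (by omega) (by omega)]
    have a1 : (Fintype.card F).factorization 2 = 0 :=
      Nat.factorization_eq_zero_of_not_dvd (by rw [Nat.two_dvd_ne_zero]; exact Nat.odd_iff.mp hF)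
    have a2 : (2 * k + 1).factorization 2 = 0 := Nat.factorization_eq_zero_of_not_dvd (by omega)
    have a3 : (8 : ℕ).factorization 2 = 3 := by
      rw [show (8 : ℕ) = 2 ^ 3 by norm_num, Nat.Prime.factorization_pow Nat.prime_two]; simp
    simp [a1, a2, a3]
  have hQP : Q0 = (P : Subgroup (SpecialLinearGroup (Fin 2) F)) := by
    refine eq_of_le_of_card_ge hP ?_
    rw [hc8]
    have hio : orderOf i = 4 := by
      refine orderOf_eq_prime_pow (p := 2) (n := 1) ?_ ?_
      · rw [pow_one, sq]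
        intro h
        have h00 := congrFun (congrFun (congrArg Subtype.val h) 0) 0
        rw [show (i * i).1 = -1 from hz] at h00
        simp at h00
        exact h2 (by linear_combination -h00)
      · show i ^ 4 = 1
        rw [show 4 = 2 * 2 from rfl, pow_mul, sq i, sq]
        exact Subtype.ext (show z.1 * z.1 = 1 by rw [hz]; simp)
    have h4 : 4 ∣ Nat.card ↥Q0 := hio ▸ Subgroup.orderOf_dvd_natCard Q0 hiQ
    obtain ⟨n, hn⟩ := hp2.exists_card_eq
    have hne : Nat.card ↥Q0 ≠ 4 := by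
      intro h
      have heq : Subgroup.zpowers i = Q0 := eq_of_le_of_card_ge (Subgroup.zpowers_le.mpr hiQ)
        (by rw [h, Nat.card_zpowers, hio])
      obtain ⟨m, hm⟩ := (heq ▸ hjQ : j ∈ Subgroup.zpowers i)
      have hc : Commute j i := hm ▸ (Commute.refl i).zpow_left m
      have h1 : z = 1 := by
        have := hanti
        rw [hc.eq] at this
        exact mul_eq_right.mp this.symm
      have h00 := congrFun (congrFun (congrArg Subtype.val h1) 0) 0
      rw [hz] at h00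
      simp at h00
      exact h2 (by linear_combination -h00)
    rw [hn] at h4 hne ⊢
    have h2n : 2 ≤ n := by
      by_contra hh
      have : 2 ^ n ≤ 2 ^ 1 := Nat.pow_le_pow_right two_pos (by omega)
      have := Nat.le_of_dvd (by positivity) h4
      omega
    have hn3 : 3 ≤ n := by
      by_contra hh
      obtain rfl : n = 2 := by omega
      exact hne rfl
    calc 8 = 2 ^ 3 := rfl
      _ ≤ 2 ^ n := Nat.pow_le_pow_right two_pos hn3
  have D : QuatData z Q0 i j :=
    { central := hcen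
      center_eq := fun g hg => hscal g (Subgroup.mem_center_iff.mpr fun h => (hg h).symm.eq)
      trans := fun g y w h1 hz' hy hw => SL2.commute_of_commute (fun hc => by
        rcases hscal g hc with rfl | rfl
        · exact h1 rfl
        · exact hz' rfl) hy hw
      invol := hinv
      z_ne := fun h => by
        have h00 := congrFun (congrFun (congrArg Subtype.val h) 0) 0
        rw [hz] at h00
        simp at h00
        exact h2 (by linear_combination -h00)
      i_sq := rfl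
      j_sq := hj
      anti := hanti
      i_mem := hiQ
      j_mem := hjQ
      pgroup := hp2
      sylow := fun g hg ⟨k, hk⟩ => by
        rw [hQP] at hg ⊢
        have hle : Subgroup.zpowers g ≤ normalizer ((P : Subgroup (SpecialLinearGroup (Fin 2) F)) : Set _) :=
          Subgroup.zpowers_le.mpr hg
        have hgp : IsPGroup 2 (Subgroup.zpowers g) :=
          IsPGroup.of_card (n := ((Nat.dvd_prime_pow Nat.prime_two).mp
            (orderOf_dvd_of_pow_eq_one hk)).choose) (by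
            rw [Nat.card_zpowers]; exact ((Nat.dvd_prime_pow Nat.prime_two).mp
              (orderOf_dvd_of_pow_eq_one hk)).choose_spec.2)
        have := P.is_maximal' (hgp.to_sup_of_normal_right' P.isPGroup' hle) le_sup_right
        rw [← this]
        exact mem_sup_left (mem_zpowers g)
      cover := hcover }
  exact D.isPronormal H hH

end SL

end Cfsg.Agent.InvChar68.Pronormal
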