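import Cfsg.Agent.InvChar68.Pronormal.Basic
import Cfsg.Agent.InvChar68.Pronormal.Base
import Cfsg.Agent.GLFlag.Bruhat

/-!
# Even characteristic: overgroups of the unitriangular group are pronormal
-/

set_option autoImplicit false

namespace Cfsg.Agent.InvChar68.Pronormal

open Matrix Cfsg.Agent.FGS80.Pronormal

variable {d : ℕ} {F : Type*} [Field F]

/-- A monomial matrix. -/
def monMat (σ : Equiv.Perm (Fin d)) (c : Fin d → F) : Matrix (Fin d) (Fin d) F :=
  Matrix.of fun i j => if σ j = i then c j else 0

theorem monMat_mul_transvection (σ : Equiv.Perm (Fin d)) (c : Fin d → F) (hc : ∀ k, c k ≠ 0)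
    (i j : Fin d) (a : F) :
    monMat σ c * transvection i j a = transvection (σ i) (σ j) (c i * a / c j) * monMat σ c := by
  rw [transvection, transvection, mul_add, add_mul, mul_one, one_mul]
  congr 1
  ext k l
  by_cases hl : l = j
  · subst hl
    rw [mul_single_apply_same]
    by_cases hk : σ i = k
    · subst hk
      rw [single_mul_apply_same]
      simp [monMat, div_mul_cancel₀ _ (hc l)]
    · rw [single_mul_apply_of_ne _ _ _ _ _ (fun h => hk h.symm)]
      simp [monMat, hk]
  · rw [mul_single_apply_of_ne _ _ _ _ _ hl]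
    by_cases hk : σ i = k
    · subst hk
      rw [single_mul_apply_same]
      simp [monMat, hl]
    · rw [single_mul_apply_of_ne _ _ _ _ _ (fun h => hk h.symm)]

theorem transvection_commutator {i j k : Fin d} (hij : i ≠ j) (hjk : j ≠ k) (hik : i ≠ k) (a b : F) :
    transvection i j a * transvection j k b * transvection i j (-a) * transvection j k (-b) =
      transvection i k (a * b) := by
  have h1 : j ≠ i := Ne.symm hij
  have h2 : k ≠ j := Ne.symm hjk
  have h3 : k ≠ i := Ne.symm hik
  simp [transvection, add_mul, mul_add, hij, hjk, hik, h1, h2, h3]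
  ext x y
  simp [single_apply, Matrix.one_apply]
  split_ifs <;> ring

theorem transvection_diag {i j : Fin d} (hij : i ≠ j) {a : F} (ha : a ≠ 0) :
    transvection i j a * transvection j i (-a⁻¹) * transvection i j a *
      (transvection i j (-1) * transvection j i 1 * transvection i j (-1)) =
      diagonal fun k => if k = i then a else if k = j then a⁻¹ else 1 := by
  have h1 : j ≠ i := Ne.symm hij
  have col : ∀ (M : Matrix (Fin d) (Fin d) F) (p q : Fin d) (c : F) (x y : Fin d),
      (M * transvection p q c) x y = if y = q then M x y + c * M x p else M x y := by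
    intro M p q c x y
    split_ifs with h
    · subst h; rw [mul_transvection_apply_same]
    · rw [mul_transvection_apply_of_ne _ _ _ _ h]
  ext x y
  rw [← one_mul (transvection i j a * transvection j i (-a⁻¹) * transvection i j a *
      (transvection i j (-1) * transvection j i 1 * transvection i j (-1)))]
  simp only [← mul_assoc]
  by_cases hj : y = j
  · subst hj
    simp [col, hij, h1]
    simp [transvection, single_apply, Matrix.one_apply, diagonal_apply, hij, h1]
    split_ifs <;> (try subst_vars) <;> first | contradiction | ring1 | (field_simp; ring1) | (simp [*]; done)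
  · by_cases hi : y = i
    · subst hi
      simp [col, hij, h1]
      simp [transvection, single_apply, Matrix.one_apply, diagonal_apply, hij, h1]
      split_ifs <;> (try subst_vars) <;> first | contradiction | ring1 | (field_simp; ring1) | (simp [*]; done)
    · simp [col, hi, hj]
      simp [transvection, single_apply, Matrix.one_apply, diagonal_apply, hi, hj, Ne.symm hi, Ne.symm hj]
      split_ifs <;> first | (simp_all; done) | ring

variable [Fintype F]

/-- The upper unitriangular group. -/
def unitri (d : ℕ) (F : Type*) [Field F] [Fintype F] : Subgroup (SpecialLinearGroup (Fin d) F) :=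
  ofFinite
    { carrier := {g | g.1.BlockTriangular id ∧ ∀ i, g.1 i i = 1}
      one_mem' := ⟨blockTriangular_one, fun i => by simp⟩
      mul_mem' := by
        rintro g h ⟨hg, hg1⟩ ⟨hh, hh1⟩
        refine ⟨hg.mul hh, fun i => ?_⟩
        show (g.1 * h.1) i i = 1
        rw [Matrix.mul_apply, Finset.sum_eq_single i, hg1, hh1, one_mul]
        · intro k _ hki
          rcases lt_or_gt_of_ne hki with h' | h'
          · rw [hg h', zero_mul]
          · rw [hh h', mul_zero]
        · simp }

theorem mem_unitri {g : SpecialLinearGroup (Fin d) F} :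
    g ∈ unitri d F ↔ g.1.BlockTriangular id ∧ ∀ i, g.1 i i = 1 := Iff.rfl

theorem transvection_mem_unitri {i j : Fin d} (hij : i < j) (a : F) :
    (⟨transvection i j a, det_transvection_of_ne i j hij.ne a⟩ : SpecialLinearGroup (Fin d) F) ∈
      unitri d F :=
  ⟨blockTriangular_transvection (b := id) hij.le a, fun k => by
    simp [transvection, single_apply]; intro h; subst h; exact fun h => hij.ne h.symm |>.elim⟩

/-- Bruhat decomposition in the special linear group. -/
theorem exists_bruhat_sl (g : SpecialLinearGroup (Fin d) F) :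
    ∃ u ∈ unitri d F, ∃ v ∈ unitri d F, ∃ (σ : Equiv.Perm (Fin d)) (c : Fin d → F)
      (m : SpecialLinearGroup (Fin d) F),
      (∀ k, c k ≠ 0) ∧ m.1 = monMat σ c ∧ g = u * m * v := by
  obtain ⟨σ, b₁, hb₁, b₂, hb₂, hg⟩ := GLFlag.exists_bruhat (SpecialLinearGroup.toGL g)
  have hg' : g.1 = (b₁ : Matrix (Fin d) (Fin d) F) * GLFlag.permMat F σ *
      (b₂ : Matrix (Fin d) (Fin d) F) := congrArg Units.val hg
  set A := (b₁ : Matrix (Fin d) (Fin d) F)
  set B := (b₂ : Matrix (Fin d) (Fin d) F)
  have hA : A.BlockTriangular id := hb₁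
  have hB : B.BlockTriangular id := hb₂
  have hdA : ∀ k, A k k ≠ 0 := fun k h => by
    apply (GeneralLinearGroup.det b₁).ne_zero
    show A.det = 0
    rw [det_of_upperTriangular hA]
    exact Finset.prod_eq_zero (Finset.mem_univ k) h
  have hdB : ∀ k, B k k ≠ 0 := fun k h => by
    apply (GeneralLinearGroup.det b₂).ne_zero
    show B.det = 0
    rw [det_of_upperTriangular hB]
    exact Finset.prod_eq_zero (Finset.mem_univ k) h
  let U : Matrix (Fin d) (Fin d) F := A * diagonal (fun k => (A k k)⁻¹)
  let V : Matrix (Fin d) (Fin d) F := diagonal (fun k => (B k k)⁻¹) * B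
  have hU : U.BlockTriangular id := hA.mul (blockTriangular_diagonal _)
  have hV : V.BlockTriangular id := (blockTriangular_diagonal _).mul hB
  have hU1 : ∀ k, U k k = 1 := fun k => by simp [U, hdA k]
  have hV1 : ∀ k, V k k = 1 := fun k => by simp [V, hdB k]
  let u : SpecialLinearGroup (Fin d) F := ⟨U, by rw [det_of_upperTriangular hU]; simp [hU1]⟩
  let v : SpecialLinearGroup (Fin d) F := ⟨V, by rw [det_of_upperTriangular hV]; simp [hV1]⟩
  let c : Fin d → F := fun k => A (σ k) (σ k) * B k k
  have hprod : g.1 = U * monMat σ c * V := by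
    have hm : monMat σ c = diagonal (fun k => A k k) * GLFlag.permMat F σ * diagonal (fun k => B k k) := by
      ext i j
      rw [mul_diagonal, diagonal_mul, GLFlag.permMat_apply]
      by_cases h : σ j = i
      · subst h; simp [monMat, c]
      · simp [monMat, h]
    have hA1 : diagonal (fun k => (A k k)⁻¹) * diagonal (fun k => A k k) = 1 := by
      rw [diagonal_mul_diagonal, ← diagonal_one]; congr 1; ext k; exact inv_mul_cancel₀ (hdA k)
    have hB1 : diagonal (fun k => B k k) * diagonal (fun k => (B k k)⁻¹) = 1 := by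
      rw [diagonal_mul_diagonal, ← diagonal_one]; congr 1; ext k; exact mul_inv_cancel₀ (hdB k)
    rw [hg', hm]
    calc A * GLFlag.permMat F σ * B
        = A * (diagonal (fun k => (A k k)⁻¹) * diagonal (fun k => A k k)) * GLFlag.permMat F σ *
            (diagonal (fun k => B k k) * diagonal (fun k => (B k k)⁻¹)) * B := by
          rw [hA1, hB1, mul_one, mul_one]
      _ = _ := by simp only [U, V, mul_assoc]
  refine ⟨u, ⟨hU, hU1⟩, v, ⟨hV, hV1⟩, σ, c, ⟨monMat σ c, ?_⟩,
    fun k => mul_ne_zero (hdA _) (hdB k), rfl, Subtype.ext hprod⟩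
  have := g.2
  rw [hprod, det_mul, det_mul] at this
  rwa [show U.det = 1 from u.2, show V.det = 1 from v.2, one_mul, mul_one] at this

/-- A matrix lying in a subgroup. -/
def InH (H : Subgroup (SpecialLinearGroup (Fin d) F)) (M : Matrix (Fin d) (Fin d) F) : Prop :=
  ∃ g ∈ H, g.1 = M

theorem InH.mul {H : Subgroup (SpecialLinearGroup (Fin d) F)} {M N : Matrix (Fin d) (Fin d) F}
    (hM : InH H M) (hN : InH H N) : InH H (M * N) := by
  obtain ⟨g, hg, rfl⟩ := hM
  obtain ⟨h, hh, rfl⟩ := hN
  exact ⟨g * h, mul_mem hg hh, rfl⟩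

/-- The relation of root subgroups contained in `H`. -/
def RootRel (H : Subgroup (SpecialLinearGroup (Fin d) F)) (i j : Fin d) : Prop :=
  i = j ∨ ∀ a : F, InH H (transvection i j a)

variable {H : Subgroup (SpecialLinearGroup (Fin d) F)}

theorem RootRel.trans {i j k : Fin d} (h1 : RootRel H i j) (h2 : RootRel H j k) : RootRel H i k := by
  by_cases hij : i = j
  · subst hij; exact h2
  by_cases hjk : j = k
  · subst hjk; exact h1
  by_cases hik : i = k
  · exact Or.inl hik
  refine Or.inr fun a => ?_
  have ha := h1.resolve_left hij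
  have hb := h2.resolve_left hjk
  rw [← mul_one a, ← transvection_commutator hij hjk hik]
  exact (((ha a).mul (hb 1)).mul (ha (-a))).mul (hb (-1))

theorem rootRel_of_lt (hH : unitri d F ≤ H) {i j : Fin d} (hij : i < j) : RootRel H i j :=
  Or.inr fun a => ⟨_, hH (transvection_mem_unitri hij a), rfl⟩

theorem rootRel_map {m : SpecialLinearGroup (Fin d) F} (hm : m ∈ H) {σ : Equiv.Perm (Fin d)}
    {c : Fin d → F} (hc : ∀ k, c k ≠ 0) (hmv : m.1 = monMat σ c) {i j : Fin d} (h : RootRel H i j) :
    RootRel H (σ i) (σ j) := by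
  rcases h with rfl | h
  · exact Or.inl rfl
  refine Or.inr fun a => ?_
  obtain ⟨g, hg, hgv⟩ := h (a * c j / c i)
  refine ⟨m * g * m⁻¹, mul_mem (mul_mem hm hg) (inv_mem hm), ?_⟩
  have key := monMat_mul_transvection σ c hc i j (a * c j / c i)
  rw [show c i * (a * c j / c i) / c j = a by field_simp [hc i, hc j], ← hmv, ← hgv] at key
  rw [Matrix.SpecialLinearGroup.coe_mul, Matrix.SpecialLinearGroup.coe_mul, key, mul_assoc,
    ← Matrix.SpecialLinearGroup.coe_mul, mul_inv_cancel, Matrix.SpecialLinearGroup.coe_one, mul_one]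

/-- An automorphism of a preorder that moves an element up moves it down. -/
theorem rel_back {α : Type*} [Finite α] {r : α → α → Prop} (ht : ∀ {a b c}, r a b → r b c → r a c)
    (hr : ∀ a, r a a) (σ : Equiv.Perm α) (hσ : ∀ {a b}, r a b → r (σ a) (σ b)) {k : α}
    (h : r k (σ k)) : r (σ k) k := by
  have step : ∀ n : ℕ, r ((σ ^ n) k) ((σ ^ (n + 1)) k) := by
    intro n
    induction n with
    | zero => simpa using h
    | succ n ih =>
      have := hσ ih
      rwa [← Equiv.Perm.mul_apply, ← Equiv.Perm.mul_apply, ← pow_succ', ← pow_succ'] at this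
  have chain : ∀ n : ℕ, r (σ k) ((σ ^ (n + 1)) k) := by
    intro n
    induction n with
    | zero => simpa using hr (σ k)
    | succ n ih => exact ht ih (step (n + 1))
  have := chain (orderOf σ - 1)
  rwa [Nat.sub_add_cancel (orderOf_pos σ), pow_orderOf_eq_one, Equiv.Perm.one_apply] at this

theorem rootRel_perm (hH : unitri d F ≤ H) {m : SpecialLinearGroup (Fin d) F} (hm : m ∈ H)
    {σ : Equiv.Perm (Fin d)} {c : Fin d → F} (hc : ∀ k, c k ≠ 0) (hmv : m.1 = monMat σ c)
    (k : Fin d) : RootRel H k (σ k) ∧ RootRel H (σ k) k := by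
  rcases lt_trichotomy k (σ k) with h | h | h
  · exact ⟨rootRel_of_lt hH h,
      rel_back (r := RootRel H) (fun h1 h2 => h1.trans h2) (fun _ => Or.inl rfl) σ (fun h => rootRel_map hm hc hmv h)
        (rootRel_of_lt hH h)⟩
  · rw [← h]; exact ⟨Or.inl rfl, Or.inl rfl⟩
  · exact ⟨rel_back (r := fun a b => RootRel H b a) (fun h1 h2 => h2.trans h1) (fun _ => Or.inl rfl) σ
      (fun h => rootRel_map hm hc hmv h) (rootRel_of_lt hH h), rootRel_of_lt hH h⟩

theorem inH_diagonal (π : Equiv.Perm (Fin d))
    (hπ : ∀ k, RootRel H k (π k) ∧ RootRel H (π k) k) (t : Fin d → F) (ht : ∀ k, t k ≠ 0) :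
    InH H (diagonal fun k => t k / t (π k)) := by
  classical
  induction hn : π.support.card using Nat.strong_induction_on generalizing π with
  | _ n ih =>
    by_cases hone : π = 1
    · subst hone
      exact ⟨1, one_mem H, by simp [div_self (ht _), ← diagonal_one]⟩
    obtain ⟨i, hi⟩ : ∃ i, π i ≠ i := by
      by_contra hcon
      push Not at hcon
      exact hone (Equiv.ext fun x => by simpa using hcon x)
    set π' := Equiv.swap i (π i) * π with hπ'
    have hlt : π'.support.card < n := hn ▸ Equiv.Perm.card_support_swap_mul hi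
    have hi' : π' i = i := by simp [hπ']
    set j := π.symm i with hj
    have hji : j ≠ i := fun e => hi (by have := π.apply_symm_apply i; rw [← hj, e] at this; exact this)
    have hπj : π j = i := π.apply_symm_apply i
    have hj' : π' j = π i := by simp [hπ', hπj]
    have hother : ∀ l, l ≠ i → l ≠ j → π' l = π l := fun l h1 h2 => by
      rw [hπ', Equiv.Perm.mul_apply, Equiv.swap_apply_of_ne_of_ne]
      · exact fun e => h2 (π.injective (by rw [e, hπj]))
      · exact fun e => h1 (π.injective e)
    have hE : ∀ k, RootRel H k (π' k) ∧ RootRel H (π' k) k := by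
      intro k
      by_cases h1 : k = i
      · subst h1; rw [hi']; exact ⟨Or.inl rfl, Or.inl rfl⟩
      by_cases h2 : k = j
      · subst h2
        rw [hj']
        have a := hπ j
        rw [hπj] at a
        exact ⟨a.1.trans (hπ i).1, (hπ i).2.trans a.2⟩
      · rw [hother k h1 h2]; exact hπ k
    have hji' : RootRel H j i ∧ RootRel H i j := by
      have a := hπ j
      rwa [hπj] at a
    have hd : InH H (diagonal fun k => if k = i then t i / t (π i) else
        if k = j then (t i / t (π i))⁻¹ else 1) := by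
      have ha : t i / t (π i) ≠ 0 := div_ne_zero (ht _) (ht _)
      rw [← transvection_diag (Ne.symm hji) ha]
      have h1 := hji'.2.resolve_left (Ne.symm hji)
      have h2 := hji'.1.resolve_left hji
      exact (((h1 _).mul (h2 _)).mul (h1 _)).mul (((h1 _).mul (h2 _)).mul (h1 _))
    convert (ih _ hlt π' hE rfl).mul hd using 1
    rw [diagonal_mul_diagonal]
    congr 1
    ext l
    by_cases h1 : l = i
    · subst h1; rw [hi', if_pos rfl, div_self (ht _), one_mul]
    by_cases h2 : l = j
    · subst h2
      rw [hj', if_neg h1, if_pos rfl, hπj]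
      field_simp [ht i, ht j, ht (π i)]
    · rw [if_neg h1, if_neg h2, mul_one, hother l h1 h2]

/-- Overgroups of the unitriangular group are invariant under the diagonal group. -/
theorem conj_mem_of_diagonal (hH : unitri d F ≤ H) {t : SpecialLinearGroup (Fin d) F} {c : Fin d → F}
    (hc : ∀ k, c k ≠ 0) (htv : t.1 = diagonal c) {h : SpecialLinearGroup (Fin d) F} (hh : h ∈ H) :
    t * h * t⁻¹ ∈ H := by
  have htu : ∀ u ∈ unitri d F, t * u * t⁻¹ ∈ H := by
    intro u hu
    refine hH ?_
    have hinv : (t⁻¹).1 = diagonal fun k => (c k)⁻¹ := by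
      have h1 : t.1 * (t⁻¹).1 = 1 := by
        rw [← Matrix.SpecialLinearGroup.coe_mul, mul_inv_cancel, Matrix.SpecialLinearGroup.coe_one]
      have h2 : (diagonal fun k => (c k)⁻¹) * t.1 = 1 := by
        rw [htv, diagonal_mul_diagonal, ← diagonal_one]; congr 1; ext k; exact inv_mul_cancel₀ (hc k)
      exact (left_inv_eq_right_inv h2 h1).symm
    have hv : (t * u * t⁻¹).1 = diagonal c * u.1 * diagonal fun k => (c k)⁻¹ := by
      rw [Matrix.SpecialLinearGroup.coe_mul, Matrix.SpecialLinearGroup.coe_mul, htv, hinv]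
    refine ⟨?_, fun i => ?_⟩
    · rw [hv]; exact ((blockTriangular_diagonal _).mul hu.1).mul (blockTriangular_diagonal _)
    · rw [hv, mul_diagonal, diagonal_mul, hu.2 i, mul_one, mul_inv_cancel₀ (hc i)]
  obtain ⟨u, hu, v, hv, σ, e, m, he, hm, rfl⟩ := exists_bruhat_sl h
  have hmH : m ∈ H := by
    have := mul_mem (mul_mem (inv_mem (hH hu)) hh) (inv_mem (hH hv))
    rwa [show u⁻¹ * (u * m * v) * v⁻¹ = m by group] at this
  obtain ⟨δ, hδH, hδv⟩ := inH_diagonal σ.symm (H := H) (fun k => by
      have := rootRel_perm hH hmH he hm (σ.symm k)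
      rw [σ.apply_symm_apply] at this
      exact ⟨this.2, this.1⟩) c hc
  have hconj : t * m * t⁻¹ = δ * m := by
    rw [mul_inv_eq_iff_eq_mul]
    refine Subtype.ext ?_
    rw [Matrix.SpecialLinearGroup.coe_mul, Matrix.SpecialLinearGroup.coe_mul, Matrix.SpecialLinearGroup.coe_mul, htv, hm,
      hδv]
    ext i j
    rw [diagonal_mul, mul_diagonal, diagonal_mul]
    by_cases hij : σ j = i
    · subst hij; simp [monMat]; field_simp [hc j]
    · simp [monMat, hij]
  rw [show t * (u * m * v) * t⁻¹ = (t * u * t⁻¹) * (t * m * t⁻¹) * (t * v * t⁻¹) by group, hconj]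
  exact mul_mem (mul_mem (htu u hu) (mul_mem hδH hmH)) (htu v hv)

theorem normalizer_unitri_eq {g : SpecialLinearGroup (Fin d) F}
    (hg : g ∈ Subgroup.normalizer (unitri d F : Set (SpecialLinearGroup (Fin d) F))) :
    ∃ u ∈ unitri d F, ∃ v ∈ unitri d F, ∃ (c : Fin d → F) (m : SpecialLinearGroup (Fin d) F),
      (∀ k, c k ≠ 0) ∧ m.1 = diagonal c ∧ g = u * m * v := by
  obtain ⟨u, hu, v, hv, σ, c, m, hc, hm, rfl⟩ := exists_bruhat_sl g
  have hmN : m ∈ Subgroup.normalizer (unitri d F : Set (SpecialLinearGroup (Fin d) F)) := by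
    have := mul_mem (mul_mem (inv_mem (Subgroup.le_normalizer hu)) hg)
      (inv_mem (Subgroup.le_normalizer hv))
    rwa [show u⁻¹ * (u * m * v) * v⁻¹ = m by group] at this
  have hmono : StrictMono σ := by
    intro i j hij
    rcases lt_trichotomy (σ i) (σ j) with h | h | h
    · exact h
    · exact absurd (σ.injective h) hij.ne
    · exfalso
      have hmem := (Subgroup.mem_normalizer_iff.mp hmN _).mp (transvection_mem_unitri hij (c j / c i))
      have key := monMat_mul_transvection σ c hc i j (c j / c i)
      rw [show c i * (c j / c i) / c j = 1 by field_simp [hc i, hc j], ← hm] at key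
      have hv' : (m * ⟨transvection i j (c j / c i), det_transvection_of_ne i j hij.ne _⟩ * m⁻¹).1 =
          transvection (σ i) (σ j) (1 : F) := by
        show m.1 * transvection i j (c j / c i) * (m⁻¹).1 = _
        rw [key, mul_assoc, ← Matrix.SpecialLinearGroup.coe_mul, mul_inv_cancel, Matrix.SpecialLinearGroup.coe_one,
          mul_one]
      have := hmem.1 (show id (σ j) < id (σ i) from h)
      rw [hv'] at this
      simp [transvection, h.ne'] at this
  have hσ : σ = 1 := by
    have hsum : ∑ x : Fin d, (x : ℕ) = ∑ x : Fin d, ((σ x : Fin d) : ℕ) :=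
      (Equiv.sum_comp σ fun x : Fin d => (x : ℕ)).symm
    have := (Finset.sum_eq_sum_iff_of_le fun x _ => Fin.le_def.mp (hmono.id_le x)).mp hsum
    exact Equiv.ext fun x => Fin.ext (this x (Finset.mem_univ x)).symm
  refine ⟨u, hu, v, hv, c, m, hc, ?_, rfl⟩
  rw [hm, hσ]
  ext i j
  by_cases h : i = j
  · subst h; simp [monMat]
  · simp [monMat, h, Ne.symm h]

variable (h2 : (2 : F) = 0) [NeZero d]

include h2 in
theorem charP_two_of : CharP F 2 := by
  exact CharTwo.of_one_ne_zero_of_two_eq_zero one_ne_zero h2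

include h2 in
theorem isPGroup_unitri : IsPGroup 2 (unitri d F) := by
  haveI : CharP F 2 := charP_two_of h2
  rintro ⟨g, hg⟩
  refine ⟨d, Subtype.ext (Subtype.ext ?_)⟩
  show (g ^ 2 ^ d).1 = 1
  rw [Matrix.SpecialLinearGroup.coe_pow]
  have hN : (g.1 - 1) ^ d = 0 := by
    have := aeval_self_charpoly g.1
    rw [charpoly_of_upperTriangular _ hg.1] at this
    simpa [hg.2, map_prod, Finset.prod_const] using this
  have h2d : (g.1 - 1) ^ 2 ^ d = 0 := by
    obtain ⟨e, he⟩ := Nat.exists_eq_add_of_le (Nat.lt_two_pow_self (n := d)).le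
    rw [he, pow_add, hN, zero_mul]
  haveI : CharP (Matrix (Fin d) (Fin d) F) 2 := inferInstance
  rw [← sub_add_cancel g.1 1, add_pow_char_pow_of_commute (p := 2) (n := d) (h := Commute.one_right _), h2d,
    one_pow, zero_add]

include h2 in
theorem exists_sylow_unitri :
    ∃ P : Sylow 2 (SpecialLinearGroup (Fin d) F), (P : Subgroup _) = unitri d F := by
  haveI : CharP F 2 := charP_two_of h2
  refine exists_sylow_eq _ (isPGroup_unitri h2) fun g hg ⟨k, hk⟩ => ?_
  obtain ⟨u, hu, v, hv, c, m, -, hm, rfl⟩ := normalizer_unitri_eq hg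
  have hup : (u * m * v).1.BlockTriangular id := by
    rw [Matrix.SpecialLinearGroup.coe_mul, Matrix.SpecialLinearGroup.coe_mul, hm]
    exact (hu.1.mul (blockTriangular_diagonal _)).mul hv.1
  refine ⟨hup, fun i => ?_⟩
  set A := (u * m * v).1
  have hpow : ∀ n : ℕ, (A ^ n).BlockTriangular id ∧ (A ^ n) i i = A i i ^ n := by
    intro n
    induction n with
    | zero => exact ⟨by simpa using blockTriangular_one, by simp⟩
    | succ n ih =>
      refine ⟨by rw [pow_succ]; exact ih.1.mul hup, ?_⟩
      rw [pow_succ, pow_succ (A i i), Matrix.mul_apply, Finset.sum_eq_single i, ih.2]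
      · intro l _ hl
        rcases lt_or_gt_of_ne hl with h' | h'
        · rw [ih.1 h', zero_mul]
        · rw [hup h', mul_zero]
      · simp
  have hone : A i i ^ 2 ^ k = 1 := by
    rw [← (hpow _).2, ← Matrix.SpecialLinearGroup.coe_pow, hk, Matrix.SpecialLinearGroup.coe_one, Matrix.one_apply_eq]
  have : (A i i - 1) ^ 2 ^ k = 0 := by rw [sub_pow_char_pow, hone, one_pow, sub_self]
  exact sub_eq_zero.mp ((pow_eq_zero_iff (by positivity)).mp this)

include h2 in
/-- In even characteristic, odd index subgroups of `SL(d, q)` are pronormal. -/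
theorem isPronormal_sl_even (H : Subgroup (SpecialLinearGroup (Fin d) F)) (hH : ¬ 2 ∣ H.index) :
    Cfsg.IsPronormal H := by
  obtain ⟨P, hP⟩ := exists_sylow_unitri (d := d) h2
  refine isPronormal_of_normalizes P (fun K hK g hg => ?_) H hH
  rw [hP] at hg hK
  obtain ⟨u, hu, v, hv, c, m, hc, hm, rfl⟩ := normalizer_unitri_eq hg
  rw [cj_mul, cj_self (hK hv), cj_mul]
  have : cj m K = K := by
    refine Subgroup.eq_of_le_of_card_ge ?_ ?_
    · rintro _ ⟨k, hk, rfl⟩
      exact conj_mem_of_diagonal hK hc hm hk
    · exact (Subgroup.card_map_of_injective (MulAut.conj m).injective).ge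
  rw [this, cj_self (hK hu)]

end Cfsg.Agent.InvChar68.Pronormal
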