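import Cfsg.Agent.InvChar68.Pronormal.Basic
import Cfsg.Agent.InvChar68.Pronormal.Block
import Cfsg.Agent.InvChar68.Pronormal.Base
import Cfsg.Agent.InvChar68.Pronormal.SLTwo
import Cfsg.Agent.InvChar68.Pronormal.Unipotent

/-!
# Odd index subgroups of `PSL(2 ^ w, q)` are pronormal
-/

set_option autoImplicit false

namespace Cfsg.Agent.InvChar68.Pronormal

open Matrix

/-- The index types of the induction. -/
def Idx : ℕ → Type
  | 0 => Fin 2
  | n + 1 => Idx n ⊕ Idx n

instance Idx.fintype : ∀ n, Fintype (Idx n)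
  | 0 => inferInstanceAs (Fintype (Fin 2))
  | n + 1 => @instFintypeSum (Idx n) (Idx n) (Idx.fintype n) (Idx.fintype n)

instance Idx.decEq : ∀ n, DecidableEq (Idx n)
  | 0 => inferInstanceAs (DecidableEq (Fin 2))
  | n + 1 => @instDecidableEqSum (Idx n) (Idx n) (Idx.decEq n) (Idx.decEq n)

theorem card_idx : ∀ n, Fintype.card (Idx n) = 2 ^ (n + 1)
  | 0 => Fintype.card_fin 2
  | n + 1 => by
    show Fintype.card (Idx n ⊕ Idx n) = _
    rw [Fintype.card_sum, card_idx n, pow_succ 2 (n + 1)]; ring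

instance Idx.nonempty (n : ℕ) : Nonempty (Idx n) :=
  Fintype.card_pos_iff.mp (by rw [card_idx]; positivity)

variable {F : Type*} [Field F] [Fintype F]

theorem exists_good (h2 : (2 : F) ≠ 0) : ∀ n, ∃ S : Subgroup (GL (Idx n) F), Good S
  | 0 => exists_good_two h2
  | n + 1 => by
    obtain ⟨S, hS⟩ := exists_good h2 n
    exact ⟨_, hS.wr (by rw [card_idx, pow_succ]; exact even_two.mul_left _) h2⟩

/-- Reindexing the special linear group. -/
def slReindex {ι κ : Type*} [Fintype ι] [DecidableEq ι] [Fintype κ] [DecidableEq κ] (e : ι ≃ κ) :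
    SpecialLinearGroup ι F →* SpecialLinearGroup κ F where
  toFun g := ⟨g.1.submatrix e.symm e.symm, by rw [det_submatrix_equiv_self]; exact g.2⟩
  map_one' := Subtype.ext (by
    show (1 : Matrix ι ι F).submatrix e.symm e.symm = 1
    exact submatrix_one_equiv e.symm)
  map_mul' g h := Subtype.ext (by
    show (g.1 * h.1).submatrix e.symm e.symm = _
    exact (submatrix_mul_equiv g.1 h.1 e.symm e.symm e.symm).symm)

theorem slReindex_surjective {ι κ : Type*} [Fintype ι] [DecidableEq ι] [Fintype κ] [DecidableEq κ]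
    (e : ι ≃ κ) : Function.Surjective (slReindex (F := F) e) := fun g =>
  ⟨slReindex e.symm g, Subtype.ext (by
    show (g.1.submatrix e.symm.symm e.symm.symm).submatrix e.symm e.symm = g.1
    ext i j
    simp)⟩

theorem isPronormal_sl (w : ℕ) (hw : 1 ≤ w)
    (H : Subgroup (SpecialLinearGroup (Fin (2 ^ w)) F)) (hH : ¬ 2 ∣ H.index) :
    Cfsg.IsPronormal H := by
  by_cases h2 : (2 : F) = 0
  · haveI : NeZero (2 ^ w) := ⟨by positivity⟩
    exact isPronormal_sl_even h2 H hH
  obtain ⟨n, rfl⟩ : ∃ n, w = n + 1 := ⟨w - 1, by omega⟩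
  let e : Idx n ≃ Fin (2 ^ (n + 1)) := Fintype.equivFinOfCardEq (card_idx n)
  refine isPronormal_of_surjective (slReindex e) (slReindex_surjective e) (fun K hK => ?_) H hH
  match n, K, hK with
  | 0, K, hK =>
    by_cases hsq : IsSquare (2 : F)
    · obtain ⟨ρ, hρ⟩ := hsq
      obtain ⟨Q, hQ, hN⟩ := exists_sl_two h2 hρ.symm
      exact isPronormal_of_selfNormalizing (G := SpecialLinearGroup (Fin 2) F) Q hQ hN K hK
    · exact isPronormal_sl_two h2 hsq K hK
  | n + 1, K, hK =>
    obtain ⟨S, hS⟩ := exists_good h2 n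
    have hev : Even (Fintype.card (Idx n)) := by rw [card_idx, pow_succ]; exact even_two.mul_left _
    exact isPronormal_of_selfNormalizing (G := SpecialLinearGroup (Idx n ⊕ Idx n) F)
      (slPart (wr S)) (isPGroup_slPart (isPGroup_wr hS.pgroup))
      (normalizer_slPart_wr hev h2 hS (w := n + 2) (card_idx (n + 1))) K hK

theorem isPronormal_psl (w : ℕ) (hw : 1 ≤ w)
    (H : Subgroup (Matrix.ProjectiveSpecialLinearGroup (Fin (2 ^ w)) F)) (hH : Odd H.index) :
    Cfsg.IsPronormal H :=
  isPronormal_of_surjective (QuotientGroup.mk' _) (QuotientGroup.mk'_surjective _)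
    (fun K hK => isPronormal_sl w hw K hK) H
    (fun h => by rw [Nat.odd_iff, ← Nat.two_dvd_ne_zero] at hH; exact hH h)

end Cfsg.Agent.InvChar68.Pronormal
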