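import Cfsg.Agent.InvChar68.Pronormal.UnitaryBlock
import Cfsg.Agent.Lib.Unitary.Field

/-!
# Sylow 2-subgroups of `GU(2, q)`, `q` odd
-/

set_option autoImplicit false

namespace Cfsg.Agent.InvChar68.Pronormal

open Matrix

variable {F : Type*} [Field F] [Fintype F] (σ : F →+* F)

/-- A change of coordinates turns the membership in `gu` into preserving another Gram matrix. -/
theorem mem_gu_conj {C g : GL (Fin 2) F} {H : Matrix (Fin 2) (Fin 2) F}
    (hC : (C : Matrix (Fin 2) (Fin 2) F).transpose * (C : Matrix (Fin 2) (Fin 2) F).map σ = H) :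
    C * g * C⁻¹ ∈ gu σ (Fin 2) ↔
      (g : Matrix (Fin 2) (Fin 2) F).transpose * H * (g : Matrix (Fin 2) (Fin 2) F).map σ = H := by
  set A := (C : Matrix (Fin 2) (Fin 2) F) with hA
  set B := ((C⁻¹ : GL (Fin 2) F) : Matrix (Fin 2) (Fin 2) F) with hB
  set M := (g : Matrix (Fin 2) (Fin 2) F) with hM
  have h1 : A * B = 1 := by rw [hA, hB, ← Units.val_mul, mul_inv_cancel, Units.val_one]
  have h2 : B * A = 1 := by rw [hA, hB, ← Units.val_mul, inv_mul_cancel, Units.val_one]
  have hm : ∀ X Y : Matrix (Fin 2) (Fin 2) F, X * Y = 1 → X.map σ * Y.map σ = 1 := fun X Y h => by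
    rw [← Matrix.map_mul, h, Matrix.map_one _ (map_zero σ) (map_one σ)]
  have ht : ∀ X Y : Matrix (Fin 2) (Fin 2) F, X * Y = 1 → Y.transpose * X.transpose = 1 :=
    fun X Y h => by rw [← transpose_mul, h, transpose_one]
  have e1 : B.transpose * H * B.map σ = 1 := by
    rw [← hC, show B.transpose * (A.transpose * A.map σ) * B.map σ =
      (B.transpose * A.transpose) * (A.map σ * B.map σ) by noncomm_ring, ht A B h1, hm A B h1, mul_one]
  rw [mem_gu, Units.val_mul, Units.val_mul, transpose_mul, transpose_mul, Matrix.map_mul,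
    Matrix.map_mul,
    show B.transpose * (M.transpose * A.transpose) * (A.map σ * M.map σ * B.map σ) =
      B.transpose * (M.transpose * (A.transpose * A.map σ) * M.map σ) * B.map σ by noncomm_ring, hC]
  constructor
  · intro h
    calc M.transpose * H * M.map σ
        = (A.transpose * B.transpose) * (M.transpose * H * M.map σ) * (B.map σ * A.map σ) := by
          rw [ht B A h2, hm B A h2, one_mul, mul_one]
      _ = A.transpose * (B.transpose * (M.transpose * H * M.map σ) * B.map σ) * A.map σ := by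
          noncomm_ring
      _ = H := by rw [h, mul_one, hC]
  · intro h
    rw [h, e1]

/-- Sylow 2-subgroup of `GU(2, q)` built from monomial matrices in suitable coordinates. -/
def guSyl (C : GL (Fin 2) F) : Subgroup (GL (Fin 2) F) :=
  (splitSyl F ⊓ (gu σ (Fin 2)).comap (MulAut.conj C).toMonoidHom).map (MulAut.conj C).toMonoidHom

theorem mem_guSyl {C g : GL (Fin 2) F} :
    C * g * C⁻¹ ∈ guSyl σ C ↔ g ∈ splitSyl F ∧ C * g * C⁻¹ ∈ gu σ (Fin 2) := by
  constructor
  · rintro ⟨h, ⟨hs, hg⟩, e⟩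
    obtain rfl : h = g := (MulAut.conj C).injective e
    exact ⟨hs, hg⟩
  · exact fun h => ⟨g, ⟨h.1, h.2⟩, rfl⟩

theorem goodU_guSyl (C : GL (Fin 2) F) (rel : F → F → Prop)
    (hmon : ∀ (g : GL (Fin 2) F) (a b : F), ((g : Matrix (Fin 2) (Fin 2) F) = mon a b ∨
      (g : Matrix (Fin 2) (Fin 2) F) = ant a b) → (C * g * C⁻¹ ∈ gu σ (Fin 2) ↔ rel a b))
    (h2 : (2 : F) ≠ 0) {i α β c : F} (hi : i * i = -1) (hi' : rel i (-i))
    (hαT : Two α) (hβT : Two β) (hαβ : α * α ≠ β * β) (hαr : rel α β) (h11 : rel 1 1)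
    (hcT : Two c) (hcr : rel c (-c⁻¹))
    (hscal : ∀ a ∈ normOne σ, rel (a : F) (a : F))
    (hsmul : ∀ (t : Fˣ), t ∈ normOne σ → ∀ a b, rel a b → rel ((t : F) * a) ((t : F) * b))
    (hnorm : ∀ a b, a ≠ 0 → b ≠ 0 → rel a b → Two (a / b) →
      ∃ t ∈ normOne σ, Two ((t : F) * a) ∧ Two ((t : F) * b))
    (hdet : ∀ a ∈ normOne σ, Two (a : F) → ∃ u v : F, Two u ∧ Two v ∧ rel u v ∧
      ((u * v = a) ∨ (-(u * v) = a))) :
    GoodU σ (guSyl σ C) := by
  have hi2 : Two i := ⟨2, by rw [show i ^ 2 ^ 2 = (i * i) * (i * i) by ring, hi]; ring⟩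
  have hi0 : i ≠ 0 := by rintro rfl; simp at hi
  have hne : ∀ a : F, Two a → a ≠ 0 := fun a ⟨k, hk⟩ h => by simp [h] at hk
  have mk : ∀ (a b : F), Two a → Two b → rel a b → ∀ M, (M = mon a b ∨ M = ant a b) →
      ∃ g : GL (Fin 2) F, (g : Matrix (Fin 2) (Fin 2) F) = M ∧ C * g * C⁻¹ ∈ guSyl σ C := by
    intro a b ha hb hr M hM
    have hd : M.det ≠ 0 := by
      rcases hM with rfl | rfl
      · rw [det_mon]; exact mul_ne_zero (hne a ha) (hne b hb)
      · rw [det_ant]; exact neg_ne_zero.mpr (mul_ne_zero (hne a ha) (hne b hb))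
    refine ⟨GeneralLinearGroup.mkOfDetNeZero M hd, rfl, (mem_guSyl σ).mpr ⟨?_, ?_⟩⟩
    · exact mem_splitSyl.mpr ⟨a, b, ha, hb, hM⟩
    · exact (hmon _ a b hM).mpr hr
  have hdetc : ∀ g : GL (Fin 2) F,
      GeneralLinearGroup.det (C * g * C⁻¹) = GeneralLinearGroup.det g := fun g => by
    rw [map_mul, map_mul, map_inv, mul_comm (GeneralLinearGroup.det C), mul_inv_cancel_right]
  refine ⟨?_, (isPGroup_splitSyl.to_le inf_le_left).map _, ?_, ?_, ?_, ?_, ?_⟩
  · rintro _ ⟨h, ⟨-, hg⟩, rfl⟩
    exact hg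
  · intro a ha hk
    have e : (sc a : GL (Fin 2) F) = C * sc a * C⁻¹ := by rw [← sc_comm, mul_inv_cancel_right]
    rw [e]
    refine (mem_guSyl σ).mpr ⟨mem_splitSyl.mpr ⟨a, a, two_units.mpr hk, two_units.mpr hk, Or.inl ?_⟩,
      by rw [← e]; exact sc_mem_gu σ ha⟩
    rw [sc_val, smul_one_eq_diagonal]
    ext i j; fin_cases i <;> fin_cases j <;> simp [mon]
  · intro a ha hk
    obtain ⟨u, v, hu, hv, huv, h⟩ := hdet a ha (two_units.mpr hk)
    rcases h with h | h
    · obtain ⟨g, hg, hgm⟩ := mk u v hu hv huv _ (Or.inl rfl)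
      exact ⟨_, hgm, Units.ext (by rw [hdetc, GeneralLinearGroup.val_det_apply, hg, det_mon, h])⟩
    · obtain ⟨g, hg, hgm⟩ := mk u v hu hv huv _ (Or.inr rfl)
      exact ⟨_, hgm, Units.ext (by rw [hdetc, GeneralLinearGroup.val_det_apply, hg, det_ant, h])⟩
  · intro n hnG hn
    set n' := C⁻¹ * n * C with hn'
    have hconj : ∀ g : GL (Fin 2) F, C * g * C⁻¹ ∈ guSyl σ C → n' * g * n'⁻¹ ∈ splitSyl F := by
      intro g hg
      have h := (hn _).mp hg
      rw [show n * (C * g * C⁻¹) * n⁻¹ = C * (n' * g * n'⁻¹) * C⁻¹ by rw [hn']; group] at h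
      exact ((mem_guSyl σ).mp h).1
    obtain ⟨x, hxv, hxm⟩ := mk α β hαT hβT hαr _ (Or.inl rfl)
    obtain ⟨y, hyv, hym⟩ := mk 1 1 Two.one Two.one h11 _ (Or.inr rfl)
    obtain ⟨a, b, ha, hb, hab⟩ := monomial_of_conj hxv hαβ (hconj x hxm)
    have hr := two_ratio ha hb Two.one Two.one hyv hab (hconj y hym)
    have hrel : rel a b := (hmon n' a b hab).mp (by
      rw [hn', show C * (C⁻¹ * n * C) * C⁻¹ = n by group]; exact hnG)
    obtain ⟨t, ht, hta, htb⟩ := hnorm a b ha hb hrel hr
    refine ⟨t, ht, ?_⟩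
    rw [show sc t * n = C * (sc t * n') * C⁻¹ by
      rw [hn', ← mul_assoc C (sc t), ← sc_comm t C]; group]
    have hval : ((sc t * n' : GL (Fin 2) F) : Matrix (Fin 2) (Fin 2) F) = mon ((t : F) * a) ((t : F) * b) ∨
        ((sc t * n' : GL (Fin 2) F) : Matrix (Fin 2) (Fin 2) F) = ant ((t : F) * a) ((t : F) * b) := by
      rw [Units.val_mul, sc_val, Matrix.smul_mul, one_mul]
      rcases hab with h | h
      · left; rw [h]; ext i j; fin_cases i <;> fin_cases j <;> simp [mon]
      · right; rw [h]; ext i j; fin_cases i <;> fin_cases j <;> simp [ant]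
    exact (mem_guSyl σ).mpr ⟨mem_splitSyl.mpr ⟨_, _, hta, htb, hval⟩,
      (hmon _ _ _ hval).mpr (hsmul t ht a b hrel)⟩
  · intro e he hc
    set A := (C : Matrix (Fin 2) (Fin 2) F)
    set B := ((C⁻¹ : GL (Fin 2) F) : Matrix (Fin 2) (Fin 2) F)
    have hAB : A * B = 1 := by show _ * _ = _; rw [← Units.val_mul, mul_inv_cancel, Units.val_one]
    have hBA : B * A = 1 := by show _ * _ = _; rw [← Units.val_mul, inv_mul_cancel, Units.val_one]
    set f := B * e * A with hf
    have hcomm : ∀ g : GL (Fin 2) F, C * g * C⁻¹ ∈ guSyl σ C → GeneralLinearGroup.det g = 1 →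
        (g : Matrix (Fin 2) (Fin 2) F) * f = f * g := by
      intro g hg hd
      have h := hc _ hg (by rw [hdetc, hd])
      rw [Units.val_mul, Units.val_mul] at h
      calc (g : Matrix (Fin 2) (Fin 2) F) * f
          = B * (A * g * B * e) * A := by
            rw [hf, show B * (A * g * B * e) * A = (B * A) * g * B * e * A by noncomm_ring, hBA, one_mul]
            noncomm_ring
        _ = B * (e * (A * g * B)) * A := by rw [h]
        _ = f * g := by
            rw [hf, show B * (e * (A * g * B)) * A = B * e * A * g * (B * A) by noncomm_ring, hBA, mul_one]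
    obtain ⟨g1, hg1, hg1m⟩ := mk i (-i) hi2 (neg_one_mul i ▸ two_neg_one.mul (Commute.all _ _) hi2) hi'
      _ (Or.inl rfl)
    obtain ⟨g2, hg2, hg2m⟩ := mk c (-c⁻¹) hcT (neg_one_mul c⁻¹ ▸ two_neg_one.mul (Commute.all _ _) hcT.inv₀)
      hcr _ (Or.inr rfl)
    have c1 := hcomm g1 hg1m (Units.ext (by
      rw [GeneralLinearGroup.val_det_apply, hg1, det_mon]; simp; linear_combination -hi))
    have c2 := hcomm g2 hg2m (Units.ext (by
      rw [GeneralLinearGroup.val_det_apply, hg2, det_ant]; simp [hne c hcT]))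
    rw [hg1] at c1
    rw [hg2] at c2
    have h01 := congrFun (congrFun c1 0) 1
    have h10 := congrFun (congrFun c1 1) 0
    have h11' := congrFun (congrFun c2 0) 1
    simp [mon, ant, Matrix.mul_apply, Fin.sum_univ_two] at h01 h10 h11'
    have e01 : f 0 1 = 0 := by
      have : f 0 1 * (2 * i) = 0 := by linear_combination h01
      exact (mul_eq_zero.mp this).resolve_right (mul_ne_zero h2 hi0)
    have e10 : f 1 0 = 0 := by
      have : f 1 0 * (2 * i) = 0 := by linear_combination -h10
      exact (mul_eq_zero.mp this).resolve_right (mul_ne_zero h2 hi0)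
    have e11 : f 1 1 = f 0 0 :=
      mul_left_cancel₀ (hne c hcT) (by linear_combination h11')
    have hff : f * f = f := by
      rw [hf, show B * e * A * (B * e * A) = B * e * (A * B) * e * A by noncomm_ring, hAB, mul_one,
        mul_assoc B e e, he]
    have he' := congrFun (congrFun hff 0) 0
    simp [Matrix.mul_apply, Fin.sum_univ_two, e01] at he'
    have hback : e = A * f * B := by
      rw [hf, show A * (B * e * A) * B = (A * B) * e * (A * B) by noncomm_ring, hAB, one_mul, mul_one]
    by_cases h : f 0 0 = 0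
    · left
      have hf0 : f = 0 := by
        ext a b; fin_cases a <;> fin_cases b <;> simp [e01, e10, e11, h]
      rw [hback, hf0, mul_zero, zero_mul]
    · right
      have h00 : f 0 0 = 1 := mul_left_cancel₀ h (he'.trans (mul_one _).symm)
      have hf1 : f = 1 := by
        ext a b; fin_cases a <;> fin_cases b <;> simp [e01, e10, e11, h00]
      rw [hback, hf1, mul_one, hAB]
  · obtain ⟨g1, hg1, hg1m⟩ := mk i (-i) hi2 (neg_one_mul i ▸ two_neg_one.mul (Commute.all _ _) hi2) hi'
      _ (Or.inl rfl)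
    refine ⟨_, hg1m, Units.ext (by
      rw [hdetc, GeneralLinearGroup.val_det_apply, hg1, det_mon]; simp; linear_combination -hi), ?_⟩
    have hsq : g1 * g1 = -1 := Units.ext (by
      rw [Units.val_mul, hg1, mon_mul_mon]
      ext a b; fin_cases a <;> fin_cases b <;> simp [mon, hi])
    rw [← Units.val_mul, show C * g1 * C⁻¹ * (C * g1 * C⁻¹) = C * (g1 * g1) * C⁻¹ by group, hsq]
    simp [← Units.val_mul]

/-- For a norm one power a norm one unit makes a 2-element. -/
theorem exists_two_mul {a : Fˣ} {k : ℕ} (h : a ^ 2 ^ k ∈ normOne σ) :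
    ∃ t ∈ normOne σ, Two ((t : F) * (a : F)) := by
  set w := a ^ 2 ^ k with hw
  obtain ⟨j, m, hm, hjm⟩ := Nat.exists_eq_pow_mul_and_not_dvd (orderOf_pos w).ne' 2 (by norm_num)
  have hco : (2 ^ k).Coprime m := Nat.Coprime.pow_left k
    ((Nat.prime_two.coprime_iff_not_dvd).mpr hm)
  obtain ⟨x, y, hxy⟩ := Int.isCoprime_iff_nat_coprime.mpr
    (show ((2 ^ k : ℕ) : ℤ).natAbs.Coprime (m : ℤ).natAbs by simpa using hco)
  refine ⟨w ^ (-x), zpow_mem h _, ?_⟩
  rw [← Units.val_mul, two_units]
  refine ⟨k + j, ?_⟩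
  rw [pow_add, pow_mul, mul_pow, ← hw,
    show ((w ^ (-x)) ^ 2 ^ k * w : Fˣ) = w ^ (y * m) by
      rw [show y * m = -x * ((2 ^ k : ℕ) : ℤ) + 1 by linear_combination hxy, _root_.zpow_add,
        zpow_one, _root_.zpow_mul, zpow_natCast],
    ← zpow_natCast, ← _root_.zpow_mul, show (y * m * ((2 ^ j : ℕ) : ℤ)) =
      ((2 ^ j * m : ℕ) : ℤ) * y by push_cast; ring, ← hjm, _root_.zpow_mul, zpow_natCast,
    pow_orderOf_eq_one, _root_.one_zpow]

theorem exists_goodU_two {q : ℕ} (hF : Fintype.card F = q ^ 2) (hσq : ∀ x, σ x = x ^ q)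
    (h2 : (2 : F) ≠ 0) : ∃ S : Subgroup (GL (Fin 2) F), GoodU σ S := by
  have hσσ : ∀ x, σ (σ x) = x := fun x => by
    rw [hσq, hσq, ← pow_mul, ← sq, ← hF, FiniteField.pow_card]
  have hchar : ringChar F ≠ 2 := fun e => h2 (by
    have : CharP F 2 := e ▸ ringChar.charP F
    exact CharTwo.two_eq_zero)
  have hqo : q % 2 = 1 := by
    have := FiniteField.odd_card_of_char_ne_two hchar
    rw [hF, Nat.pow_mod] at this
    rcases Nat.mod_two_eq_zero_or_one q with h | h
    · rw [h] at this; simp at this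
    · exact h
  obtain ⟨i, hi⟩ : IsSquare (-1 : F) := FiniteField.isSquare_neg_one_iff.mpr (by
    rw [hF, Nat.pow_mod]
    have : q % 4 = 1 ∨ q % 4 = 3 := by omega
    rcases this with h | h <;> rw [h] <;> norm_num)
  replace hi := hi.symm
  have hi0 : i ≠ 0 := by rintro rfl; simp at hi
  have hσi : σ i = i ∨ σ i = -i := by
    have h : σ i * σ i = i * i := by rw [← map_mul, hi, map_neg, map_one]
    exact mul_self_eq_mul_self_iff.mp h
  have hsm : ∀ (t : Fˣ), t ∈ normOne σ → ∀ a b : F, a * σ b = 1 → (t : F) * a * σ ((t : F) * b) = 1 := by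
    intro t ht a b h
    rw [mem_normOne] at ht
    rw [map_mul]; linear_combination ((t : F) * σ t) * h + ht
  rcases hσi with hσi | hσi
  · -- `q ≡ 1 (mod 4)`
    obtain ⟨α, hα⟩ : IsSquare i := by
      rw [FiniteField.isSquare_iff hchar hi0]
      obtain ⟨l, hl⟩ : ∃ l, Fintype.card F / 2 = 4 * l := by
        rw [hF]
        obtain ⟨m, rfl⟩ : ∃ m, q = 2 * m + 1 := ⟨q / 2, by omega⟩
        obtain ⟨n, hn⟩ : Even (m * (m + 1)) := Nat.even_mul_succ_self m
        refine ⟨n, ?_⟩
        rw [show (2 * m + 1) ^ 2 = 4 * (m * (m + 1)) + 1 by ring, hn]; omega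
      rw [hl, pow_mul, show i ^ 4 = (i * i) * (i * i) by ring, hi]; simp
    replace hα := hα.symm
    have hi2 : Two i := ⟨2, by rw [show i ^ 2 ^ 2 = (i * i) * (i * i) by ring, hi]; ring⟩
    have hαT : Two α := two_of_pow_eq 1 (by rw [pow_one, sq, hα]; exact hi2)
    have hα0 : α ≠ 0 := by rintro rfl; exact hi0 (by simpa using hα.symm)
    have hσαT : Two (σ α) := by
      obtain ⟨k, hk⟩ := hαT; exact ⟨k, by rw [← map_pow, hk, map_one]⟩
    obtain ⟨x, hx⟩ : ∃ x : F, σ x ≠ x := by
      by_contra hall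
      push Not at hall
      have := Unitary.card_fixed_le hF
      have hcard : Nat.card {x : F // x ^ q = x} = Fintype.card F := by
        rw [Nat.card_eq_fintype_card.symm]
        exact Nat.card_congr (Equiv.subtypeUnivEquiv fun x => by rw [← hσq]; exact hall x)
      rw [hcard, hF, sq] at this
      have h1 := Fintype.one_lt_card (α := F)
      rw [hF, sq] at h1
      have : 2 ≤ q := by
        by_contra hq; interval_cases q <;> simp at h1
      nlinarith
    obtain ⟨c, hcT, hc⟩ : ∃ c : F, Two c ∧ σ c = -c := by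
      have hd0 : x - σ x ≠ 0 := sub_ne_zero.mpr hx.symm
      obtain ⟨j, m, hm, hjm⟩ :=
        Nat.exists_eq_pow_mul_and_not_dvd (orderOf_pos (Units.mk0 _ hd0)).ne' 2 (by norm_num)
      refine ⟨(x - σ x) ^ m, ⟨j, ?_⟩, ?_⟩
      · rw [← pow_mul, mul_comm, ← hjm]
        have := congrArg Units.val (pow_orderOf_eq_one (Units.mk0 _ hd0))
        rwa [Units.val_pow_eq_pow_val, Units.val_one] at this
      · rw [map_pow, map_sub, hσσ, ← neg_sub x (σ x), Odd.neg_pow (Nat.odd_iff.mpr (by omega))]
    have hc0 : c ≠ 0 := fun h => by obtain ⟨k, hk⟩ := hcT; simp [h] at hk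
    let C : GL (Fin 2) F := GeneralLinearGroup.mkOfDetNeZero !![1, 1; i, -i] (by
      rw [det_fin_two_of]
      intro h; exact mul_ne_zero h2 hi0 (by linear_combination -h))
    have hC : (C : Matrix (Fin 2) (Fin 2) F).transpose * (C : Matrix (Fin 2) (Fin 2) F).map σ =
        ant 2 2 := by
      show (!![1, 1; i, -i] : Matrix (Fin 2) (Fin 2) F).transpose *
        (!![1, 1; i, -i] : Matrix (Fin 2) (Fin 2) F).map σ = _
      ext a b; fin_cases a <;> fin_cases b <;>
        simp [ant, Matrix.mul_apply, Fin.sum_univ_two, hσi, hi] <;> norm_num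
    have hσ2 : σ 2 = 2 := map_ofNat σ 2
    have hsym : ∀ a b : F, a * σ b = 1 → b * σ a = 1 := fun a b h => by
      have := congrArg σ h
      rw [map_mul, hσσ, map_one] at this
      linear_combination this
    refine ⟨_, goodU_guSyl σ C (fun a b => a * σ b = 1) ?_ h2 (α := α) (β := (σ α)⁻¹) (c := c) hi ?_
      hαT hσαT.inv₀ ?_ ?_ (by simp) hcT ?_ (fun a ha => ha) hsm ?_ ?_⟩
    · intro g a b hg
      rw [mem_gu_conj σ hC]
      rcases hg with h | h <;> rw [h]
      · have e : (mon a b).transpose * ant 2 2 * (mon a b).map σ = ant (2 * (a * σ b)) (2 * (b * σ a)) := by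
          ext u v; fin_cases u <;> fin_cases v <;>
            simp [mon, ant, Matrix.mul_apply, Fin.sum_univ_two] <;> ring
        rw [e]
        constructor
        · intro h'
          have := congrFun (congrFun h' 0) 1
          simp [ant] at this
          exact mul_left_cancel₀ h2 (by linear_combination this)
        · intro h'; rw [h', hsym a b h', mul_one]
      · have e : (ant a b).transpose * ant 2 2 * (ant a b).map σ = ant (2 * (b * σ a)) (2 * (a * σ b)) := by
          ext u v; fin_cases u <;> fin_cases v <;>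
            simp [mon, ant, Matrix.mul_apply, Fin.sum_univ_two] <;> ring
        rw [e]
        constructor
        · intro h'
          have := congrFun (congrFun h' 1) 0
          simp [ant] at this
          exact mul_left_cancel₀ h2 (by linear_combination this)
        · intro h'; rw [h', hsym a b h', mul_one]
    · rw [map_neg, hσi]; linear_combination -hi
    · intro h
      rw [← mul_inv, ← map_mul, hα, hσi] at h
      have h' : i * i = 1 := by nth_rewrite 2 [h]; exact mul_inv_cancel₀ hi0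
      exact h2 (by linear_combination hi - h')
    · rw [map_inv₀, hσσ]; exact mul_inv_cancel₀ hα0
    · rw [map_neg, map_inv₀, hc]; field_simp
    · intro a b ha hb hab hr
      obtain ⟨k, hk⟩ := hr
      have hb' : a / b = a * σ a := by
        rw [div_eq_iff hb]; linear_combination (-a) * (hsym a b hab)
      rw [hb', mul_pow, ← map_pow] at hk
      obtain ⟨t, ht, hta⟩ := exists_two_mul σ (a := Units.mk0 a ha) (k := k)
        ((mem_normOne σ).mpr (by rw [Units.val_pow_eq_pow_val, Units.val_mk0]; exact hk))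
      refine ⟨t, ht, hta, ?_⟩
      rw [show (t : F) * b = (t : F) * a * (a / b)⁻¹ by field_simp]
      exact hta.mul (Commute.all _ _) (Two.inv₀ ⟨k, by rw [hb', mul_pow, ← map_pow]; exact hk⟩)
    · intro a ha hk
      have key : ∀ (k : ℕ) (x : F), x ^ 2 ^ k = 1 → x * σ x = 1 → x = 1 ∨ x = -1 := by
        intro k
        induction k with
        | zero => intro x hx _; left; simpa using hx
        | succ k ih =>
          intro x hx hxn
          rw [pow_succ', pow_mul] at hx
          rcases ih (x ^ 2) hx (by rw [map_pow, ← mul_pow, hxn, one_pow]) with h | h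
          · exact sq_eq_one_iff.mp h
          · exfalso
            rcases mul_self_eq_mul_self_iff.mp (show x * x = i * i by rw [← sq, h, hi]) with e | e
            · rw [e, hσi, hi] at hxn
              exact h2 (by linear_combination -hxn)
            · rw [e, map_neg, hσi, neg_mul_neg, hi] at hxn
              exact h2 (by linear_combination -hxn)
      obtain ⟨k, hk⟩ := hk
      rcases key k a hk ha with h | h
      · exact ⟨1, 1, Two.one, Two.one, by simp, Or.inl (by rw [h, one_mul])⟩
      · exact ⟨1, 1, Two.one, Two.one, by simp, Or.inr (by rw [h, one_mul])⟩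
  · -- `q ≡ 3 (mod 4)`
    have hi2 : Two i := ⟨2, by rw [show i ^ 2 ^ 2 = (i * i) * (i * i) by ring, hi]; ring⟩
    refine ⟨_, goodU_guSyl σ 1 (fun a b => a * σ a = 1 ∧ b * σ b = 1) ?_ h2 (α := i) (β := 1) (c := 1)
      hi ?_ hi2 Two.one ?_ ⟨by rw [hσi]; linear_combination -hi, by simp⟩ (by simp) Two.one (by simp)
      (fun a ha => ⟨ha, ha⟩) (fun t ht a b h => ⟨hsm t ht a a h.1, hsm t ht b b h.2⟩) ?_ ?_⟩
    · intro g a b hg
      rw [inv_one, one_mul, mul_one, mem_gu]
      rcases hg with h | h <;> rw [h]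
      · have e : (mon a b).transpose * (mon a b).map σ = mon (a * σ a) (b * σ b) := by
          ext u v; fin_cases u <;> fin_cases v <;> simp [mon, Matrix.mul_apply, Fin.sum_univ_two]
        rw [e, ← mon_one]
        constructor
        · intro h'
          exact ⟨by simpa [mon] using congrFun (congrFun h' 0) 0, by simpa [mon] using congrFun (congrFun h' 1) 1⟩
        · rintro ⟨h1, h2'⟩; rw [h1, h2']
      · have e : (ant a b).transpose * (ant a b).map σ = mon (b * σ b) (a * σ a) := by
          ext u v; fin_cases u <;> fin_cases v <;> simp [mon, ant, Matrix.mul_apply, Fin.sum_univ_two]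
        rw [e, ← mon_one]
        constructor
        · intro h'
          exact ⟨by simpa [mon] using congrFun (congrFun h' 1) 1, by simpa [mon] using congrFun (congrFun h' 0) 0⟩
        · rintro ⟨h1, h2'⟩; rw [h1, h2']
    · exact ⟨by rw [hσi]; linear_combination -hi, by rw [map_neg, hσi, neg_neg]; linear_combination -hi⟩
    · rw [hi, one_mul]; intro h; exact h2 (by linear_combination -h)
    · intro a b ha hb hab hr
      refine ⟨(Units.mk0 b hb)⁻¹, inv_mem ((mem_normOne σ).mpr hab.2), ?_, ?_⟩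
      · rw [Units.val_inv_eq_inv_val, Units.val_mk0, ← div_eq_inv_mul]; exact hr
      · rw [Units.val_inv_eq_inv_val, Units.val_mk0, inv_mul_cancel₀ hb]; exact Two.one
    · intro a ha hk
      exact ⟨a, 1, hk, Two.one, ⟨ha, by simp⟩, Or.inl (mul_one _)⟩

end Cfsg.Agent.InvChar68.Pronormal
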