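import Cfsg.Agent.InvChar68.Pronormal.Base

/-!
# A self-normalising 2-subgroup of `GL(2m)` built from one of `GL(m)`
-/

set_option autoImplicit false

namespace Cfsg.Agent.InvChar68.Pronormal

open Matrix

variable {ι F : Type*} [Fintype ι] [DecidableEq ι] [Field F]

variable [Fintype F] (σ : F →+* F)

/-- Norm one units. -/
def normOne : Subgroup Fˣ := ofFinite
  { carrier := {a | (a : F) * σ a = 1}
    one_mem' := by simp
    mul_mem' := by
      intro a b (ha : (a : F) * σ a = 1) (hb : (b : F) * σ b = 1)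
      show ((a * b : Fˣ) : F) * σ ((a * b : Fˣ) : F) = 1
      rw [Units.val_mul, map_mul]
      linear_combination ((b : F) * σ b) * ha + hb }

/-- The unitary group of the standard form. -/
def gu (ι : Type*) [Fintype ι] [DecidableEq ι] : Subgroup (GL ι F) := ofFinite
  { carrier := {g | ((g : Matrix ι ι F).transpose) * (g : Matrix ι ι F).map σ = 1}
    one_mem' := by simp
    mul_mem' := by
      intro a b (ha : (a : Matrix ι ι F).transpose * _ = 1) (hb : (b : Matrix ι ι F).transpose * _ = 1)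
      show ((a * b : GL ι F) : Matrix ι ι F).transpose * ((a * b : GL ι F) : Matrix ι ι F).map σ = 1
      rw [Units.val_mul, transpose_mul, Matrix.map_mul, mul_assoc, ← mul_assoc _ ((a : Matrix ι ι F).map σ),
        ha, one_mul, hb] }

theorem mem_gu {g : GL ι F} :
    g ∈ gu σ ι ↔ ((g : Matrix ι ι F).transpose) * (g : Matrix ι ι F).map σ = 1 := Iff.rfl

theorem mem_normOne {a : Fˣ} : a ∈ normOne σ ↔ (a : F) * σ a = 1 := Iff.rfl

theorem det_mem_normOne {g : GL ι F} (hg : g ∈ gu σ ι) : GeneralLinearGroup.det g ∈ normOne σ := by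
  have := congrArg Matrix.det ((mem_gu σ).mp hg)
  rw [det_mul, det_transpose, det_one, ← RingHom.mapMatrix_apply, ← RingHom.map_det] at this
  exact this

theorem sc_mem_gu {a : Fˣ} (ha : a ∈ normOne σ) : (sc a : GL ι F) ∈ gu σ ι := by
  rw [mem_gu, sc_val, smul_one_eq_diagonal, diagonal_transpose, diagonal_map (map_zero σ),
    diagonal_mul_diagonal, ← diagonal_one]
  exact congrArg diagonal (funext fun _ => ha)

theorem dia_mem_gu {a b : GL ι F} :
    dia (a, b) ∈ gu σ (ι ⊕ ι) ↔ a ∈ gu σ ι ∧ b ∈ gu σ ι := by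
  rw [mem_gu, mem_gu, mem_gu, dia_val, fromBlocks_transpose, fromBlocks_map, fromBlocks_multiply,
    ← fromBlocks_one, fromBlocks_inj]
  simp

theorem swp_mem_gu : (swp : GL (ι ⊕ ι) F) ∈ gu σ (ι ⊕ ι) := by
  rw [mem_gu, swp_val, fromBlocks_transpose, fromBlocks_map, fromBlocks_multiply]
  simp [fromBlocks_one]

/-- The two-part hypotheses propagated by the induction. -/
structure GoodU (S : Subgroup (GL ι F)) : Prop where
  le : S ≤ gu σ ι
  pgroup : IsPGroup 2 S
  scalar : ∀ a ∈ normOne σ, (∃ k : ℕ, a ^ 2 ^ k = 1) → sc a ∈ S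
  detSurj : ∀ a ∈ normOne σ, (∃ k : ℕ, a ^ 2 ^ k = 1) → ∃ s ∈ S, GeneralLinearGroup.det s = a
  normal : ∀ n ∈ gu σ ι, (∀ s, s ∈ S ↔ n * s * n⁻¹ ∈ S) → ∃ a ∈ normOne σ, sc a * n ∈ S
  idem : ∀ e : Matrix ι ι F, e * e = e →
    (∀ s ∈ S, GeneralLinearGroup.det s = 1 → (s : Matrix ι ι F) * e = e * s) → e = 0 ∨ e = 1
  sqrtNeg : ∃ x ∈ S, GeneralLinearGroup.det x = 1 ∧ (x : Matrix ι ι F) * x = -1

theorem GoodU.det_two {S : Subgroup (GL ι F)} (hS : GoodU σ S) {s : GL ι F} (hs : s ∈ S) :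
    ∃ k : ℕ, GeneralLinearGroup.det s ^ 2 ^ k = 1 := by
  obtain ⟨k, hk⟩ := hS.pgroup ⟨s, hs⟩
  refine ⟨k, ?_⟩
  rw [← map_pow, show s ^ 2 ^ k = 1 from congrArg Subtype.val hk, map_one]

variable (hι : Even (Fintype.card ι)) [Nonempty ι] (h2 : (2 : F) ≠ 0)

include h2 in
theorem eq_one_or_negU {S : Subgroup (GL ι F)} (hS : GoodU σ S) (p : GL ι F)
    (hp : (p : Matrix ι ι F) * p = 1)
    (hc : ∀ s ∈ S, GeneralLinearGroup.det s = 1 → s * p = p * s) :
    (p : Matrix ι ι F) = 1 ∨ (p : Matrix ι ι F) = -1 := by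
  have h := hS.idem ((2⁻¹ : F) • (1 - (p : Matrix ι ι F))) ?_ ?_
  · rcases h with h | h
    · left
      have := congrArg ((2 : F) • ·) h
      simp only [smul_smul, mul_inv_cancel₀ h2, one_smul, smul_zero] at this
      exact (sub_eq_zero.mp this).symm
    · right
      have := congrArg ((2 : F) • ·) h
      simp only [smul_smul, mul_inv_cancel₀ h2, one_smul, two_smul] at this
      linear_combination (norm := module) -this
  · rw [smul_mul_smul_comm,
      show (1 - (p : Matrix ι ι F)) * (1 - p) = (2 : F) • (1 - (p : Matrix ι ι F)) by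
        rw [two_smul, mul_sub, sub_mul, sub_mul, hp]
        simp
        abel,
      smul_smul]
    congr 1
    field_simp
  · intro s hs hd
    have := congrArg Units.val (hc s hs hd)
    rw [Units.val_mul, Units.val_mul] at this
    rw [Matrix.mul_smul, Matrix.smul_mul, mul_sub, sub_mul, mul_one, one_mul, this]

include hι h2 in
/-- Elements normalising the determinant one part of `wr S` lie in `wr S` up to scalars. -/
theorem exists_sc_mul_memU {S : Subgroup (GL ι F)} (hS : GoodU σ S) (n : GL (ι ⊕ ι) F)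
    (hnG : n ∈ gu σ (ι ⊕ ι))
    (hn : ∀ g ∈ gu σ (ι ⊕ ι), GeneralLinearGroup.det g = 1 →
      (g ∈ wr S ↔ n * g * n⁻¹ ∈ wr S)) :
    ∃ a ∈ normOne σ, sc a * n ∈ wr S := by
  classical
  obtain ⟨x, hxS, hxd, hxx⟩ := hS.sqrtNeg
  let e0 : GL (ι ⊕ ι) F := dia (x * x, 1)
  have he0v : (e0 : Matrix (ι ⊕ ι) (ι ⊕ ι) F) = fromBlocks (-1) 0 0 1 := by
    simp [e0, hxx]
  -- `n` sends `e0` to plus or minus `e0`
  obtain ⟨p, q, hpS, hqS, hpq⟩ : ∃ p q : GL ι F, p ∈ S ∧ q ∈ S ∧ n * e0 * n⁻¹ = dia (p, q) := by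
    have hy := (hn (dia (x, 1)) ((dia_mem_gu σ).mpr ⟨hS.le hxS, one_mem _⟩) (by rw [det_dia, hxd, map_one, one_mul])).mp
      (dia_mem_wr hxS S.one_mem)
    have he : n * e0 * n⁻¹ = (n * dia (x, 1) * n⁻¹) * (n * dia (x, 1) * n⁻¹) := by
      have : dia (x, (1 : GL ι F)) * dia (x, 1) = e0 := by
        rw [← map_mul, Prod.mk_mul_mk, mul_one]
      rw [← this]; group
    obtain ⟨a, ha, b, hb, e | e⟩ := hy
    · exact ⟨a * a, b * b, mul_mem ha ha, mul_mem hb hb, by
        rw [he, e, ← map_mul, Prod.mk_mul_mk]⟩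
    · exact ⟨a * b, b * a, mul_mem ha hb, mul_mem hb ha, by
        rw [he, e, mul_assoc, ← mul_assoc swp, swp_dia, mul_assoc, swp_mul_swp, mul_one, ← map_mul,
          Prod.mk_mul_mk]⟩
  have hnoNeg : ∀ m : GL ι F, (m : Matrix ι ι F) ≠ -m := by
    intro m h
    apply Units.ne_zero m
    have : (2 : F) • (m : Matrix ι ι F) = 0 := by
      rw [two_smul]; nth_rewrite 2 [h]; exact add_neg_cancel _
    exact (smul_eq_zero.mp this).resolve_left h2
  have hconj : ∀ s t : GL ι F, s ∈ S → t ∈ S → GeneralLinearGroup.det s = 1 →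
      GeneralLinearGroup.det t = 1 →
      (s * p * s⁻¹ = p ∧ t * q * t⁻¹ = q) ∨
      (((s * p * s⁻¹ : GL ι F) : Matrix ι ι F) = -p ∧
        ((t * q * t⁻¹ : GL ι F) : Matrix ι ι F) = -q) := by
    intro s t hs ht hsd htd
    have hz : n⁻¹ * dia (s, t) * n ∈ wr S :=
      (hn _ (mul_mem (mul_mem (inv_mem hnG) ((dia_mem_gu σ).mpr ⟨hS.le hs, hS.le ht⟩)) hnG)
        (by simp [det_dia, hsd, htd])).mpr (by
        have := dia_mem_wr hs ht
        simpa [mul_assoc] using this)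
    have hze : (n⁻¹ * dia (s, t) * n) * e0 * (n⁻¹ * dia (s, t) * n)⁻¹ = e0 ∨
        (n⁻¹ * dia (s, t) * n) * e0 * (n⁻¹ * dia (s, t) * n)⁻¹ = -e0 := by
      obtain ⟨a, ha, b, hb, e | e⟩ := hz
      · refine Or.inl (Units.ext ?_)
        rw [e, ← map_inv, Prod.inv_mk]
        simp [he0v, fromBlocks_multiply, ← Units.val_mul]
      · refine Or.inr (Units.ext ?_)
        rw [e, _root_.mul_inv_rev, inv_eq_of_mul_eq_one_right swp_mul_swp, ← map_inv, Prod.inv_mk]
        simp [he0v, fromBlocks_multiply, fromBlocks_neg, ← Units.val_mul]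
    have hd : dia (s, t) * dia (p, q) * (dia (s, t))⁻¹ =
        n * ((n⁻¹ * dia (s, t) * n) * e0 * (n⁻¹ * dia (s, t) * n)⁻¹) * n⁻¹ := by
      rw [← hpq]; group
    rw [← map_mul, ← map_inv, ← map_mul, Prod.mk_mul_mk, Prod.inv_mk, Prod.mk_mul_mk] at hd
    rcases hze with hε | hε
    · left
      rw [hε, hpq] at hd
      exact dia_inj hd
    · right
      rw [hε, mul_neg, neg_mul, hpq] at hd
      have hd' := congrArg Units.val hd
      rw [dia_val, Units.val_neg, dia_val, fromBlocks_neg, fromBlocks_inj] at hd'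
      exact ⟨hd'.1, hd'.2.2.2⟩
  have hp : (p : Matrix ι ι F) * p = 1 ∧ (q : Matrix ι ι F) * q = 1 := by
    have h : dia (p, q) * dia (p, q) = n * (e0 * e0) * n⁻¹ := by rw [← hpq]; group
    have he : e0 * e0 = 1 := Units.ext (by simp [he0v, fromBlocks_multiply, fromBlocks_one])
    rw [he, mul_one, mul_inv_cancel, ← map_mul, Prod.mk_mul_mk, ← map_one dia] at h
    obtain ⟨h1, h2'⟩ := dia_inj (h.trans (by rw [Prod.mk_one_one]))
    exact ⟨congrArg Units.val h1, congrArg Units.val h2'⟩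
  have hp1 := eq_one_or_negU σ h2 hS p hp.1 fun s hs hsd => by
    rcases hconj s 1 hs S.one_mem hsd (map_one _) with ⟨h, -⟩ | ⟨-, h⟩
    · exact mul_inv_eq_iff_eq_mul.mp h
    · exact absurd (by simpa using h) (hnoNeg q)
  have hq1 := eq_one_or_negU σ h2 hS q hp.2 fun s hs hsd => by
    rcases hconj 1 s S.one_mem hs (map_one _) hsd with ⟨-, h⟩ | ⟨h, -⟩
    · exact mul_inv_eq_iff_eq_mul.mp h
    · exact absurd (by simpa using h) (hnoNeg p)
  have h11 : (1 : Matrix ι ι F) ≠ -1 := hnoNeg 1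
  have hscal : ∀ c : F, (e0 : Matrix (ι ⊕ ι) (ι ⊕ ι) F) ≠ c • 1 := by
    intro c h
    rw [he0v, ← fromBlocks_one, fromBlocks_smul, fromBlocks_inj] at h
    exact h11 (h.2.2.2.trans h.1.symm)
  have hnot : ∀ c : F, (p : Matrix ι ι F) = c • 1 → (q : Matrix ι ι F) ≠ c • 1 := by
    intro c hp' hq'
    have hv : (n : Matrix (ι ⊕ ι) (ι ⊕ ι) F) * (e0 : Matrix (ι ⊕ ι) (ι ⊕ ι) F) * ((n⁻¹ : GL (ι ⊕ ι) F) : Matrix _ _ F) =
        c • 1 := by
      rw [← Units.val_mul, ← Units.val_mul, hpq, dia_val, hp', hq', ← fromBlocks_one,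
        fromBlocks_smul, smul_zero]
    apply hscal c
    calc (e0 : Matrix (ι ⊕ ι) (ι ⊕ ι) F)
        = ((n⁻¹ : GL (ι ⊕ ι) F) : Matrix _ _ F) * ((n : Matrix (ι ⊕ ι) (ι ⊕ ι) F) * (e0 : Matrix (ι ⊕ ι) (ι ⊕ ι) F) *
            ((n⁻¹ : GL (ι ⊕ ι) F) : Matrix _ _ F)) * (n : Matrix (ι ⊕ ι) (ι ⊕ ι) F) := by
          simp only [← Units.val_mul]; congr 1; group
      _ = c • 1 := by rw [hv]; simp [← Units.val_mul]
  -- reduce to a block diagonal element
  suffices key : ∀ m : GL (ι ⊕ ι) F, m ∈ gu σ (ι ⊕ ι) →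
      (∀ g ∈ gu σ (ι ⊕ ι), GeneralLinearGroup.det g = 1 → (g ∈ wr S ↔ m * g * m⁻¹ ∈ wr S)) →
      m * e0 = e0 * m → ∃ a ∈ normOne σ, sc a * m ∈ wr S by
    by_cases hcase : n * e0 = e0 * n
    · exact key n hnG hn hcase
    · obtain ⟨a, ha0, ha⟩ := key (swp * n) (mul_mem (swp_mem_gu σ) hnG) (fun g hgG hg => (hn g hgG hg).trans (by
          rw [_root_.mul_inv_rev, show swp * n * g * (n⁻¹ * swp⁻¹) = swp * (n * g * n⁻¹) * swp⁻¹ by group,
            Subgroup.mul_mem_cancel_right _ (inv_mem (swp_mem_wr S)),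
            Subgroup.mul_mem_cancel_left _ (swp_mem_wr S)])) (by
        refine Units.ext ?_
        have hpq' : (p : Matrix ι ι F) = 1 ∧ (q : Matrix ι ι F) = -1 := by
          rcases hp1 with hp' | hp' <;> rcases hq1 with hq' | hq'
          · exact absurd (by rw [hq', one_smul]) (hnot 1 (by rw [hp', one_smul]))
          · exact ⟨hp', hq'⟩
          · exfalso; apply hcase
            rw [← mul_inv_eq_iff_eq_mul, hpq]
            exact Units.ext (by rw [dia_val, he0v, hp', hq'])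
          · exact absurd (by rw [hq', neg_smul, one_smul]) (hnot (-1) (by rw [hp', neg_smul, one_smul]))
        have hsw : (swp : GL (ι ⊕ ι) F) * dia (p, q) = e0 * swp := Units.ext (by
          simp [he0v, fromBlocks_multiply, hpq'.1, hpq'.2])
        rw [← hpq] at hsw
        have : swp * n * e0 = e0 * (swp * n) := by
          calc swp * n * e0 = swp * (n * e0 * n⁻¹) * n := by group
            _ = e0 * swp * n := by rw [hsw]
            _ = e0 * (swp * n) := by group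
        exact congrArg Units.val this)
      refine ⟨a, ha0, ?_⟩
      have := Subgroup.mul_mem _ (swp_mem_wr S) ha
      rwa [← mul_assoc, ← sc_comm, mul_assoc, ← mul_assoc swp, swp_mul_swp, one_mul] at this
  intro m hmG hm hcomm
  obtain ⟨A, B, C, D, hbl⟩ : ∃ A B C D : Matrix ι ι F,
      (m : Matrix (ι ⊕ ι) (ι ⊕ ι) F) = fromBlocks A B C D :=
    ⟨_, _, _, _, (fromBlocks_toBlocks _).symm⟩
  have hc := congrArg Units.val hcomm
  rw [Units.val_mul, Units.val_mul, he0v, hbl, fromBlocks_multiply, fromBlocks_multiply,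
    fromBlocks_inj] at hc
  simp at hc
  have hzero : ∀ M : Matrix ι ι F, M = -M → M = 0 := fun M h => by
    have : (2 : F) • M = 0 := by rw [two_smul]; nth_rewrite 2 [h]; exact add_neg_cancel _
    exact (smul_eq_zero.mp this).resolve_left h2
  have hB : B = 0 := hzero B (by first | exact hc.1 | exact hc.1.symm)
  have hC : C = 0 := hzero C (by first | exact hc.2 | exact hc.2.symm)
  rw [hB, hC] at hbl
  have hdet : A.det * D.det ≠ 0 := by
    rw [← det_fromBlocks_zero₁₂ A 0 D, ← hbl]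
    exact (GeneralLinearGroup.det m).ne_zero
  obtain ⟨a, rfl⟩ : ∃ a : GL ι F, (a : Matrix ι ι F) = A :=
    (Matrix.isUnit_iff_isUnit_det A).mpr (isUnit_iff_ne_zero.mpr (left_ne_zero_of_mul hdet))
  obtain ⟨b, rfl⟩ : ∃ b : GL ι F, (b : Matrix ι ι F) = D :=
    (Matrix.isUnit_iff_isUnit_det D).mpr (isUnit_iff_ne_zero.mpr (right_ne_zero_of_mul hdet))
  obtain rfl : m = dia (a, b) := Units.ext (by rw [dia_val]; exact hbl)
  have hconjd : ∀ s t : GL ι F,
      dia (a, b) * dia (s, t) * (dia (a, b))⁻¹ = dia (a * s * a⁻¹, b * t * b⁻¹) := fun s t => by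
    rw [← map_mul, ← map_inv, ← map_mul, Prod.mk_mul_mk, Prod.inv_mk, Prod.mk_mul_mk]
  obtain ⟨haG, hbG⟩ := (dia_mem_gu σ).mp hmG
  have hda : ∀ r : GL ι F, r ∈ S → ∃ r' ∈ S, GeneralLinearGroup.det r * GeneralLinearGroup.det r' = 1 := by
    intro r hr
    obtain ⟨k, hk⟩ := hS.det_two σ hr
    obtain ⟨r', hr', he⟩ := hS.detSurj (GeneralLinearGroup.det r)⁻¹
      (inv_mem (det_mem_normOne σ (hS.le hr))) ⟨k, by rw [inv_pow, hk, inv_one]⟩
    exact ⟨r', hr', by rw [he, mul_inv_cancel]⟩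
  have hna : (∀ s, s ∈ S ↔ a * s * a⁻¹ ∈ S) ∧ (∀ s, s ∈ S ↔ b * s * b⁻¹ ∈ S) := by
    refine ⟨fun s => ⟨fun hs => ?_, fun hs => ?_⟩, fun s => ⟨fun hs => ?_, fun hs => ?_⟩⟩
    · obtain ⟨s', hs', he⟩ := hda s hs
      have := (hm (dia (s, s')) ((dia_mem_gu σ).mpr ⟨hS.le hs, hS.le hs'⟩) (by rw [det_dia, he])).mp (dia_mem_wr hs hs')
      rw [hconjd] at this
      exact (mem_of_dia_mem this).1
    · obtain ⟨r', hr', he⟩ := hda _ hs
      have := (hm (dia (s, b⁻¹ * r' * b)) ((dia_mem_gu σ).mpr ⟨by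
        have := mul_mem (mul_mem (inv_mem haG) (hS.le hs)) haG
        simpa [mul_assoc] using this, mul_mem (mul_mem (inv_mem hbG) (hS.le hr')) hbG⟩) (by
        rw [det_dia, ← he]; simp [mul_comm, mul_assoc])).mpr (by
        rw [hconjd]; simpa [mul_assoc] using dia_mem_wr hs hr')
      exact (mem_of_dia_mem this).1
    · obtain ⟨s', hs', he⟩ := hda s hs
      have := (hm (dia (s', s)) ((dia_mem_gu σ).mpr ⟨hS.le hs', hS.le hs⟩) (by rw [det_dia, mul_comm, he])).mp (dia_mem_wr hs' hs)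
      rw [hconjd] at this
      exact (mem_of_dia_mem this).2
    · obtain ⟨r', hr', he⟩ := hda _ hs
      have := (hm (dia (a⁻¹ * r' * a, s)) ((dia_mem_gu σ).mpr ⟨mul_mem (mul_mem (inv_mem haG) (hS.le hr')) haG, by
        have := mul_mem (mul_mem (inv_mem hbG) (hS.le hs)) hbG
        simpa [mul_assoc] using this⟩) (by
        rw [det_dia, ← he]; simp [mul_comm, mul_assoc])).mpr (by
        rw [hconjd]; simpa [mul_assoc] using dia_mem_wr hr' hs)
      exact (mem_of_dia_mem this).2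
  obtain ⟨u, hu0, hu⟩ := hS.normal a haG hna.1
  have hab : a * b⁻¹ ∈ S := by
    have h := (hm swp (swp_mem_gu σ) (det_swp hι)).mp (swp_mem_wr S)
    rw [show dia (a, b) * swp * (dia (a, b))⁻¹ = dia (a * b⁻¹, b * a⁻¹) * swp by
      rw [← map_inv, mul_assoc, Prod.inv_mk, swp_dia, ← mul_assoc, ← map_mul, Prod.mk_mul_mk],
      Subgroup.mul_mem_cancel_right _ (swp_mem_wr S)] at h
    exact (mem_of_dia_mem h).1
  refine ⟨u, hu0, ?_⟩
  rw [sc_sum, ← map_mul, Prod.mk_mul_mk]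
  refine dia_mem_wr hu ?_
  rw [show sc u * b = (a * b⁻¹)⁻¹ * (sc u * a) by
    rw [_root_.mul_inv_rev, inv_inv, sc_comm u a, ← mul_assoc, inv_mul_cancel_right, sc_comm]]
  exact mul_mem (inv_mem hab) hu

include hι h2 in
theorem GoodU.wr {S : Subgroup (GL ι F)} (hS : GoodU σ S) : GoodU σ (Pronormal.wr S) where
  le := by
    rintro _ ⟨a, ha, b, hb, rfl | rfl⟩
    · exact (dia_mem_gu σ).mpr ⟨hS.le ha, hS.le hb⟩
    · exact mul_mem ((dia_mem_gu σ).mpr ⟨hS.le ha, hS.le hb⟩) (swp_mem_gu σ)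
  pgroup := isPGroup_wr hS.pgroup
  scalar a ha0 ha := by rw [sc_sum]; exact dia_mem_wr (hS.scalar a ha0 ha) (hS.scalar a ha0 ha)
  detSurj a ha0 ha := by
    obtain ⟨s, hs, he⟩ := hS.detSurj a ha0 ha
    exact ⟨dia (s, 1), dia_mem_wr hs S.one_mem, by rw [det_dia, he, map_one, mul_one]⟩
  normal n hnG hn := exists_sc_mul_memU σ hι h2 hS n hnG fun g _ _ => hn g
  idem e he hc := by
    obtain ⟨x, hxS, hxd, hxx⟩ := hS.sqrtNeg
    obtain ⟨A, B, C, D, rfl⟩ : ∃ A B C D : Matrix ι ι F, e = fromBlocks A B C D :=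
      ⟨_, _, _, _, (fromBlocks_toBlocks _).symm⟩
    have hz : ∀ M : Matrix ι ι F, M = -M → M = 0 := fun M h => by
      have : (2 : F) • M = 0 := by rw [two_smul]; nth_rewrite 2 [h]; exact add_neg_cancel _
      exact (smul_eq_zero.mp this).resolve_left h2
    have h0 := hc (dia (x * x, 1)) (dia_mem_wr (mul_mem hxS hxS) S.one_mem)
      (by rw [det_dia, map_mul, hxd, map_one, mul_one, mul_one])
    rw [dia_val, Units.val_mul, hxx, fromBlocks_multiply, fromBlocks_multiply, fromBlocks_inj] at h0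
    simp at h0
    obtain rfl : B = 0 := hz B (by first | exact h0.1 | exact h0.1.symm)
    obtain rfl : C = 0 := hz C (by first | exact h0.2 | exact h0.2.symm)
    rw [fromBlocks_multiply, fromBlocks_inj] at he
    simp at he
    have hA := hS.idem A he.1 fun s hs hd => by
      have := hc (dia (s, 1)) (dia_mem_wr hs S.one_mem) (by rw [det_dia, hd, map_one, mul_one])
      rw [dia_val, fromBlocks_multiply, fromBlocks_multiply, fromBlocks_inj] at this
      simpa using this.1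
    have hsw := hc swp (swp_mem_wr S) (det_swp hι)
    rw [swp_val, fromBlocks_multiply, fromBlocks_multiply, fromBlocks_inj] at hsw
    simp at hsw
    have hAD : D = A := by first | exact hsw.1 | exact hsw.1.symm | exact hsw | exact hsw.symm
    subst hAD
    rcases hA with rfl | rfl
    · exact Or.inl fromBlocks_zero
    · exact Or.inr fromBlocks_one
  sqrtNeg := by
    obtain ⟨x, hxS, hxd, hxx⟩ := hS.sqrtNeg
    refine ⟨dia (x, x), dia_mem_wr hxS hxS, by rw [det_dia, hxd, mul_one], ?_⟩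
    simp [fromBlocks_multiply, hxx, ← fromBlocks_one, fromBlocks_neg]

/-- The special unitary group of the standard form. -/
def suStd (ι : Type*) [Fintype ι] [DecidableEq ι] : Subgroup (SpecialLinearGroup ι F) :=
  (gu σ ι).comap SpecialLinearGroup.toGL

include hι h2 in
theorem normalizer_suPart_wr {S : Subgroup (GL ι F)} (hS : GoodU σ S) {w : ℕ}
    (hw : Fintype.card (ι ⊕ ι) = 2 ^ w) :
    Subgroup.normalizer ((((slPart (Pronormal.wr S)).subgroupOf (suStd σ (ι ⊕ ι)) :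
      Subgroup (suStd σ (ι ⊕ ι))) : Set (suStd σ (ι ⊕ ι)))) ≤
      (slPart (Pronormal.wr S)).subgroupOf (suStd σ (ι ⊕ ι)) := by
  intro g hg
  have hgd : GeneralLinearGroup.det (SpecialLinearGroup.toGL g.1) = 1 :=
    Units.ext (by simp [GeneralLinearGroup.val_det_apply])
  obtain ⟨a, ha0, ha⟩ := exists_sc_mul_memU σ hι h2 hS (SpecialLinearGroup.toGL g.1) g.2
    fun h hG hd => by
      obtain ⟨k, rfl⟩ : ∃ k : SpecialLinearGroup (ι ⊕ ι) F, SpecialLinearGroup.toGL k = h :=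
        ⟨⟨h, by simpa [GeneralLinearGroup.val_det_apply] using congrArg Units.val hd⟩, Units.ext rfl⟩
      rw [← map_inv, ← map_mul, ← map_mul]
      exact Subgroup.mem_normalizer_iff.mp hg ⟨k, hG⟩
  have hG := hS.wr σ hι h2
  obtain ⟨k, hk⟩ := hG.det_two σ ha
  rw [map_mul, det_sc, hgd, mul_one, hw, ← pow_mul, ← pow_add] at hk
  show SpecialLinearGroup.toGL g.1 ∈ Pronormal.wr S
  exact (Subgroup.mul_mem_cancel_left _ (hG.scalar a ha0 ⟨w + k, hk⟩)).mp ha

end Cfsg.Agent.InvChar68.Pronormal
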