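import Cfsg.Agent.InvChar68.Pronormal.Unipotent
import Cfsg.Agent.Lib.Unitary.Basic

/-!
# Even characteristic unitary groups: overgroups of a Sylow 2-subgroup are pronormal
-/

set_option autoImplicit false

namespace Cfsg.Agent.InvChar68.Pronormal

open Cfsg.Agent.FGS80.Pronormal

/-- Overgroups of `U` are invariant under a torus: only a decomposition `U N U` is used. -/
theorem isPronormal_of_decomposition {G : Type*} [Group G] [Finite G] {p : ℕ} [Fact p.Prime]
    (U : Sylow p G) (T : Subgroup G) (N : Set G)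
    (hTab : ∀ s ∈ T, ∀ t ∈ T, Commute s t)
    (hTU : ∀ t ∈ T, cj t (U : Subgroup G) = U)
    (hNT : ∀ n ∈ N, ∀ t ∈ T, n⁻¹ * t * n ∈ T)
    (hB : ∀ g : G, ∃ u ∈ (U : Subgroup G), ∃ n ∈ N, ∃ v ∈ (U : Subgroup G), g = u * n * v)
    (hU : ∀ g ∈ Subgroup.normalizer ((U : Subgroup G) : Set G),
      ∃ u ∈ (U : Subgroup G), ∃ t ∈ T, ∃ v ∈ (U : Subgroup G), g = u * t * v)
    (H : Subgroup G) (hH : ¬ p ∣ H.index) : Cfsg.IsPronormal H := by
  refine isPronormal_of_normalizes U (fun K hK g hg => ?_) H hH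
  obtain ⟨u, hu, t, ht, v, hv, rfl⟩ := hU g hg
  rw [cj_mul, cj_self (hK hv), cj_mul]
  suffices h : cj t K = K by rw [h, cj_self (hK hu)]
  let K0 : Subgroup G := ⨆ n : {n : G // n ∈ K ∧ (n ∈ N ∨ n = 1)}, cj n.1 (U : Subgroup G)
  have hK0K : K0 ≤ K := iSup_le fun n => cj_le_of_mem n.2.1 hK
  have hT0 : ∀ s ∈ T, cj s K0 ≤ K0 := by
    intro s hs
    show Subgroup.map _ K0 ≤ K0
    rw [Subgroup.map_iSup]
    refine iSup_le fun n => ?_
    refine le_trans ?_ (le_iSup _ n)
    show cj s (cj n.1 (U : Subgroup G)) ≤ cj n.1 (U : Subgroup G)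
    rcases n.2.2 with hn | hn
    · rw [← cj_mul, show s * n.1 = n.1 * (n.1⁻¹ * s * n.1) by group, cj_mul,
        hTU _ (hNT _ hn _ hs)]
    · rw [hn, cj_one, hTU s hs]
  have hUK0 : (U : Subgroup G) ≤ K0 := by
    have := le_iSup (fun n : {n : G // n ∈ K ∧ (n ∈ N ∨ n = 1)} => cj n.1 (U : Subgroup G))
      ⟨1, K.one_mem, Or.inr rfl⟩
    simpa [cj_one] using this
  have hconj : ∀ k ∈ K, cj k (U : Subgroup G) ≤ K0 := by
    intro k hk
    obtain ⟨a, ha, n, hn, b, hb, rfl⟩ := hB k
    have hnK : n ∈ K := by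
      have := mul_mem (mul_mem (inv_mem (hK ha)) hk) (inv_mem (hK hb))
      simpa [mul_assoc] using this
    rw [cj_mul, cj_self hb, cj_mul]
    exact cj_le_of_mem (hUK0 ha) (le_iSup (fun n : {n : G // n ∈ K ∧ (n ∈ N ∨ n = 1)} =>
      cj n.1 (U : Subgroup G)) ⟨n, hnK, Or.inl hn⟩)
  -- the Frattini argument inside `K`
  have hdec : ∀ k ∈ K, ∃ a ∈ K0, ∃ s ∈ T, s ∈ K ∧ ∃ b ∈ K0, k = a * s * b := by
    intro k hk
    obtain ⟨c, hc⟩ := MulAction.exists_smul_eq ↥K0 (U.subtype hUK0) ((k • U).subtype (hconj k hk))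
    rw [Sylow.smul_subtype] at hc
    have h3 := Sylow.subtype_injective hc
    have h4 : ((c : G)⁻¹ * k) • U = U := by
      rw [mul_smul, ← h3]
      exact inv_smul_smul (c : G) U
    obtain ⟨a, ha, s, hs, b, hb, e⟩ := hU _ (Sylow.smul_eq_iff_mem_normalizer.1 h4)
    have hsK : s ∈ K := by
      have h5 : (c : G)⁻¹ * k ∈ K := mul_mem (inv_mem (hK0K c.2)) hk
      rw [e] at h5
      have := mul_mem (mul_mem (inv_mem (hK ha)) h5) (inv_mem (hK hb))
      simpa [mul_assoc] using this
    refine ⟨c * a, mul_mem c.2 (hUK0 ha), s, hs, hsK, b, hUK0 hb, ?_⟩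
    calc k = (c : G) * ((c : G)⁻¹ * k) := (mul_inv_cancel_left _ _).symm
      _ = c * a * s * b := by rw [e]; group
  have hle : cj t K ≤ K := by
    rintro _ ⟨k, hk, rfl⟩
    obtain ⟨a, ha, s, hs, hsK, b, hb, rfl⟩ := hdec k hk
    show t * (a * s * b) * t⁻¹ ∈ K
    rw [show t * (a * s * b) * t⁻¹ = (t * a * t⁻¹) * (t * s * t⁻¹) * (t * b * t⁻¹) by group,
      (hTab t ht s hs).eq, mul_inv_cancel_right]
    exact mul_mem (mul_mem (hK0K (hT0 t ht ⟨a, ha, rfl⟩)) hsK) (hK0K (hT0 t ht ⟨b, hb, rfl⟩))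
  exact Subgroup.eq_of_le_of_card_ge hle
    (Subgroup.card_map_of_injective (MulAut.conj t).injective).ge

open Matrix

variable {d : ℕ} {F : Type*} [Field F]

/-- Strictly upper triangular. -/
def SUpper (M : Matrix (Fin d) (Fin d) F) : Prop := ∀ i j, j ≤ i → M i j = 0

theorem SUpper.add {M N : Matrix (Fin d) (Fin d) F} (hM : SUpper M) (hN : SUpper N) :
    SUpper (M + N) := fun i j h => by simp [hM i j h, hN i j h]

theorem SUpper.smul {M : Matrix (Fin d) (Fin d) F} (a : F) (hM : SUpper M) : SUpper (a • M) :=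
  fun i j h => by simp [hM i j h]

theorem SUpper.mul {M N : Matrix (Fin d) (Fin d) F} (hM : SUpper M) (hN : SUpper N) :
    SUpper (M * N) := fun i j h => by
  rw [Matrix.mul_apply]
  refine Finset.sum_eq_zero fun k _ => ?_
  rcases le_or_gt k i with hki | hki
  · rw [hM i k hki, zero_mul]
  · rw [hN k j (h.trans hki.le), mul_zero]

variable [Fintype F]

theorem mem_unitri_iff_supper {g : SpecialLinearGroup (Fin d) F} :
    g ∈ unitri d F ↔ SUpper (g.1 - 1) := by
  rw [mem_unitri]
  constructor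
  · rintro ⟨h1, h2⟩ i j hji
    rcases hji.lt_or_eq with h | h
    · simp [h1 h, h.ne']
    · subst h; simp [h2]
  · intro h
    refine ⟨fun i j (hij : j < i) => ?_, fun i => ?_⟩
    · simpa [hij.ne'] using h i j hij.le
    · simpa [sub_eq_zero] using h i i le_rfl

variable (σ : F →+* F) (hσ : ∀ x, σ (σ x) = x)

/-- The adjoint for the antidiagonal Hermitian form. -/
def adj (M : Matrix (Fin d) (Fin d) F) : Matrix (Fin d) (Fin d) F :=
  Matrix.of fun i j => σ (M j.rev i.rev)

theorem adj_one : adj σ (1 : Matrix (Fin d) (Fin d) F) = 1 := by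
  ext i j
  by_cases h : i = j
  · subst h; simp [adj]
  · simp [adj, h, Ne.symm h]

theorem adj_add (M N : Matrix (Fin d) (Fin d) F) : adj σ (M + N) = adj σ M + adj σ N := by
  ext i j; simp [adj]

theorem adj_smul (a : F) (M : Matrix (Fin d) (Fin d) F) : adj σ (a • M) = σ a • adj σ M := by
  ext i j; simp [adj]

theorem adj_mul (M N : Matrix (Fin d) (Fin d) F) : adj σ (M * N) = adj σ N * adj σ M := by
  ext i j
  show σ ((M * N) j.rev i.rev) = _
  rw [Matrix.mul_apply, Matrix.mul_apply, map_sum, ← Equiv.sum_comp Fin.revPerm]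
  refine Finset.sum_congr rfl fun k _ => ?_
  rw [map_mul, mul_comm]
  simp [adj]

theorem SUpper.adj {M : Matrix (Fin d) (Fin d) F} (hM : SUpper M) : SUpper (Pronormal.adj σ M) :=
  fun i j h => by
    show σ (M j.rev i.rev) = 0
    rw [hM _ _ (Fin.rev_le_rev.mpr h), map_zero]

theorem det_adj (M : Matrix (Fin d) (Fin d) F) : (adj σ M).det = σ M.det := by
  rw [show adj σ M = ((M.map σ).transpose).submatrix Fin.revPerm Fin.revPerm from rfl,
    det_submatrix_equiv_self, det_transpose, RingHom.map_det, RingHom.mapMatrix_apply]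

include hσ in
theorem adj_adj (M : Matrix (Fin d) (Fin d) F) : adj σ (adj σ M) = M := by
  ext i j; simp [adj, hσ]

/-- The adjoint on the special linear group. -/
def adjSL (g : SpecialLinearGroup (Fin d) F) : SpecialLinearGroup (Fin d) F :=
  ⟨adj σ g.1, by rw [det_adj, g.2, map_one]⟩

@[simp] theorem adjSL_val (g : SpecialLinearGroup (Fin d) F) : (adjSL σ g).1 = adj σ g.1 := rfl

theorem adjSL_mul (g h : SpecialLinearGroup (Fin d) F) :
    adjSL σ (g * h) = adjSL σ h * adjSL σ g := Subtype.ext (adj_mul σ g.1 h.1)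

theorem adjSL_one : adjSL σ (1 : SpecialLinearGroup (Fin d) F) = 1 := Subtype.ext (adj_one σ)

theorem adjSL_inv (g : SpecialLinearGroup (Fin d) F) : adjSL σ g⁻¹ = (adjSL σ g)⁻¹ :=
  eq_inv_of_mul_eq_one_left (by rw [← adjSL_mul, mul_inv_cancel, adjSL_one])

/-- The automorphism of `SL` fixing the unitary group. -/
def theta : SpecialLinearGroup (Fin d) F →* SpecialLinearGroup (Fin d) F where
  toFun g := (adjSL σ g)⁻¹
  map_one' := by rw [adjSL_one, inv_one]
  map_mul' g h := by rw [adjSL_mul, _root_.mul_inv_rev]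

theorem theta_inv_val (g : SpecialLinearGroup (Fin d) F) : ((theta σ g)⁻¹).1 = adj σ g.1 := by
  show (((adjSL σ g)⁻¹)⁻¹).1 = _
  rw [inv_inv]; rfl

/-- The unitary group of the antidiagonal form. -/
def su : Subgroup (SpecialLinearGroup (Fin d) F) := (theta σ).eqLocus (MonoidHom.id _)

theorem mem_su {g : SpecialLinearGroup (Fin d) F} : g ∈ su σ ↔ theta σ g = g := Iff.rfl

theorem mem_su_iff {g : SpecialLinearGroup (Fin d) F} : g ∈ su σ ↔ adj σ g.1 * g.1 = 1 := by
  rw [mem_su]
  show (adjSL σ g)⁻¹ = g ↔ _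
  rw [inv_eq_iff_mul_eq_one]
  exact Subtype.ext_iff

theorem theta_mem_unitri {g : SpecialLinearGroup (Fin d) F} (hg : g ∈ unitri d F) :
    theta σ g ∈ unitri d F := by
  refine inv_mem (mem_unitri_iff_supper.mpr ?_)
  have h := (mem_unitri_iff_supper.mp hg).adj σ
  have e : adj σ (g.1 - 1) + adj σ 1 = adj σ g.1 := by rw [← adj_add, sub_add_cancel]
  show SUpper (adj σ g.1 - 1)
  rwa [← e, adj_one, add_sub_cancel_right]

omit [Fintype F] in
/-- The monomial part of a Bruhat decomposition is unique. -/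
theorem monMat_unique {A B : Matrix (Fin d) (Fin d) F} (hA : A.BlockTriangular id)
    (hA1 : ∀ i, A i i = 1) (hB : B.BlockTriangular id) (hB1 : ∀ i, B i i = 1)
    {τ τ' : Equiv.Perm (Fin d)} {c c' : Fin d → F} (hc : ∀ k, c k ≠ 0)
    (h : A * monMat τ c = monMat τ' c' * B) : τ = τ' ∧ c = c' := by
  have hl : ∀ i j, (A * monMat τ c) i j = A i (τ j) * c j := fun i j => by
    simp [Matrix.mul_apply, monMat]
  have hr : ∀ i j, (monMat τ' c' * B) i j = c' (τ'.symm i) * B (τ'.symm i) j := fun i j => by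
    rw [Matrix.mul_apply, Finset.sum_eq_single (τ'.symm i)]
    · simp [monMat]
    · intro k _ hk
      have : τ' k ≠ i := fun e => hk (by rw [← e, Equiv.symm_apply_apply])
      simp [monMat, this]
    · simp
  have hle : ∀ j, τ'.symm (τ j) ≤ j := by
    intro j
    by_contra hlt
    push Not at hlt
    have := (hl (τ j) j).symm.trans ((congrFun (congrFun h (τ j)) j).trans (hr (τ j) j))
    rw [hA1, one_mul, hB hlt, mul_zero] at this
    exact hc j this
  have hsum : ∑ x : Fin d, ((τ'.symm (τ x) : Fin d) : ℕ) = ∑ x : Fin d, (x : ℕ) :=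
    Equiv.sum_comp (τ.trans τ'.symm) fun x : Fin d => (x : ℕ)
  have heq := (Finset.sum_eq_sum_iff_of_le fun x _ => Fin.le_def.mp (hle x)).mp hsum
  have hτ : τ = τ' := Equiv.ext fun x => by
    have := congrArg τ' (Fin.ext (heq x (Finset.mem_univ x)))
    rwa [Equiv.apply_symm_apply] at this
  refine ⟨hτ, funext fun j => ?_⟩
  have := (hl (τ j) j).symm.trans ((congrFun (congrFun h (τ j)) j).trans (hr (τ j) j))
  rw [hA1, one_mul] at this
  rw [this, hτ, Equiv.symm_apply_apply, hB1, mul_one]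

include hσ in
/-- Lifting norms in a nilpotent algebra stable under the adjoint. -/
theorem exists_norm_lift (P : Matrix (Fin d) (Fin d) F → Prop)
    (hadd : ∀ M N, P M → P N → P (M + N)) (hmul : ∀ M N, P M → P N → P (M * N))
    (hsmul : ∀ (a : F) M, P M → P (a • M)) (hadj : ∀ M, P M → P (adj σ M))
    (hup : ∀ M, P M → SUpper M) (hP0 : P 0) {lam : F} (hlam : lam + σ lam = 1) :
    ∀ (k : ℕ) (a : SpecialLinearGroup (Fin d) F), P (a.1 - 1) → (a.1 - 1) ^ 2 ^ k = 0 →
      adj σ a.1 = a.1 →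
      ∃ w : SpecialLinearGroup (Fin d) F, P (w.1 - 1) ∧ adj σ w.1 * w.1 = a.1 := by
  intro k
  induction k with
  | zero =>
    intro a _ hx _
    rw [pow_zero, pow_one, sub_eq_zero] at hx
    exact ⟨1, by simpa using hP0, by simp [adj_one, hx]⟩
  | succ k ih =>
    intro a ha hx hs
    set x := a.1 - 1 with hxdef
    have hinvP : ∀ g : SpecialLinearGroup (Fin d) F, P (g.1 - 1) → P ((g⁻¹).1 - 1) := by
      intro g hg
      obtain ⟨n, hn⟩ : ∃ n : ℕ, g⁻¹ = g ^ n :=
        ⟨orderOf g - 1, inv_eq_of_mul_eq_one_left (by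
          rw [← pow_succ, Nat.sub_add_cancel (orderOf_pos g), pow_orderOf_eq_one])⟩
      rw [hn]
      clear hn
      induction n with
      | zero => simpa using hP0
      | succ n ihn =>
        rw [pow_succ, Matrix.SpecialLinearGroup.coe_mul,
          show (g ^ n).1 * g.1 - 1 = ((g ^ n).1 - 1) * (g.1 - 1) + ((g ^ n).1 - 1) + (g.1 - 1) by
            noncomm_ring]
        exact hadd _ _ (hadd _ _ (hmul _ _ ihn hg) ihn) hg
    have hs' : adj σ x = x := by
      have e : adj σ x + adj σ 1 = adj σ a.1 := by rw [← adj_add, hxdef, sub_add_cancel]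
      rw [adj_one, hs] at e
      rw [hxdef, eq_sub_iff_add_eq, ← hxdef, e]
    have hdet : (1 + lam • x).det = 1 := by
      have hu : (1 + lam • x).BlockTriangular id := blockTriangular_one.add
        (fun i j (h : j < i) => by simp [(hup _ ha) i j h.le])
      rw [det_of_upperTriangular hu]
      exact Finset.prod_eq_one fun i _ => by simp [(hup _ ha) i i le_rfl]
    let w0 : SpecialLinearGroup (Fin d) F := ⟨1 + lam • x, hdet⟩
    have hw0 : P (w0.1 - 1) := by
      show P (1 + lam • x - 1)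
      rw [add_sub_cancel_left]; exact hsmul _ _ ha
    let a' : SpecialLinearGroup (Fin d) F := theta σ w0 * a * w0⁻¹
    have hadjw : adj σ w0.1 = 1 + σ lam • x := by
      show adj σ (1 + lam • x) = _
      rw [adj_add, adj_one, adj_smul, hs']
    have hth : ((theta σ w0)⁻¹).1 = adj σ w0.1 := by
      exact theta_inv_val σ w0
    -- `a' - 1` is a multiple of `x ^ 2`
    obtain ⟨y, z, hy, hz, hyz, hxy, hxz⟩ :
        ∃ y z : Matrix (Fin d) (Fin d) F, y = (theta σ w0).1 ∧ z = (w0⁻¹).1 ∧
          y * (1 + σ lam • x) = 1 ∧ Commute x y ∧ Commute x z := by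
      refine ⟨_, _, rfl, rfl, ?_, ?_, ?_⟩
      · rw [← hadjw, ← hth, ← Matrix.SpecialLinearGroup.coe_mul, mul_inv_cancel,
          Matrix.SpecialLinearGroup.coe_one]
      · have h1 : Commute x ((theta σ w0)⁻¹).1 := by
          rw [hth, hadjw]; exact (Commute.one_right x).add_right ((Commute.refl x).smul_right _)
        calc x * (theta σ w0).1
            = ((theta σ w0).1 * ((theta σ w0)⁻¹).1) * x * (theta σ w0).1 := by
              rw [← Matrix.SpecialLinearGroup.coe_mul, mul_inv_cancel,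
                Matrix.SpecialLinearGroup.coe_one, one_mul]
          _ = (theta σ w0).1 * x * (((theta σ w0)⁻¹).1 * (theta σ w0).1) := by
              rw [mul_assoc _ _ x, ← h1.eq]; noncomm_ring
          _ = (theta σ w0).1 * x := by
              rw [← Matrix.SpecialLinearGroup.coe_mul, inv_mul_cancel,
                Matrix.SpecialLinearGroup.coe_one, mul_one]
      · have h1 : Commute x w0.1 := (Commute.one_right x).add_right ((Commute.refl x).smul_right _)
        calc x * (w0⁻¹).1
            = ((w0⁻¹).1 * w0.1) * x * (w0⁻¹).1 := by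
              rw [← Matrix.SpecialLinearGroup.coe_mul, inv_mul_cancel,
                Matrix.SpecialLinearGroup.coe_one, one_mul]
          _ = (w0⁻¹).1 * x * (w0.1 * (w0⁻¹).1) := by
              rw [mul_assoc _ _ x, ← h1.eq]; noncomm_ring
          _ = (w0⁻¹).1 * x := by
              rw [← Matrix.SpecialLinearGroup.coe_mul, mul_inv_cancel,
                Matrix.SpecialLinearGroup.coe_one, mul_one]
    have hw0z : (1 + lam • x) * z = 1 := by
      rw [hz, show (1 + lam • x) = w0.1 from rfl, ← Matrix.SpecialLinearGroup.coe_mul, mul_inv_cancel,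
        Matrix.SpecialLinearGroup.coe_one]
    have ha'val : a'.1 - 1 = (-(σ lam * lam)) • (y * (x * x) * z) := by
      have key : (1 + x) - (1 + σ lam • x) * (1 + lam • x) = (-(σ lam * lam)) • (x * x) := by
        have h1 : x = (σ lam + lam) • x := by rw [add_comm (σ lam), hlam, one_smul]
        nth_rewrite 1 [h1]
        simp only [add_mul, mul_add, one_mul, mul_one, smul_mul_smul_comm, add_smul, neg_smul]
        abel
      rw [show a'.1 = y * (1 + x) * z by
        rw [hy, hz, hxdef, add_sub_cancel]; rfl]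
      calc y * (1 + x) * z - 1
          = y * (1 + x) * z - (y * (1 + σ lam • x)) * ((1 + lam • x) * z) := by
            rw [hyz, hw0z, one_mul]
        _ = y * ((1 + x) - (1 + σ lam • x) * (1 + lam • x)) * z := by noncomm_ring
        _ = _ := by rw [key, Matrix.mul_smul, Matrix.smul_mul]
    have ha' : P (a'.1 - 1) := by
      have hp1 : P ((theta σ w0).1 - 1) := by
        have h : P (((theta σ w0)⁻¹).1 - 1) := by
          rw [hth, hadjw, add_sub_cancel_left]; exact hsmul _ _ ha
        simpa using hinvP _ h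
      have hp2 := hinvP _ hw0
      rw [show a'.1 - 1 = ((theta σ w0).1 * a.1) * (w0⁻¹).1 - 1 from rfl,
        show ((theta σ w0).1 * a.1) * (w0⁻¹).1 - 1 = ((theta σ w0).1 * a.1 - 1) * ((w0⁻¹).1 - 1) +
          ((theta σ w0).1 * a.1 - 1) + ((w0⁻¹).1 - 1) by noncomm_ring,
        show (theta σ w0).1 * a.1 - 1 = ((theta σ w0).1 - 1) * (a.1 - 1) +
          ((theta σ w0).1 - 1) + (a.1 - 1) by noncomm_ring]
      have hp3 := hadd _ _ (hadd _ _ (hmul _ _ hp1 ha) hp1) ha
      exact hadd _ _ (hadd _ _ (hmul _ _ hp3 hp2) hp3) hp2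
    have hnil : (a'.1 - 1) ^ 2 ^ k = 0 := by
      have hcyx : Commute (y * z) (x * x) :=
        ((hxy.mul_right hxz).mul_left (hxy.mul_right hxz)).symm
      rw [ha'val, smul_pow, show y * (x * x) * z = (y * z) * (x * x) by
        rw [mul_assoc y, (hxz.mul_left hxz).eq, ← mul_assoc], hcyx.mul_pow, ← sq x,
        ← pow_mul, ← pow_succ', hx, mul_zero, smul_zero]
    have hsa' : adj σ a'.1 = a'.1 := by
      have e1 : adj σ (w0⁻¹).1 = (theta σ w0).1 := congrArg Subtype.val (adjSL_inv σ w0)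
      have e2 : adj σ (theta σ w0).1 = (w0⁻¹).1 := by rw [← e1, adj_adj σ hσ]
      show adj σ ((theta σ w0).1 * a.1 * (w0⁻¹).1) = (theta σ w0).1 * a.1 * (w0⁻¹).1
      rw [adj_mul, adj_mul, e1, e2, hs, mul_assoc]
    obtain ⟨w', hw', hw'e⟩ := ih a' ha' hnil hsa'
    refine ⟨w' * w0, ?_, ?_⟩
    · rw [Matrix.SpecialLinearGroup.coe_mul,
        show w'.1 * w0.1 - 1 = (w'.1 - 1) * (w0.1 - 1) + (w'.1 - 1) + (w0.1 - 1) by noncomm_ring]
      exact hadd _ _ (hadd _ _ (hmul _ _ hw' hw0) hw') hw0
    · rw [Matrix.SpecialLinearGroup.coe_mul, adj_mul, mul_assoc, ← mul_assoc (adj σ w'.1), hw'e,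
        ← hth, ← Matrix.SpecialLinearGroup.coe_mul, ← Matrix.SpecialLinearGroup.coe_mul]
      congr 1
      simp only [a']
      group
      try rfl

include hσ in
theorem exists_bruhat_su {lam : F} (hlam : lam + σ lam = 1) {g : SpecialLinearGroup (Fin d) F}
    (hg : g ∈ su σ) :
    ∃ u ∈ unitri d F, ∃ v ∈ unitri d F, ∃ (τ : Equiv.Perm (Fin d)) (c : Fin d → F)
      (m : SpecialLinearGroup (Fin d) F), u ∈ su σ ∧ v ∈ su σ ∧ m ∈ su σ ∧
      (∀ k, c k ≠ 0) ∧ m.1 = monMat τ c ∧ g = u * m * v := by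
  obtain ⟨u, hu, v, hv, τ, c, m, hc, hm, rfl⟩ := exists_bruhat_sl g
  have hfix : theta σ u * theta σ m * theta σ v = u * m * v := by
    rw [← map_mul, ← map_mul]; exact hg
  -- the monomial part is fixed
  let τ' : Equiv.Perm (Fin d) := Fin.revPerm.trans (τ.trans Fin.revPerm)
  let c' : Fin d → F := fun k => (σ (c k.rev))⁻¹
  have hmth : (theta σ m).1 = monMat τ' c' := by
    have h1 : adj σ m.1 * monMat τ' c' = 1 := by
      ext i j
      rw [Matrix.mul_apply, Finset.sum_eq_single (τ' j), hm]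
      · by_cases h : i = j
        · subst h
          simp [adj, monMat, τ', c', map_ne_zero σ, hc]
        · have h2 : i.rev ≠ j.rev := fun e => h (Fin.rev_injective e)
          simp [adj, monMat, τ', h, h2]
      · intro k _ hk
        simp [monMat, Ne.symm hk]
      · simp
    calc (theta σ m).1 = (theta σ m).1 * (adj σ m.1 * monMat τ' c') := by rw [h1, mul_one]
      _ = (theta σ m * (theta σ m)⁻¹).1 * monMat τ' c' := by
        rw [Matrix.SpecialLinearGroup.coe_mul, theta_inv_val σ m, mul_assoc]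
      _ = monMat τ' c' := by rw [mul_inv_cancel, Matrix.SpecialLinearGroup.coe_one, one_mul]
  have hu1 := mul_mem (inv_mem (theta_mem_unitri σ hu)) hu
  have hv1 := mul_mem (theta_mem_unitri σ hv) (inv_mem hv)
  have hrel : ((theta σ u)⁻¹ * u) * m = theta σ m * (theta σ v * v⁻¹) := by
    calc ((theta σ u)⁻¹ * u) * m = (theta σ u)⁻¹ * (u * m * v) * v⁻¹ := by group
      _ = _ := by rw [← hfix]; group
  obtain ⟨hττ, hcc⟩ := monMat_unique hu1.1 hu1.2 hv1.1 hv1.2 hc (τ' := τ') (c' := c') (by
    rw [← hm, ← hmth, ← Matrix.SpecialLinearGroup.coe_mul, ← Matrix.SpecialLinearGroup.coe_mul, hrel])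
  have hmsu : theta σ m = m := Subtype.ext (by rw [hmth, hm, ← hττ, ← hcc])
  have hadjm : adj σ m.1 = (m⁻¹).1 := by
    conv_rhs => rw [← hmsu, theta_inv_val]
  let P : Matrix (Fin d) (Fin d) F → Prop := fun M => SUpper M ∧ SUpper ((m⁻¹).1 * M * m.1)
  set a := (theta σ u)⁻¹ * u with hadef
  have ha2 : m⁻¹ * a * m = theta σ v * v⁻¹ := by
    rw [mul_assoc, hrel, hmsu, inv_mul_cancel_left]
  have haP : P (a.1 - 1) := by
    refine ⟨mem_unitri_iff_supper.mp hu1, ?_⟩
    have := mem_unitri_iff_supper.mp hv1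
    rwa [← ha2, Matrix.SpecialLinearGroup.coe_mul, Matrix.SpecialLinearGroup.coe_mul,
      show (m⁻¹).1 * a.1 * m.1 - 1 = (m⁻¹).1 * (a.1 - 1) * m.1 by
        rw [mul_sub, sub_mul, mul_one, ← Matrix.SpecialLinearGroup.coe_mul m⁻¹ m, inv_mul_cancel,
          Matrix.SpecialLinearGroup.coe_one]] at this
  have haval : a.1 = adj σ u.1 * u.1 := by
    rw [hadef, Matrix.SpecialLinearGroup.coe_mul, theta_inv_val]
  have has : adj σ a.1 = a.1 := by rw [haval, adj_mul, adj_adj σ hσ]
  have hnil : (a.1 - 1) ^ 2 ^ d = 0 := by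
    have hN : (a.1 - 1) ^ d = 0 := by
      have := aeval_self_charpoly a.1
      rw [charpoly_of_upperTriangular _ hu1.1] at this
      simpa [hu1.2, map_prod, Finset.prod_const] using this
    obtain ⟨e, he⟩ := Nat.exists_eq_add_of_le (Nat.lt_two_pow_self (n := d)).le
    rw [he, pow_add, hN, zero_mul]
  have hm1 : m.1 * (m⁻¹).1 = 1 := by
    rw [← Matrix.SpecialLinearGroup.coe_mul, mul_inv_cancel, Matrix.SpecialLinearGroup.coe_one]
  obtain ⟨w, hw, hwe⟩ := exists_norm_lift σ hσ P
    (fun M N hM hN => ⟨hM.1.add hN.1, by rw [mul_add, add_mul]; exact hM.2.add hN.2⟩)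
    (fun M N hM hN => ⟨hM.1.mul hN.1, by
      rw [show (m⁻¹).1 * (M * N) * m.1 = ((m⁻¹).1 * M * m.1) * ((m⁻¹).1 * N * m.1) by
        rw [show (m⁻¹).1 * M * m.1 * ((m⁻¹).1 * N * m.1) =
          (m⁻¹).1 * M * (m.1 * (m⁻¹).1) * N * m.1 by noncomm_ring, hm1, mul_one]
        noncomm_ring]
      exact hM.2.mul hN.2⟩)
    (fun r M hM => ⟨hM.1.smul r, by rw [Matrix.mul_smul, Matrix.smul_mul]; exact hM.2.smul r⟩)
    (fun M hM => ⟨hM.1.adj σ, by
      have := hM.2.adj σ
      have hadjmi : adj σ (m⁻¹).1 = m.1 := by rw [← hadjm, adj_adj σ hσ]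
      rwa [adj_mul, adj_mul, hadjmi, hadjm, ← mul_assoc] at this⟩)
    (fun M hM => hM.1) ⟨fun i j _ => rfl, by simp [SUpper]⟩ hlam d a haP hnil has
  have hwu : w ∈ unitri d F := mem_unitri_iff_supper.mpr hw.1
  have hwm : m⁻¹ * w * m ∈ unitri d F := by
    refine mem_unitri_iff_supper.mpr ?_
    rw [Matrix.SpecialLinearGroup.coe_mul, Matrix.SpecialLinearGroup.coe_mul,
      show (m⁻¹).1 * w.1 * m.1 - 1 = (m⁻¹).1 * (w.1 - 1) * m.1 by
        rw [mul_sub, sub_mul, mul_one, ← Matrix.SpecialLinearGroup.coe_mul m⁻¹ m, inv_mul_cancel,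
          Matrix.SpecialLinearGroup.coe_one]]
    exact hw.2
  have hu' : u * w⁻¹ ∈ su σ := by
    rw [mem_su, map_mul, map_inv]
    have e : (theta σ w)⁻¹ * w = (theta σ u)⁻¹ * u := Subtype.ext (by
      rw [← hadef, ← hwe, Matrix.SpecialLinearGroup.coe_mul, theta_inv_val])
    rw [show (theta σ w)⁻¹ = (theta σ u)⁻¹ * u * w⁻¹ by rw [← e]; group]
    group
  refine ⟨u * w⁻¹, mul_mem hu (inv_mem hwu), m⁻¹ * w * m * v, mul_mem hwm hv, τ, c, m, hu', ?_,
    hmsu, hc, hm, by group⟩
  have := mul_mem (mul_mem (inv_mem (show m ∈ su σ from hmsu)) (inv_mem hu')) hg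
  rwa [show m⁻¹ * (u * w⁻¹)⁻¹ * (u * m * v) = m⁻¹ * w * m * v by group] at this

/-- Unitriangular elements of the unitary group. -/
def suUnitri : Subgroup (su (d := d) σ) := (unitri d F).subgroupOf (su σ)

include hσ in
theorem exists_normalizer_su (h2 : (2 : F) = 0) (hd : Even d) {lam : F} (hlam : lam + σ lam = 1)
    {g : su (d := d) σ} (hg : g ∈ Subgroup.normalizer ((suUnitri σ : Subgroup (su (d := d) σ)) : Set (su (d := d) σ))) :
    ∃ u ∈ unitri d F, ∃ v ∈ unitri d F, ∃ (c : Fin d → F) (m : SpecialLinearGroup (Fin d) F),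
      u ∈ su σ ∧ v ∈ su σ ∧ m ∈ su σ ∧ (∀ k, c k ≠ 0) ∧ m.1 = diagonal c ∧ g.1 = u * m * v := by
  obtain ⟨u, hu, v, hv, τ, c, m, hus, hvs, hms, hc, hm, hge⟩ := exists_bruhat_su σ hσ hlam g.2
  have hmN : (⟨m, hms⟩ : su (d := d) σ) ∈ Subgroup.normalizer ((suUnitri σ : Subgroup (su (d := d) σ)) : Set (su (d := d) σ)) := by
    have := mul_mem (mul_mem (inv_mem (Subgroup.le_normalizer
      (show (⟨u, hus⟩ : su (d := d) σ) ∈ suUnitri σ from hu))) hg)
      (inv_mem (Subgroup.le_normalizer (show (⟨v, hvs⟩ : su (d := d) σ) ∈ suUnitri σ from hv)))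
    convert this using 1
    refine Subtype.ext ?_
    show m = u⁻¹ * g.1 * v⁻¹
    rw [hge]; group
  have hmono : StrictMono τ := by
    intro i j hij
    rcases lt_trichotomy (τ i) (τ j) with h | h | h
    · exact h
    · exact absurd (τ.injective h) hij.ne
    · exfalso
      -- a unitary element with nonzero `(i, j)` entry
      obtain ⟨r, hr, hrs, hr0⟩ : ∃ r : SpecialLinearGroup (Fin d) F, r ∈ unitri d F ∧ r ∈ su σ ∧
          r.1 i j ≠ 0 := by
        have htwo : ∀ x : F, x + x = 0 := fun x => by rw [← two_mul, h2, zero_mul]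
        by_cases hji : j = i.rev
        · refine ⟨⟨transvection i j 1, det_transvection_of_ne i j hij.ne 1⟩,
            transvection_mem_unitri hij 1, (mem_su_iff σ).mpr ?_,
            by simp [transvection, hij.ne]⟩
          have e : adj σ (transvection i j (1 : F)) = transvection i j 1 := by
            rw [transvection, adj_add, adj_one]
            congr 1
            ext a b
            have hfl : i = b.rev ↔ b = i.rev :=
              ⟨fun h => by rw [h, Fin.rev_rev], fun h => by rw [h, Fin.rev_rev]⟩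
            simp [adj, single_apply, hji, Fin.rev_eq_iff, and_comm, eq_comm, hfl]
          show adj σ (transvection i j (1 : F)) * transvection i j 1 = 1
          rw [e, transvection_mul_transvection_same (h := hij.ne), htwo, transvection_zero]
        · have h1 : i ≠ i.rev := by
            intro e
            obtain ⟨e', he'⟩ := hd
            have := congrArg Fin.val e
            rw [Fin.val_rev] at this
            have := i.isLt
            omega
          have hjr : j.rev < i.rev := Fin.rev_lt_rev.mpr hij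
          have h3 : j ≠ j.rev := by
            intro e
            obtain ⟨e', he'⟩ := hd
            have := congrArg Fin.val e
            rw [Fin.val_rev] at this
            have := j.isLt
            omega
          let M : Matrix (Fin d) (Fin d) F := transvection i j 1 * transvection j.rev i.rev 1
          have hM : M = 1 + single i j 1 + single j.rev i.rev 1 := by
            show transvection i j 1 * transvection j.rev i.rev (1 : F) = _
            simp only [transvection, add_mul, mul_add, one_mul, mul_one]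
            rw [single_mul_single_of_ne _ _ _ _ h3]
            abel
          refine ⟨⟨M, by rw [det_mul, det_transvection_of_ne i j hij.ne,
              det_transvection_of_ne _ _ hjr.ne, one_mul]⟩,
            mul_mem (transvection_mem_unitri hij 1) (transvection_mem_unitri hjr 1),
            (mem_su_iff σ).mpr ?_, ?_⟩
          · show adj σ M * M = 1
            have e : adj σ M = M := by
              rw [hM, adj_add, adj_add, adj_one]
              have s1 : ∀ a b : Fin d, adj σ (single a b (1 : F)) = single b.rev a.rev 1 := by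
                intro a b
                ext x y
                have f1 : ∀ c e : Fin d, c = e.rev ↔ e = c.rev := fun c e =>
                  ⟨fun h => by rw [h, Fin.rev_rev], fun h => by rw [h, Fin.rev_rev]⟩
                simp only [adj, Matrix.of_apply, single_apply]
                simp only [f1 a y, f1 b x, eq_comm (a := b.rev), eq_comm (a := a.rev)]
                by_cases hh : y = a.rev ∧ x = b.rev
                · rw [if_pos hh, if_pos ⟨hh.2, hh.1⟩, map_one]
                · rw [if_neg hh, if_neg (fun e => hh ⟨e.2, e.1⟩), map_zero]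
              rw [s1, s1, Fin.rev_rev, Fin.rev_rev]
              abel
            have hne2 : i.rev ≠ j := fun e => hji e.symm
            rw [e, hM]
            simp only [add_mul, mul_add, one_mul, mul_one,
              single_mul_single_of_ne _ _ _ _ hij.ne', single_mul_single_of_ne _ _ _ _ hjr.ne',
              single_mul_single_of_ne _ _ _ _ h3, single_mul_single_of_ne _ _ _ _ h1.symm]
            ext a b
            simp
            linear_combination htwo (single i j (1 : F) a b) + htwo (single j.rev i.rev (1 : F) a b)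
          · show M i j ≠ 0
            rw [hM]
            have hne3 : ¬(j.rev = i ∧ i.rev = j) := fun e => hji e.2.symm
            simp [hij.ne, hne3, single_apply]
      have hmem : m * r * m⁻¹ ∈ unitri d F :=
        (Subgroup.mem_normalizer_iff.mp hmN ⟨r, hrs⟩).mp hr
      have key : (m * r * m⁻¹ * m).1 (τ i) j = (monMat τ c * r.1) (τ i) j := by
        rw [inv_mul_cancel_right, Matrix.SpecialLinearGroup.coe_mul, hm]
      rw [Matrix.SpecialLinearGroup.coe_mul, hm] at key
      rw [show ((m * r * m⁻¹).1 * monMat τ c) (τ i) j = (m * r * m⁻¹).1 (τ i) (τ j) * c j by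
          simp [Matrix.mul_apply, monMat],
        show (monMat τ c * r.1) (τ i) j = c i * r.1 i j by simp [Matrix.mul_apply, monMat],
        hmem.1 (show id (τ j) < id (τ i) from h), zero_mul] at key
      exact mul_ne_zero (hc i) hr0 key.symm
  have hτ : τ = 1 := by
    have hsum : ∑ x : Fin d, (x : ℕ) = ∑ x : Fin d, ((τ x : Fin d) : ℕ) :=
      (Equiv.sum_comp τ fun x : Fin d => (x : ℕ)).symm
    have := (Finset.sum_eq_sum_iff_of_le fun x _ => Fin.le_def.mp (hmono.id_le x)).mp hsum
    exact Equiv.ext fun x => Fin.ext (this x (Finset.mem_univ x)).symm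
  refine ⟨u, hu, v, hv, c, m, hus, hvs, hms, hc, ?_, hge⟩
  rw [hm, hτ]
  ext i j
  by_cases h : i = j
  · subst h; simp [monMat]
  · simp [monMat, h, Ne.symm h]

include hσ in
theorem isPronormal_su_even (h2 : (2 : F) = 0) (hd : Even d) [NeZero d] {lam : F}
    (hlam : lam + σ lam = 1) (H : Subgroup (su (d := d) σ)) (hH : ¬ 2 ∣ H.index) :
    Cfsg.IsPronormal H := by
  have hp : IsPGroup 2 (suUnitri σ : Subgroup (su (d := d) σ)) :=
    (isPGroup_unitri h2).comap_of_injective _ (su (d := d) σ).subtype_injective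
  obtain ⟨P, hP⟩ := exists_sylow_eq _ hp fun g hg ⟨k, hk⟩ => by
    obtain ⟨u, hu, v, hv, c, m, hus, hvs, hms, hc, hm, hge⟩ := exists_normalizer_su σ hσ h2 hd hlam hg
    haveI : CharP F 2 := charP_two_of h2
    show g.1 ∈ unitri d F
    have hup : g.1.1.BlockTriangular id := by
      rw [hge, Matrix.SpecialLinearGroup.coe_mul, Matrix.SpecialLinearGroup.coe_mul, hm]
      exact (hu.1.mul (blockTriangular_diagonal _)).mul hv.1
    refine ⟨hup, fun i => ?_⟩
    have hpow : ∀ n : ℕ, (g.1.1 ^ n).BlockTriangular id ∧ (g.1.1 ^ n) i i = g.1.1 i i ^ n := by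
      intro n
      induction n with
      | zero => exact ⟨by simpa using blockTriangular_one, by simp⟩
      | succ n ih =>
        refine ⟨by rw [pow_succ]; exact ih.1.mul hup, ?_⟩
        rw [pow_succ, pow_succ (g.1.1 i i), Matrix.mul_apply, Finset.sum_eq_single i, ih.2]
        · intro l _ hl
          rcases lt_or_gt_of_ne hl with h' | h'
          · rw [ih.1 h', zero_mul]
          · rw [hup h', mul_zero]
        · simp
    have hone : g.1.1 i i ^ 2 ^ k = 1 := by
      have hk' : g.1 ^ 2 ^ k = 1 := congrArg Subtype.val hk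
      rw [← (hpow _).2, ← Matrix.SpecialLinearGroup.coe_pow, hk', Matrix.SpecialLinearGroup.coe_one,
        Matrix.one_apply_eq]
    have : (g.1.1 i i - 1) ^ 2 ^ k = 0 := by rw [sub_pow_char_pow, hone, one_pow, sub_self]
    exact sub_eq_zero.mp ((pow_eq_zero_iff (by positivity)).mp this)
  let T : Subgroup (su (d := d) σ) := ofFinite
    { carrier := {g | ∃ c : Fin d → F, g.1.1 = diagonal c}
      one_mem' := ⟨fun _ => 1, diagonal_one.symm⟩
      mul_mem' := by
        rintro a b ⟨c, hc⟩ ⟨e, he⟩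
        exact ⟨fun i => c i * e i, by
          show a.1.1 * b.1.1 = _; rw [hc, he, diagonal_mul_diagonal]⟩ }
  refine isPronormal_of_decomposition P T
    {g | ∃ (τ : Equiv.Perm (Fin d)) (c : Fin d → F), g.1.1 = monMat τ c} ?_ ?_ ?_ ?_ ?_ H hH
  · rintro s ⟨c, hc⟩ t ⟨e, he⟩
    refine Subtype.ext (Subtype.ext ?_)
    show s.1.1 * t.1.1 = t.1.1 * s.1.1
    rw [hc, he, diagonal_mul_diagonal, diagonal_mul_diagonal]
    exact congrArg diagonal (funext fun i => mul_comm _ _)
  · rintro t ⟨c, hc⟩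
    rw [hP]
    refine Subgroup.eq_of_le_of_card_ge ?_
      (Subgroup.card_map_of_injective (MulAut.conj t).injective).ge
    rintro _ ⟨u, hu, rfl⟩
    obtain ⟨e, he⟩ : ∃ e : Fin d → F, (t⁻¹).1.1 = diagonal e := inv_mem (show t ∈ T from ⟨c, hc⟩)
    have hu' : u.1 ∈ unitri d F := hu
    show (t.1 * u.1 * (t⁻¹).1) ∈ unitri d F
    have hv : (t.1 * u.1 * (t⁻¹).1).1 = diagonal c * u.1.1 * diagonal e := by
      rw [Matrix.SpecialLinearGroup.coe_mul, Matrix.SpecialLinearGroup.coe_mul, hc, he]
    refine ⟨by rw [hv]; exact ((blockTriangular_diagonal _).mul hu'.1).mul (blockTriangular_diagonal _),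
      fun i => ?_⟩
    have h1 : c i * e i = 1 := by
      have h := congrFun (congrFun (congrArg (fun g : su (d := d) σ => g.1.1) (mul_inv_cancel t)) i) i
      rw [show (t * t⁻¹).1.1 = t.1.1 * (t⁻¹).1.1 from rfl, hc, he, diagonal_mul_diagonal,
        diagonal_apply_eq] at h
      simpa using h
    rw [hv, mul_diagonal, diagonal_mul, hu'.2 i, mul_one, h1]
  · rintro n ⟨τ, c, hn⟩ t ⟨e, he⟩
    refine ⟨fun i => e (τ i), ?_⟩
    have hcomm : t.1.1 * n.1.1 = n.1.1 * diagonal (fun i => e (τ i)) := by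
      rw [hn, he]
      ext i j
      rw [diagonal_mul, mul_diagonal]
      by_cases h : τ j = i
      · subst h; simp [monMat, mul_comm]
      · simp [monMat, h]
    calc (n⁻¹ * t * n).1.1 = (n⁻¹).1.1 * (t.1.1 * n.1.1) := mul_assoc _ _ _
      _ = ((n⁻¹ * n).1.1) * diagonal (fun i => e (τ i)) := by rw [hcomm, ← mul_assoc]; rfl
      _ = _ := by rw [inv_mul_cancel]; simp
  · intro g
    obtain ⟨u, hu, v, hv, τ, c, m, hus, hvs, hms, hc, hm, hge⟩ := exists_bruhat_su σ hσ hlam g.2
    exact ⟨⟨u, hus⟩, by rw [hP]; exact hu, ⟨m, hms⟩, ⟨τ, c, hm⟩, ⟨v, hvs⟩, by rw [hP]; exact hv,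
      Subtype.ext hge⟩
  · intro g hg
    rw [hP] at hg
    obtain ⟨u, hu, v, hv, c, m, hus, hvs, hms, hc, hm, hge⟩ := exists_normalizer_su σ hσ h2 hd hlam hg
    exact ⟨⟨u, hus⟩, by rw [hP]; exact hu, ⟨m, hms⟩, ⟨c, hm⟩, ⟨v, hvs⟩, by rw [hP]; exact hv,
      Subtype.ext hge⟩

end Cfsg.Agent.InvChar68.Pronormal
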