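import Cfsg.Agent.InvChar68.Pronormal.Main
import Cfsg.Agent.InvChar68.Pronormal.UnitaryBase
import Cfsg.Agent.InvChar68.Pronormal.UnitaryEven
import Cfsg.Prelude.Def_Classical

/-!
# Odd index subgroups of `PSU(2 ^ w, q)` are pronormal
-/

set_option autoImplicit false

namespace Cfsg.Agent.InvChar68.Pronormal

open Matrix

variable {F : Type*} [Field F] [Fintype F] (σ : F →+* F)

theorem mem_SU_iff_map {n q : ℕ} (hσq : ∀ x, σ x = x ^ q) (g : SpecialLinearGroup (Fin n) F) :
    g ∈ Cfsg.SU n F q ↔ g.1.transpose * g.1.map σ = 1 := by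
  have key : ∀ u v : Fin n → F,
      Cfsg.hermForm n F q (g.1 *ᵥ u) (g.1 *ᵥ v) = u ⬝ᵥ ((g.1.transpose * g.1.map σ) *ᵥ (σ ∘ v)) := by
    intro u v
    have e : Cfsg.hermForm n F q (g.1 *ᵥ u) (g.1 *ᵥ v) = (g.1 *ᵥ u) ⬝ᵥ ((g.1.map σ) *ᵥ (σ ∘ v)) := by
      unfold Cfsg.hermForm
      refine Finset.sum_congr rfl fun i _ => ?_
      rw [← hσq, RingHom.map_mulVec]
    rw [e, ← mulVec_mulVec, dotProduct_mulVec u g.1.transpose, vecMul_transpose]
  constructor
  · intro h
    ext i j
    have h1 : Cfsg.hermForm n F q (g.1 *ᵥ Pi.single i 1) (g.1 *ᵥ Pi.single j 1) =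
        Cfsg.hermForm n F q (Pi.single i 1) (Pi.single j 1) := h _ _
    rw [key] at h1
    have hs : σ ∘ (Pi.single j 1 : Fin n → F) = Pi.single j 1 := by
      ext k; by_cases hk : k = j
      · subst hk; simp
      · simp [hk]
    rw [hs, single_dotProduct, one_mul, mulVec_single_one] at h1
    simp only [col_apply] at h1
    rw [h1]
    unfold Cfsg.hermForm
    have hs' : ∀ k, (Pi.single j 1 : Fin n → F) k ^ q = (Pi.single j 1 : Fin n → F) k := fun k => by
      rw [← hσq]; exact congrFun hs k
    simp only [hs']
    rw [Finset.sum_eq_single i (fun k _ hk => by simp [hk]) (by simp)]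
    simp [Matrix.one_apply, Pi.single_apply]
  · intro h u v
    show Cfsg.hermForm n F q (g.1 *ᵥ u) (g.1 *ᵥ v) = Cfsg.hermForm n F q u v
    rw [key, h, one_mulVec]
    unfold Cfsg.hermForm
    exact Finset.sum_congr rfl fun i _ => by rw [Function.comp_apply, hσq]

theorem mem_suStd_iff {ι : Type*} [Fintype ι] [DecidableEq ι] {g : SpecialLinearGroup ι F} :
    g ∈ suStd σ ι ↔ g.1.transpose * g.1.map σ = 1 := Iff.rfl

theorem exists_goodU (q : ℕ) (hF : Fintype.card F = q ^ 2) (hσq : ∀ x, σ x = x ^ q)
    (h2 : (2 : F) ≠ 0) : ∀ n, ∃ S : Subgroup (GL (Idx n) F), GoodU σ S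
  | 0 => exists_goodU_two σ hF hσq h2
  | n + 1 => by
    obtain ⟨S, hS⟩ := exists_goodU q hF hσq h2 n
    exact ⟨_, hS.wr σ (by rw [card_idx, pow_succ]; exact even_two.mul_left _) h2⟩

theorem isPronormal_SU_odd (q : ℕ) (hF : Fintype.card F = q ^ 2) (hσq : ∀ x, σ x = x ^ q)
    (h2 : (2 : F) ≠ 0) (n : ℕ) (H : Subgroup (Cfsg.SU (2 ^ (n + 2)) F q)) (hH : ¬ 2 ∣ H.index) :
    Cfsg.IsPronormal H := by
  let e : Idx (n + 1) ≃ Fin (2 ^ (n + 2)) := Fintype.equivFinOfCardEq (card_idx (n + 1))
  have hmem : ∀ g : SpecialLinearGroup (Idx (n + 1)) F,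
      g ∈ suStd σ (Idx (n + 1)) ↔ slReindex e g ∈ Cfsg.SU (2 ^ (n + 2)) F q := by
    intro g
    rw [mem_suStd_iff, mem_SU_iff_map σ hσq]
    show _ ↔ (g.1.submatrix e.symm e.symm).transpose * (g.1.submatrix e.symm e.symm).map σ = 1
    rw [transpose_submatrix, ← submatrix_map, submatrix_mul_equiv]
    constructor
    · intro h; rw [h, submatrix_one_equiv]
    · intro h
      have := congrArg (fun M : Matrix _ _ F => M.submatrix e e) h
      simpa [submatrix_submatrix, submatrix_one_equiv] using this
  let f : suStd σ (Idx (n + 1)) →* Cfsg.SU (2 ^ (n + 2)) F q :=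
    ((slReindex e).domRestrict (suStd σ (Idx (n + 1)))).codRestrict _ fun g => (hmem g.1).mp g.2
  have hf : Function.Surjective f := by
    intro g
    obtain ⟨g', hg'⟩ := slReindex_surjective e g.1
    exact ⟨⟨g', (hmem g').mpr (by rw [hg']; exact g.2)⟩, Subtype.ext hg'⟩
  refine isPronormal_of_surjective f hf (fun K hK => ?_) H hH
  obtain ⟨S, hS⟩ := exists_goodU σ q hF hσq h2 n
  have hev : Even (Fintype.card (Idx n)) := by rw [card_idx, pow_succ]; exact even_two.mul_left _
  exact isPronormal_of_selfNormalizing (G := suStd σ (Idx n ⊕ Idx n))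
    ((slPart (wr S)).subgroupOf (suStd σ (Idx n ⊕ Idx n)))
    ((isPGroup_slPart (isPGroup_wr hS.pgroup)).comap_of_injective _
      (suStd σ (Idx n ⊕ Idx n)).subtype_injective)
    (normalizer_suPart_wr σ hev h2 hS (w := n + 2) (card_idx (n + 1))) K hK

theorem isPronormal_SU_even (q : ℕ) (hF : Fintype.card F = q ^ 2) (hσq : ∀ x, σ x = x ^ q)
    (h2 : (2 : F) = 0) {d : ℕ} (hd : Even d) [NeZero d] (H : Subgroup (Cfsg.SU d F q))
    (hH : ¬ 2 ∣ H.index) : Cfsg.IsPronormal H := by
  have hσσ : ∀ x, σ (σ x) = x := fun x => by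
    rw [hσq, hσq, ← pow_mul, ← sq, ← hF, FiniteField.pow_card]
  have htwo : ∀ x : F, x + x = 0 := fun x => by rw [← two_mul, h2, zero_mul]
  obtain ⟨lam, hlam⟩ : ∃ lam : F, lam + σ lam = 1 := by
    by_contra hno
    push Not at hno
    have hfix : ∀ x, σ x = x := by
      intro x
      by_contra hx
      have hc : x + σ x ≠ 0 := fun e => hx (by
        linear_combination e - htwo x)
      refine hno (x / (x + σ x)) ?_
      rw [map_div₀, map_add, hσσ, add_comm (σ x) x, ← add_div, div_self hc]
    have := Unitary.card_fixed_le hF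
    have hcard : Nat.card {x : F // x ^ q = x} = Fintype.card F := by
      rw [Nat.card_eq_fintype_card.symm]
      exact Nat.card_congr (Equiv.subtypeUnivEquiv fun x => by rw [← hσq]; exact hfix x)
    rw [hcard, hF, sq] at this
    have h1 := Fintype.one_lt_card (α := F)
    rw [hF, sq] at h1
    have : 2 ≤ q := by
      by_contra hq; interval_cases q <;> simp at h1
    nlinarith
  have hne : ∀ i : Fin d, i ≠ i.rev := by
    intro i e
    obtain ⟨m, hm⟩ := hd
    have := congrArg Fin.val e
    rw [Fin.val_rev] at this
    have := i.isLt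
    omega
  -- a hyperbolic basis
  let C : Matrix (Fin d) (Fin d) F := Matrix.of fun k j =>
    if j < j.rev then (if k = j ∨ k = j.rev then 1 else 0)
    else (if k = j.rev then lam else if k = j then lam + 1 else 0)
  let J : Matrix (Fin d) (Fin d) F := Matrix.of fun i j => if j = i.rev then 1 else 0
  have hCJ : C.transpose * C.map σ = J := by
    ext i j
    rw [Matrix.mul_apply]
    simp only [transpose_apply, map_apply]
    by_cases hij : j = i ∨ j = i.rev
    · rw [Finset.sum_eq_add i i.rev (hne i) (fun k _ hk => by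
        have : C k i = 0 := by
          show (if i < i.rev then _ else _) = (0 : F)
          split_ifs with h1 h2' h3 h4 <;> first | rfl | (exfalso; tauto)
        rw [this, zero_mul]) (by simp) (by simp)]
      rcases hij with rfl | rfl
      · show _ = (if j = j.rev then (1 : F) else 0)
        rw [if_neg (hne j)]
        by_cases h : j < j.rev
        · simp [C, h, htwo]
        · simp [C, h, hne j, (hne j).symm]
          linear_combination hlam + (lam * σ lam) * h2 + htwo 1
      · show _ = (if i.rev = i.rev then (1 : F) else 0)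
        rw [if_pos rfl]
        by_cases h : i < i.rev
        · have h' : ¬ i.rev < i.rev.rev := by rw [Fin.rev_rev]; exact not_lt.mpr h.le
          simp [C, h, h', not_lt.mpr h.le, hne i, (hne i).symm]
          first | linear_combination lam * h2 | linear_combination σ lam * h2 | linear_combination h2 | linear_combination hlam | linear_combination -hlam | linear_combination hlam + lam * h2 | linear_combination hlam + σ lam * h2
        · have hlt : i.rev < i := lt_of_le_of_ne (not_lt.mp h) (hne i).symm
          simp [C, h, hlt, hne i, (hne i).symm]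
          first | linear_combination lam * h2 | linear_combination σ lam * h2 | linear_combination h2 | linear_combination hlam | linear_combination -hlam | linear_combination hlam + lam * h2 | linear_combination hlam + σ lam * h2
    · push Not at hij
      rw [show J i j = 0 from if_neg hij.2]
      refine Finset.sum_eq_zero fun k _ => ?_
      by_cases hki : k = i ∨ k = i.rev
      · have : C k j = 0 := by
          have h1 : k ≠ j := by
            rcases hki with rfl | rfl
            · exact hij.1.symm
            · exact hij.2.symm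
          have h2' : k ≠ j.rev := by
            rcases hki with rfl | rfl
            · intro e; exact hij.2 (by rw [e, Fin.rev_rev])
            · intro e; exact hij.1 (Fin.rev_injective e).symm
          show (if j < j.rev then _ else _) = (0 : F)
          split_ifs <;> first | rfl | (exfalso; tauto)
        rw [this, map_zero, mul_zero]
      · have : C k i = 0 := by
          show (if i < i.rev then _ else _) = (0 : F)
          split_ifs <;> first | rfl | (exfalso; tauto)
        rw [this, zero_mul]
  have hJ2 : J * J = 1 := by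
    ext i j
    rw [Matrix.mul_apply, Finset.sum_eq_single i.rev]
    · simp [J, Matrix.one_apply, eq_comm]
    · intro k _ hk; simp [J, hk]
    · simp
  have hCdet : C.det ≠ 0 := by
    intro h0
    have h := congrArg Matrix.det hJ2
    rw [← hCJ, det_mul, det_mul, det_transpose, h0, zero_mul, zero_mul, det_one] at h
    exact zero_ne_one h
  let Cg : GL (Fin d) F := GeneralLinearGroup.mkOfDetNeZero C hCdet
  set D := ((Cg⁻¹ : GL (Fin d) F) : Matrix (Fin d) (Fin d) F) with hD
  have h1 : C * D = 1 := by
    rw [hD, show C = (Cg : Matrix (Fin d) (Fin d) F) from rfl, ← Units.val_mul, mul_inv_cancel,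
      Units.val_one]
  have h1' : D * C = 1 := by
    rw [hD, show C = (Cg : Matrix (Fin d) (Fin d) F) from rfl, ← Units.val_mul, inv_mul_cancel,
      Units.val_one]
  let cg : SpecialLinearGroup (Fin d) F →* SpecialLinearGroup (Fin d) F :=
    { toFun := fun g => ⟨C * g.1 * D, by
        rw [det_mul, det_mul, g.2, mul_one, ← det_mul, h1, det_one]⟩
      map_one' := Subtype.ext (by show C * 1 * D = 1; rw [mul_one, h1])
      map_mul' := fun g h => Subtype.ext (by
        show C * (g.1 * h.1) * D = (C * g.1 * D) * (C * h.1 * D)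
        rw [show (C * g.1 * D) * (C * h.1 * D) = C * g.1 * (D * C) * h.1 * D by noncomm_ring, h1',
          mul_one]
        noncomm_ring) }
  have hJadj : ∀ M : Matrix (Fin d) (Fin d) F, adj σ M = J * (M.map σ).transpose * J := by
    intro M
    ext i j
    rw [Matrix.mul_apply, Finset.sum_eq_single j.rev]
    · rw [Matrix.mul_apply, Finset.sum_eq_single i.rev]
      · simp [adj, J]
      · intro k _ hk; simp [J, hk]
      · simp
    · intro k _ hk
      have : J k j = 0 := if_neg fun e => hk (by rw [e, Fin.rev_rev])
      rw [this, mul_zero]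
    · simp
  have hm : ∀ X Y : Matrix (Fin d) (Fin d) F, X * Y = 1 → X.map σ * Y.map σ = 1 := fun X Y h => by
    rw [← Matrix.map_mul, h, Matrix.map_one _ (map_zero σ) (map_one σ)]
  have hmem : ∀ g : SpecialLinearGroup (Fin d) F, g ∈ su σ ↔ cg g ∈ Cfsg.SU d F q := by
    intro g
    rw [mem_su_iff, mem_SU_iff_map σ hσq]
    show _ ↔ (C * g.1 * D).transpose * (C * g.1 * D).map σ = 1
    set M := g.1
    rw [Matrix.map_mul, Matrix.map_mul, transpose_mul, transpose_mul,
      show D.transpose * (M.transpose * C.transpose) * (C.map σ * M.map σ * D.map σ) =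
        D.transpose * (M.transpose * (C.transpose * C.map σ) * M.map σ) * D.map σ by noncomm_ring, hCJ]
    have hadj : adj σ M * M = J * ((M.map σ).transpose * J * M) := by rw [hJadj]; noncomm_ring
    have hJσ : J.map σ = J := by ext i j; simp [J, apply_ite σ]
    have hJT : J.transpose = J := by
      ext i j
      simp only [J, transpose_apply, of_apply]
      exact if_congr ⟨fun h => by rw [h, Fin.rev_rev], fun h => by rw [h, Fin.rev_rev]⟩ rfl rfl
    have hflip : M.transpose * J * M.map σ = J ↔ (M.map σ).transpose * J * M = J := by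
      constructor
      · intro h
        have := congrArg Matrix.transpose h
        rwa [transpose_mul, transpose_mul, transpose_transpose, hJT, ← mul_assoc] at this
      · intro h
        have := congrArg Matrix.transpose h
        rwa [transpose_mul, transpose_mul, transpose_transpose, hJT, ← mul_assoc] at this
    have hD1 : D.transpose * J * D.map σ = 1 := by
      rw [← hCJ, show D.transpose * (C.transpose * C.map σ) * D.map σ =
        (D.transpose * C.transpose) * (C.map σ * D.map σ) by noncomm_ring, ← transpose_mul, h1,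
        transpose_one, one_mul, hm C D h1]
    constructor
    · intro h
      rw [hadj] at h
      have h' : (M.map σ).transpose * J * M = J := by
        calc (M.map σ).transpose * J * M = J * (J * ((M.map σ).transpose * J * M)) := by
              rw [← mul_assoc J J, hJ2, one_mul]
          _ = J := by rw [h, mul_one]
      rw [hflip.mpr h', hD1]
    · intro h
      have h' : M.transpose * J * M.map σ = J := by
        calc M.transpose * J * M.map σ
            = (D * C).transpose * (M.transpose * J * M.map σ) * (D.map σ * C.map σ) := by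
              rw [h1', transpose_one, one_mul, hm D C h1', mul_one]
          _ = C.transpose * (D.transpose * (M.transpose * J * M.map σ) * D.map σ) * C.map σ := by
              rw [transpose_mul]; noncomm_ring
          _ = J := by rw [h, mul_one, hCJ]
      rw [hadj, hflip.mp h', hJ2]
  let f : su (d := d) σ →* Cfsg.SU d F q :=
    (cg.domRestrict (su (d := d) σ)).codRestrict _ fun g => (hmem g.1).mp g.2
  have hf : Function.Surjective f := by
    intro g
    obtain ⟨g', hg'⟩ : ∃ g', cg g' = g.1 := by
      refine ⟨⟨D * g.1.1 * C, by rw [det_mul, det_mul, g.1.2, mul_one, ← det_mul, h1', det_one]⟩,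
        Subtype.ext ?_⟩
      show C * (D * g.1.1 * C) * D = g.1.1
      rw [show C * (D * g.1.1 * C) * D = (C * D) * g.1.1 * (C * D) by noncomm_ring, h1, one_mul, mul_one]
    exact ⟨⟨g', (hmem g').mpr (by rw [hg']; exact g.2)⟩, Subtype.ext hg'⟩
  exact isPronormal_of_surjective f hf (fun K hK => isPronormal_su_even σ hσσ h2 hd hlam K hK) H hH

theorem isPronormal_psu (q : ℕ) (hF : Fintype.card F = q ^ 2) (w : ℕ) (hw : 2 ≤ w)
    (H : Subgroup (Cfsg.PSU (2 ^ w) F q)) (hH : Odd H.index) : Cfsg.IsPronormal H := by
  refine isPronormal_of_surjective (QuotientGroup.mk' _) (QuotientGroup.mk'_surjective _)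
    (fun K hK => ?_) H (fun h => by rw [Nat.odd_iff, ← Nat.two_dvd_ne_zero] at hH; exact hH h)
  obtain ⟨n, rfl⟩ : ∃ n, w = n + 2 := ⟨w - 2, by omega⟩
  let τ := Unitary.conjHom hF
  have hτ : ∀ x, τ x = x ^ q := Unitary.conjHom_apply hF
  by_cases h2 : (2 : F) = 0
  · haveI : NeZero (2 ^ (n + 2)) := ⟨by positivity⟩
    exact isPronormal_SU_even τ q hF hτ h2 ⟨2 ^ (n + 1), by rw [pow_succ]; ring⟩ K hK
  · exact isPronormal_SU_odd τ q hF hτ h2 n K hK

end Cfsg.Agent.InvChar68.Pronormal
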